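/-
Interface of the project ON3 (S2206: simple groups of 2-rank 3 all of whose 2-locals are 2-constrained).
All steps are `Prop`s here; the files that prove them import this file.
-/
import Cfsg.Agent.Even.CharP
import Cfsg.Agent.Transfer.SL23

set_option autoImplicit false
open Cfsg Subgroup CL.Even
open scoped commutatorElement

namespace CL.ON3

universe u

section Defs
variable {G : Type*} [Group G]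

/-- `C_G(t)` -/
abbrev cen (t : G) : Subgroup G := centralizer ({t} : Set G)

/-- the standing hypotheses -/
structure Hyp (G : Type*) [Group G] : Prop where
  simple : IsSimpleGroup G
  nonab : ¬ IsMulCommutative G
  c2 : ∀ T : Subgroup G, IsPGroup 2 T → T ≠ ⊥ → IsCharP 2 𝒩(T)
  cz : ∀ t : G, t ≠ 1 → t * t = 1 → IsCharP 2 (cen t)
  rk : PRankLE 2 3 G
  noSE : ∀ H : Subgroup G, ¬ IsStronglyEmbedded H

/-- `V` is elementary abelian of order 8 and `N(V)` induces all automorphisms of `V` -/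
structure Full (V : Subgroup G) : Prop where
  sq : ∀ v ∈ V, v * v = 1
  card : Nat.card V = 8
  aut : ∀ α : MulAut V, ∃ m ∈ 𝒩(V), ∀ x : V, m * x * m⁻¹ = α x

/-- `d⁻¹ d^s` -/
def gam (s d : G) : G := d⁻¹ * (s * d * s⁻¹)

/-! ### Case II: a normal subgroup of symplectic type in `C(z)` -/

/-- squares and commutators of `D` lie in `⟨z⟩`, and `C(z)` normalizes `D` -/
structure SD (z : G) (D : Subgroup G) : Prop where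
  z1 : z ≠ 1
  zz : z * z = 1
  zD : z ∈ D
  cz : ∀ x ∈ D, x * z = z * x
  sq : ∀ x ∈ D, x * x = 1 ∨ x * x = z
  cm : ∀ x ∈ D, ∀ y ∈ D, x * y = y * x ∨ x * y = y * x * z
  nm : ∀ h : G, h * z = z * h → h ∈ 𝒩(D)

/-- `D ≅ Q₈ ∘ D₈` -/
structure TA (z : G) (D : Subgroup G) : Prop where
  card : Nat.card D = 32
  ctr : ∀ x ∈ D, x ∈ 𝒞(D) → x = 1 ∨ x = z
  rk2 : ∀ A : Subgroup G, A ≤ D → (∀ a ∈ A, a * a = 1) → Nat.card A ≤ 4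
  five : ∃ g : G, g ^ 5 = 1 ∧ g * z = z * g ∧ g ∉ 𝒞(D) ∧ g ∈ 𝒞(𝒞(D))

/-- `D ≅ 4 ∘ 2^{1+4}` -/
structure TB (z : G) (D : Subgroup G) : Prop where
  card : Nat.card D = 64
  ctr : ∃ a ∈ D, a * a = z ∧ ∀ x ∈ D, x ∈ 𝒞(D) ↔ x ∈ zpowers a
  conj : ∀ e ∈ D, ∀ f ∈ D, e * e = 1 → f * f = 1 → e ≠ 1 → e ≠ z → f ≠ 1 → f ≠ z → IsConj e f

/-- `D` extraspecial of order `2⁷` -/
structure TC (z : G) (D : Subgroup G) : Prop where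
  card : Nat.card D = 128
  ctr : ∀ x ∈ D, x ∈ 𝒞(D) → x = 1 ∨ x = z

/-- one of the three types -/
def Typ (z : G) (D : Subgroup G) : Prop := TA z D ∨ TB z D ∨ TC z D

/-- `s` acts trivially on `D/⟨z⟩` -/
def T0 (z : G) (D : Subgroup G) (s : G) : Prop := ∀ d ∈ D, gam s d = 1 ∨ gam s d = z

/-- `s` acts on `D/⟨z⟩` as a transvection -/
structure T1 (z : G) (D : Subgroup G) (s n : G) : Prop where
  nD : n ∈ D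
  nn : n * n = z
  inv : s * n * s⁻¹ = n⁻¹
  nc : n ∉ 𝒞(D)
  mem : ∀ d ∈ D, gam s d ∈ zpowers n
  iff : ∀ d ∈ D, (gam s d = 1 ∨ gam s d = z) ↔ d * n = n * d

/-- `[D/⟨z⟩, s]` has order 4 -/
structure T2 (z : G) (D : Subgroup G) (s j n : G) : Prop where
  jD : j ∈ D
  nD : n ∈ D
  jj : j * j = 1
  j1 : j ≠ 1
  jz : j ≠ z
  js : s * j = j * s
  nn : n * n = z
  inv : s * n * s⁻¹ = n⁻¹
  jn : j * n = n * j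
  mem : ∀ d ∈ D, gam s d ∈ closure ({n, j} : Set G)
  exj : ∃ d ∈ D, gam s d = j
  exn : ∃ d ∈ D, gam s d = n

/-! ### Case I with `C(V)` of exponent `2ⁿ ≥ 4` -/

/-- an element `e` inducing an involution on the homocyclic group `C(V)` -/
structure IB (V : Subgroup G) (n : ℕ) (e d y : G) : Prop where
  dR : d ∈ 𝒞(V)
  yR : y ∈ 𝒞(V)
  cardC : Nat.card (𝒞(V) ⊓ cen e : Subgroup G) ≤ 2 ^ (n + 1)
  inv : ∀ r ∈ 𝒞(V), e * r * e⁻¹ = r⁻¹ ↔ r ∈ closure ({d, y} : Set G)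
  comm : ∀ r ∈ 𝒞(V), gam e r ∈ closure ({d, y * y} : Set G)
  exd : ∃ r ∈ 𝒞(V), gam e r = d
  d1 : d ^ 2 ^ (n - 1) ≠ 1
  dz : ∀ v ∈ V, gam e v = 1 ∨ gam e v = d ^ 2 ^ (n - 1)
  y1 : y ^ 2 ^ (n - 1) ≠ 1
  yz : y ^ 2 ^ (n - 1) ≠ d ^ 2 ^ (n - 1)

/-- the facts on `R = C(V) ≅ (ℤ/2ⁿ)³`, `n ≥ 2` -/
structure HF (V : Subgroup G) (n : ℕ) : Prop where
  full : Full V
  two : 2 ≤ n
  ab : 𝒞(V) ≤ 𝒞(𝒞(V))
  card : Nat.card 𝒞(V) = 2 ^ (3 * n)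
  pw : ∀ r ∈ 𝒞(V), r ^ 2 ^ n = 1
  om : ∀ r ∈ 𝒞(V), r * r = 1 → r ∈ V
  surj : ∀ v ∈ V, ∃ r ∈ 𝒞(V), r ^ 2 ^ (n - 1) = v
  gen : ∀ S : Subgroup G, S ≤ 𝒞(V) → (∀ v ∈ V, ∃ r ∈ S, r ^ 2 ^ (n - 1) = v) → 𝒞(V) ≤ S
  ib : ∀ e ∈ 𝒩(V), e ∉ 𝒞(V) → e * e ∈ 𝒞(V) → ∃ d y, IB V n e d y

/-- the Higman-Sims type configuration -/
structure HS (V : Subgroup G) (z : G) (P : Subgroup G) (e : G) : Prop where
  zV : z ∈ V
  z1 : z ≠ 1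
  le : P ≤ 𝒩(V)
  trv : ∀ p ∈ P, ∀ v ∈ V, gam p v = 1 ∨ gam p v = z
  nrm : 𝒩(V) ⊓ cen z ≤ 𝒩(P)
  nR : ¬ 𝒞(V) ≤ P
  eP : e ∈ P
  eR : e ∉ 𝒞(V)
  ee : e * e = 1

/-! ### Case I with `C(V) = V` -/

abbrev Q8 := QuaternionGroup 2
/-- `i` -/
def qi : Q8 := .a 1
/-- `j` -/
def qj : Q8 := .xa 0
/-- `k = i j` -/
def qk : Q8 := qi * qj
/-- `-1` -/
def qm : Q8 := .a 2
/-- `i, j, k` -/
def bas : Fin 3 → Q8 := ![qi, qj, qk]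
/-- the automorphism `i ↦ j ↦ k ↦ i` -/
def th : Q8 → Q8 := CL.Transfer.q8Fun qj qk
/-- the automorphism `i ↦ i`, `j ↦ k` -/
def xi : Q8 → Q8 := CL.Transfer.q8Fun qi qk

/-- `Q = Q₁ Q₂` -/
abbrev QQ (f : Fin 2 → (Q8 →* G)) : Subgroup G := (f 0).range ⊔ (f 1).range

/-- the structure of `C_M(z)` for `M = N(V) = 2³·L₃(2)`; `z = f 0 qm` -/
structure Fr (V : Subgroup G) (f : Fin 2 → (Q8 →* G)) (x ρ : G) : Prop where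
  full : Full V
  cV : 𝒞(V) ≤ V
  inj : ∀ s, Function.Injective (f s)
  comm : ∀ a b, f 0 a * f 1 b = f 1 b * f 0 a
  zz : f 1 qm = f 0 qm
  meet : ∀ a b, f 0 a = f 1 b → a = 1 ∨ a = qm
  memV : ∀ g, g ∈ V ↔ ∃ a, g = f 0 a * f 1 a ∨ g = f 0 a * f 1 a * f 0 qm
  cQ : ∀ g ∈ 𝒞(QQ f), g = 1 ∨ g = f 0 qm
  rho : ∀ s a, ρ * f s a * ρ⁻¹ = f s (th a)
  rho3 : ρ ^ 3 = 1
  xact : ∀ s a, x * f s a * x⁻¹ = f s (xi a)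
  xx : x * x = f 0 qi * f 1 qi
  Y : 𝒩(V) ⊓ cen (f 0 qm) ≤ QQ f ⊔ closure {x, ρ}
  inv : ∀ t ∈ 𝒩(V), t * t = 1 → ∃ m ∈ 𝒩(V), m * t * m⁻¹ ∈ QQ f
  conj : ∀ v ∈ V, v ≠ 1 → ∃ m ∈ 𝒩(V), m * v * m⁻¹ = f 0 qm

/-- the action of `N(Q)` on the six cyclic subgroups of order 4 of `Q` -/
structure Phi (f : Fin 2 → (Q8 →* G)) (φ : 𝒩(QQ f) →* Equiv.Perm (Fin 2 × Fin 3)) : Prop where
  act : ∀ (g : 𝒩(QQ f)) (s : Fin 2) (k : Fin 3),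
    (g : G) * f s (bas k) * (g : G)⁻¹ = f (φ g (s, k)).1 (bas (φ g (s, k)).2) ∨
      (g : G) * f s (bas k) * (g : G)⁻¹ = f (φ g (s, k)).1 (bas (φ g (s, k)).2) * f 0 qm
  blk : ∀ (g : 𝒩(QQ f)) (s : Fin 2) (k k' : Fin 3), (φ g (s, k)).1 = (φ g (s, k')).1
  ker : ∀ g : 𝒩(QQ f), φ g = 1 ↔ (g : G) ∈ QQ f

/-- `(SL₂(3) ∘ SL₂(3)).2` -/
abbrev Hp (f : Fin 2 → (Q8 →* G)) (x ρ r : G) : Subgroup G := QQ f ⊔ closure {x, ρ, r}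

/-- an element of order 3 acting on `Q₁` and centralizing `Q₂` -/
structure R3 (f : Fin 2 → (Q8 →* G)) (r : G) : Prop where
  r3 : r ^ 3 = 1
  r0 : ∀ a, r * f 0 a * r⁻¹ = f 0 (th a)
  r1 : ∀ a, r * f 1 a * r⁻¹ = f 1 a

/-- `C(z)/Q ≅ S₃ × S₃` -/
structure CaseH (f : Fin 2 → (Q8 →* G)) (x ρ r h : G) : Prop where
  idx : (Hp f x ρ r).relIndex (cen (f 0 qm)) = 2
  nm : h ∉ Hp f x ρ r
  h0 : ∀ a, h * f 0 a * h⁻¹ = f 0 (xi a)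
  h1 : ∀ a, h * f 1 a * h⁻¹ = f 1 a
  nrm : ∀ s, cen (f 0 qm) ≤ 𝒩((f s).range)

/-- `C(z)/Q ≅ 3² : 4` -/
structure CaseW (f : Fin 2 → (Q8 →* G)) (x ρ r w : G) : Prop where
  w0 : ∀ a, w * f 0 a * w⁻¹ = f 1 a
  w1 : ∀ a, w * f 1 a * w⁻¹ = f 0 (xi a)
  sq : ∀ g ∈ cen (f 0 qm), g * g ∈ QQ f → g ∈ Hp f x ρ r

end Defs

/-! ### Linear algebra -/

section Lin
variable {Γ V Z : Type*} [Group Γ] [AddCommGroup V] [Module (ZMod 2) V] [AddCommGroup Z] [Module (ZMod 2) Z]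

/-- `q` is a quadratic map with polar form `b`, and totally singular subspaces are small -/
structure QD (q : V → Z) (b : V →ₗ[ZMod 2] V →ₗ[ZMod 2] Z) : Prop where
  add : ∀ x y, q (x + y) = q x + q y + b x y
  rk : ∀ S : Submodule (ZMod 2) V, (∀ v ∈ S, q v = 0) → Nat.card S * Nat.card Z ≤ 8

/-- `[V, g]` -/
abbrev cmt (σ : V ≃ₗ[ZMod 2] V) : Submodule (ZMod 2) V :=
  LinearMap.range ((σ : V →ₗ[ZMod 2] V) - LinearMap.id)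

/-- the action of `⟨g^X⟩` on `D/D'` -/
structure LS (ρ : Γ →* (V ≃ₗ[ZMod 2] V)) (q : V → Z) (b : V →ₗ[ZMod 2] V →ₗ[ZMod 2] Z) (g : Γ) : Prop
    extends QD q b where
  inv : ∀ γ v, q (ρ γ v) = q v
  span : ∀ l : Z →ₗ[ZMod 2] ZMod 2, (∀ v, l (q v) = 0) → l = 0
  g5 : g ^ 5 = 1
  gen : normalClosure ({g} : Set Γ) = ⊤
  nsol : ¬ Group.IsSolvable ρ.range
  comm : ∀ l : V →ₗ[ZMod 2] ZMod 2, (∀ γ v, l (ρ γ v) = l v) → l = 0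
  w16 : Nat.card (cmt (ρ g)) = 16
  faith : ∀ γ, (∀ v w, b (ρ γ v - v) w = 0) → ρ γ = 1

/-- the three shapes -/
def LinOut (ρ : Γ →* (V ≃ₗ[ZMod 2] V)) (q : V → Z) (b : V →ₗ[ZMod 2] V →ₗ[ZMod 2] Z) : Prop :=
  (Nat.card V = 16 ∧ (∀ v, (∀ w, b v w = 0) → v = 0) ∧
      ∀ S : Submodule (ZMod 2) V, (∀ v ∈ S, q v = 0) → Nat.card S ≤ 2) ∨
    (Nat.card V = 32 ∧ (∃ a, q a ≠ 0 ∧ ∀ v, (∀ w, b v w = 0) ↔ v = 0 ∨ v = a) ∧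
      ∀ v w, v ≠ 0 → w ≠ 0 → q v = 0 → q w = 0 → ∃ γ, ρ γ v = w) ∨
    (Nat.card V = 64 ∧ ∀ v, (∀ w, b v w = 0) → v = 0)

end Lin

section Loc
variable {X : Type*} [Group X]

/-- a critical subgroup `C` of `Q = O₂(X)` whose centre is centralized by the perfect normal subgroup `L` -/
structure CS (L C : Subgroup X) : Prop where
  c2 : 𝒞(pCore 2 X) ≤ pCore 2 X
  rk : PRankLE 2 3 X
  Ln : L.Normal
  L0 : L ≠ ⊥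
  perf : L ≤ ⁅L, L⁆
  Cn : C.Normal
  CQ : C ≤ pCore 2 X
  sq : ∀ c ∈ C, c * c ∈ 𝒞(C)
  cm : ⁅C, pCore 2 X⁆ ≤ C ⊓ 𝒞(C)
  sc : pCore 2 X ⊓ 𝒞(C) ≤ C
  LZ : L ≤ 𝒞(C ⊓ 𝒞(C))

/-- `D = [Q, L]`, `L = ⟨g^X⟩` -/
structure GS (D L : Subgroup X) (g : X) : Prop where
  c2 : 𝒞(pCore 2 X) ≤ pCore 2 X
  rk : PRankLE 2 3 X
  Dn : D.Normal
  DQ : D ≤ pCore 2 X
  g5 : g ^ 5 = 1
  gen : L = normalClosure {g}
  nsol : ¬ Group.IsSolvable L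
  DL : D ≤ ⁅D, L⁆
  QL : ⁅pCore 2 X, L⁆ ≤ D
  cls : ⁅D, D⁆ ≤ 𝒞(D) ⊓ 𝒞(L)
  el : ∀ x ∈ ⁅D, D⁆, x * x = 1
  sq : ∀ x ∈ D, x * x ∈ ⁅D, D⁆
  QD : ⁅D, pCore 2 X⁆ ≤ ⁅D, D⁆
  e16 : (⁅D, D⁆).relIndex (⁅D, zpowers g⁆ ⊔ ⁅D, D⁆) = 16

end Loc

/-! ### The steps: local theorem -/

/-- job ON3-PRIME -/
def PrimeThm : Prop :=
  ∀ (W Z : Type u) [AddCommGroup W] [Module (ZMod 2) W] [Finite W] [AddCommGroup Z] [Module (ZMod 2) Z]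
    [Finite Z] (q : W → Z) (b : W →ₗ[ZMod 2] W →ₗ[ZMod 2] Z) (σ : W ≃ₗ[ZMod 2] W) (p : ℕ),
    QD q b → p.Prime → 5 ≤ p → σ ^ p = 1 → (∀ w, σ w = w → w = 0) → (∀ w, q (σ w) = q w) →
      Nontrivial W → Nontrivial Z → p = 5 ∧ Nat.card W = 16

/-- job ON3-A5 -/
def A5Thm : Prop :=
  ∀ (Γ V Z : Type u) [Group Γ] [Finite Γ] [AddCommGroup V] [Module (ZMod 2) V] [Finite V] [AddCommGroup Z]
    [Module (ZMod 2) Z] [Finite Z] (ρ : Γ →* (V ≃ₗ[ZMod 2] V)) (q : V → Z)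
    (b : V →ₗ[ZMod 2] V →ₗ[ZMod 2] Z) (g : Γ), LS ρ q b g → ∀ w ∈ cmt (ρ g), (∃ u, b w u ≠ 0) →
    (∀ γ, ∃ i : Fin 5, ∀ u, b (ρ γ w - ρ (g ^ i.val) w) u = 0) →
    ∃ π : Γ →* Equiv.Perm (Fin 5), alternatingGroup (Fin 5) = π.range ∧ (∀ γ, π γ = 1 → ρ γ = 1) ∧
      ∀ γ (i : Fin 5) u, b (ρ γ (ρ (g ^ i.val) w) - ρ (g ^ (π γ i).val) w) u = 0

/-- job ON3-LINB -/
def LinBThm : Prop :=
  ∀ (Γ V Z : Type u) [Group Γ] [Finite Γ] [AddCommGroup V] [Module (ZMod 2) V] [Finite V] [AddCommGroup Z]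
    [Module (ZMod 2) Z] [Finite Z] (ρ : Γ →* (V ≃ₗ[ZMod 2] V)) (q : V → Z)
    (b : V →ₗ[ZMod 2] V →ₗ[ZMod 2] Z) (g : Γ), LS ρ q b g → Nat.card Z = 2

/-- job ON3-LINC -/
def LinCThm : Prop :=
  ∀ (Γ V Z : Type u) [Group Γ] [Finite Γ] [AddCommGroup V] [Module (ZMod 2) V] [Finite V] [AddCommGroup Z]
    [Module (ZMod 2) Z] [Finite Z] (ρ : Γ →* (V ≃ₗ[ZMod 2] V)) (q : V → Z)
    (b : V →ₗ[ZMod 2] V →ₗ[ZMod 2] Z) (g : Γ), LS ρ q b g → Nat.card Z = 2 → LinOut ρ q b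

/-- job ON3-CS -/
def CSThm : Prop :=
  ∀ (X : Type u) [Group X] [Finite X], 𝒞(pCore 2 X) ≤ pCore 2 X → PRankLE 2 3 X → ¬ Group.IsSolvable X →
    (∃ V : Subgroup X, V.Normal ∧ Full V) ∨ ∃ L C : Subgroup X, CS L C

/-- job ON3-GS -/
def GSThm : Prop :=
  ∀ (X : Type u) [Group X] [Finite X] (L C : Subgroup X), CS L C → ∃ (D L' : Subgroup X) (g : X), GS D L' g

/-- job ON3-LOC -/
def LocThm : Prop :=
  ∀ (X : Type u) [Group X] [Finite X] (D L : Subgroup X) (g : X), GS D L g →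
    ∃ z : X, (∀ x, x * z = z * x) ∧ SD z D ∧ Typ z D

/-! ### The steps: case II -/

/-- job ON3-TK -/
def TKThm : Prop :=
  ∀ (G : Type u) [Group G] [Finite G] (z : G) (D : Subgroup G) (s : G), PRankLE 2 3 G → SD z D → Typ z D →
    s ∉ D → s * s = 1 → s * z = z * s → T0 z D s ∨ (∃ n, T1 z D s n) ∨ ∃ j n, T2 z D s j n

/-- job ON3-TK -/
def QThm : Prop :=
  ∀ (G : Type u) [Group G] [Finite G] (z : G) (D : Subgroup G) (s i j : G), PRankLE 2 3 G → SD z D →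
    Typ z D → s ∉ D → s * s = 1 → i * i = s → j * j = s → i * j = j * i * s → i * z = z * i → j * z = z * j →
    (∀ x ∈ D, x * s = s * x → (gam i x = 1 ∨ gam i x = z) ∧ (gam j x = 1 ∨ gam j x = z)) → s ∈ 𝒞(D)

/-- job ON3-S2A -/
def S2aThm : Prop :=
  ∀ (G : Type u) [Group G] [Finite G] (z : G) (D : Subgroup G), PRankLE 2 3 G → SD z D → Typ z D →
    ∀ g : G, g * z * g⁻¹ ∈ D → z ∈ cj g D

/-- job ON3-S2B -/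
def S2bThm : Prop :=
  ∀ (G : Type u) [Group G] [Finite G] (z : G) (D : Subgroup G), PRankLE 2 3 G → SD z D → Typ z D →
    (∀ V : Subgroup G, ¬ Full V) → (∀ g : G, g * z * g⁻¹ ∈ D → z ∈ cj g D) →
    ∀ g : G, g * z * g⁻¹ ∈ D → g * z * g⁻¹ = z

/-- job ON3-S1 -/
def S1Thm : Prop :=
  ∀ (G : Type u) [Group G] [Finite G] (z : G) (D : Subgroup G), Hyp G → SD z D → Typ z D →
    (∀ g : G, g * z * g⁻¹ ∈ D → g * z * g⁻¹ = z) →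
    ∀ g : G, g * z * g⁻¹ * z = z * (g * z * g⁻¹) → g * z * g⁻¹ = z

/-! ### The steps: case I -/

/-- job ON3-QUAD -/
def QuadThm : Prop :=
  ∀ (Γ W V : Type u) [Group Γ] [Finite Γ] [AddCommGroup W] [Module (ZMod 2) W] [Finite W] [AddCommGroup V]
    [Module (ZMod 2) V] (ρ : Γ →* (W ≃ₗ[ZMod 2] W)) (τ : Γ →* (V ≃ₗ[ZMod 2] V)) (q : W → V)
    (b : W →ₗ[ZMod 2] W →ₗ[ZMod 2] V), Nat.card V = 8 → Function.Surjective τ →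
    (∀ x y, q (x + y) = q x + q y + b x y) → (∀ x, q x = 0 → x = 0) → (∀ γ x, q (ρ γ x) = τ γ (q x)) →
    ∀ x y, b x y = 0

/-- job ON3-CLS2 -/
def Cls2Thm : Prop :=
  ∀ (X : Type u) [Group X] [Finite X] (V A B : Subgroup X), PRankLE 2 3 X → V.Normal → Full V → A.Normal →
    B.Normal → IsPGroup 2 B → V ≤ A → A ≤ B → B ≤ 𝒞(A) → (∀ x ∈ B, x * x ∈ A) → ⁅B, B⁆ ≤ A → B ≤ 𝒞(B)

/-- job ON3-HOM -/
def HomThm : Prop :=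
  ∀ (X : Type u) [Group X] [Finite X] (V : Subgroup X), 𝒞(pCore 2 X) ≤ pCore 2 X → PRankLE 2 3 X →
    V.Normal → Full V → ∃ n, 1 ≤ n ∧ Nonempty (𝒞(V) ≃* (Fin 3 → Multiplicative (ZMod (2 ^ n))))

/-- job ON3-BAS -/
def BasThm : Prop :=
  ∀ (G : Type u) [Group G] [Finite G] (V : Subgroup G) (n : ℕ), Full V → 2 ≤ n →
    Nonempty (𝒞(V) ≃* (Fin 3 → Multiplicative (ZMod (2 ^ n)))) → HF V n

/-- job ON3-BIG1 -/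
def Big1Thm : Prop :=
  ∀ (G : Type u) [Group G] [Finite G] (V : Subgroup G) (n : ℕ) (z : G), Hyp G → HF V n → z ∈ V → z ≠ 1 →
    cen z ≤ 𝒩(V) ∨ (n = 2 ∧ ∃ P e, HS V z P e)

/-- job ON3-BIG2 -/
def Big2Thm : Prop :=
  ∀ (G : Type u) [Group G] [Finite G] (V : Subgroup G) (z : G) (P : Subgroup G) (e : G), PRankLE 2 3 G →
    HF V 2 → ¬ HS V z P e

/-- job ON3-BIG3 -/
def Big3Thm : Prop :=
  ∀ (G : Type u) [Group G] [Finite G] (V : Subgroup G) (n : ℕ), PRankLE 2 3 G → HF V n →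
    (∀ z ∈ V, z ≠ 1 → cen z ≤ 𝒩(V)) → ∀ g : G, ∀ x ∈ V, g * x * g⁻¹ ∈ 𝒩(V) → g * x * g⁻¹ ∈ V

/-- job ON3-FR -/
def FrThm : Prop :=
  ∀ (G : Type u) [Group G] [Finite G] (V : Subgroup G), PRankLE 2 3 G → Full V → 𝒞(V) ≤ V →
    ∃ (f : Fin 2 → (Q8 →* G)) (x ρ : G), Fr V f x ρ

/-- job ON3-PHI -/
def PhiThm : Prop :=
  ∀ (G : Type u) [Group G] [Finite G] (V : Subgroup G) (f : Fin 2 → (Q8 →* G)) (x ρ : G), Fr V f x ρ →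
    ∃ φ, Phi f φ

/-- job ON3-NRM -/
def NrmThm : Prop :=
  ∀ (G : Type u) [Group G] [Finite G] (V : Subgroup G) (f : Fin 2 → (Q8 →* G)) (x ρ : G)
    (φ : 𝒩(QQ f) →* Equiv.Perm (Fin 2 × Fin 3)), Hyp G → Fr V f x ρ → Phi f φ → cen (f 0 qm) ≤ 𝒩(QQ f)

/-- job ON3-TRI -/
def TriThm : Prop :=
  ∀ (G : Type u) [Group G] [Finite G] (V : Subgroup G) (f : Fin 2 → (Q8 →* G)) (x ρ : G)
    (φ : 𝒩(QQ f) →* Equiv.Perm (Fin 2 × Fin 3)), Fr V f x ρ → Phi f φ → cen (f 0 qm) ≤ 𝒩(QQ f) →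
    cen (f 0 qm) ≤ 𝒩(V) ∨ ∃ r, R3 f r ∧
      (cen (f 0 qm) ≤ Hp f x ρ r ∨ (∃ h, CaseH f x ρ r h) ∨ ∃ w, CaseW f x ρ r w)

/-- job ON3-CA -/
def CaseAThm : Prop :=
  ∀ (G : Type u) [Group G] [Finite G] (V : Subgroup G) (f : Fin 2 → (Q8 →* G)) (x ρ : G)
    (φ : 𝒩(QQ f) →* Equiv.Perm (Fin 2 × Fin 3)), Fr V f x ρ → Phi f φ → cen (f 0 qm) ≤ 𝒩(V) →
    ∀ g : G, ∀ v ∈ V, g * v * g⁻¹ ∈ 𝒩(V) → g * v * g⁻¹ ∈ V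

/-- job ON3-CA: all involutions of `Hp` are conjugate to `z` -/
def InvThm : Prop :=
  ∀ (G : Type u) [Group G] [Finite G] (V : Subgroup G) (f : Fin 2 → (Q8 →* G)) (x ρ r : G)
    (φ : 𝒩(QQ f) →* Equiv.Perm (Fin 2 × Fin 3)), Fr V f x ρ → Phi f φ → R3 f r →
    ∀ t ∈ Hp f x ρ r, t * t = 1 → t ≠ 1 → IsConj t (f 0 qm)

/-- job ON3-CH -/
def CaseHThm : Prop :=
  ∀ (G : Type u) [Group G] [Finite G] (V : Subgroup G) (f : Fin 2 → (Q8 →* G)) (x ρ r h : G), Hyp G →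
    Fr V f x ρ → R3 f r → (∀ t ∈ Hp f x ρ r, t * t = 1 → t ≠ 1 → IsConj t (f 0 qm)) → ¬ CaseH f x ρ r h

/-- job ON3-CW -/
def CaseWThm : Prop :=
  ∀ (G : Type u) [Group G] [Finite G] (V : Subgroup G) (f : Fin 2 → (Q8 →* G)) (x ρ r w : G)
    (φ : 𝒩(QQ f) →* Equiv.Perm (Fin 2 × Fin 3)), Fr V f x ρ → Phi f φ → R3 f r →
    (∀ t ∈ Hp f x ρ r, t * t = 1 → t ≠ 1 → IsConj t (f 0 qm)) → ¬ CaseW f x ρ r w

/-- job ON3-G2 -/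
def G2Thm : Prop :=
  ∀ (G : Type u) [Group G] [Finite G] (V : Subgroup G) (f : Fin 2 → (Q8 →* G)) (x ρ r : G)
    (φ : 𝒩(QQ f) →* Equiv.Perm (Fin 2 × Fin 3)), Fr V f x ρ → Phi f φ → R3 f r →
    cen (f 0 qm) ≤ Hp f x ρ r →
    ∃ (F : Type) (_ : Field F) (_ : Fintype F), Fintype.card F = 3 ∧ Nonempty (G ≃* ↥(Lie.chevG2.group F))

end CL.ON3
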