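/-
Project ON3: the homocyclic group `C(V)` of rank three and the involutions acting on it.
-/
import Cfsg.Agent.ON3.Defs

set_option autoImplicit false
set_option linter.unusedSectionVars false
open Cfsg Subgroup CL.Even

namespace CL.ON3

universe u

namespace BasJ

variable {k : ℕ}

/-- the coefficient ring -/
abbrev A (k : ℕ) := ZMod (2 ^ (k + 1))
/-- the module -/
abbrev M (k : ℕ) := Fin 3 → A k

theorem h_ne : (2 ^ k : A k) ≠ 0 := fun e => by
  have := (ZMod.natCast_eq_zero_iff (2 ^ k) (2 ^ (k + 1))).1 (by exact_mod_cast e)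
  exact absurd ((Nat.pow_dvd_pow_iff_le_right one_lt_two).1 this) (by omega)

theorem two_h : (2 * 2 ^ k : A k) = 0 := by
  rw [← pow_succ']; exact_mod_cast ZMod.natCast_self (2 ^ (k + 1))

theorem pow_top : (2 ^ (k + 1) : A k) = 0 := (pow_succ' (2 : A k) k).trans two_h

theorem z1 {a : A k} (h : 2 * a = 0) : a = 0 ∨ a = 2 ^ k := by
  rw [← ZMod.natCast_zmod_val a] at h ⊢
  have h1 := (ZMod.natCast_eq_zero_iff (2 * a.val) (2 ^ (k + 1))).1 (by exact_mod_cast h)
  obtain ⟨c, hc⟩ := (Nat.mul_dvd_mul_iff_left two_pos).1 ((pow_succ' 2 k).symm.dvd.trans h1)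
  have h2 := (hc.ge.trans_lt a.val_lt).trans_eq (pow_succ 2 k)
  rw [Nat.mul_lt_mul_left (by positivity)] at h2
  interval_cases c <;> simp [hc]

theorem z2 {a : A k} (h : 2 ^ k * a = 0) : ∃ b, a = 2 * b := by
  rw [← ZMod.natCast_zmod_val a] at h ⊢
  have h1 := (ZMod.natCast_eq_zero_iff (2 ^ k * a.val) (2 ^ (k + 1))).1 (by exact_mod_cast h)
  obtain ⟨c, hc⟩ := (Nat.mul_dvd_mul_iff_left (by positivity)).1 (show 2 ^ k * 2 ∣ 2 ^ k * a.val from h1)
  exact ⟨c, by rw [hc]; push_cast; rfl⟩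

theorem inj_of {B : M k →ₗ[A k] M k} (h : ∀ c, (2 : A k) • c = 0 → B c = 0 → c = 0) : Function.Injective B := by
  have key : ∀ (j : ℕ) (c : M k), (2 ^ j : A k) • c = 0 → B c = 0 → c = 0 := fun j => by
    induction j with
    | zero => exact fun c e _ => by simpa using e
    | succ j ih =>
      exact fun c e e' => h c (ih _ (by rwa [smul_smul, ← pow_succ]) (by rw [map_smul, e', smul_zero])) e'
  exact (injective_iff_map_eq_zero B).2 fun c => key (k + 1) c (by rw [pow_top, zero_smul])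

variable {G : Type*} [Group G] [Finite G] {V : Subgroup G} {φ : M k → G}

/-- coordinates of `C(V)` -/
structure Par (V : Subgroup G) (φ : M k → G) : Prop where
  full : Full V
  add : ∀ x y, φ (x + y) = φ x * φ y
  inj : Function.Injective φ
  mem : ∀ r, r ∈ 𝒞(V) ↔ ∃ x, φ x = r

namespace Par

variable (P : Par V φ)
include P

theorem zero : φ 0 = 1 := by simpa using P.add 0 0
theorem neg (x : M k) : φ (-x) = (φ x)⁻¹ := eq_inv_of_mul_eq_one_left (by rw [← P.add, neg_add_cancel, P.zero])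
theorem mem' (x : M k) : φ x ∈ 𝒞(V) := (P.mem _).2 ⟨x, rfl⟩
theorem eq_one {x : M k} : φ x = 1 ↔ x = 0 := by rw [← P.zero, P.inj.eq_iff]

theorem nsmul (x : M k) (m : ℕ) : φ ((m : A k) • x) = φ x ^ m := by
  induction m with
  | zero => simpa using P.zero
  | succ m ih => rw [Nat.cast_succ, add_smul, one_smul, P.add, ih, pow_succ]

theorem hsmul (x : M k) (j : ℕ) : φ x ^ 2 ^ j = φ ((2 ^ j : A k) • x) := by rw [← P.nsmul]; push_cast; rfl

theorem smul_mem {S : Subgroup G} {x : M k} (h : φ x ∈ S) (a : A k) : φ (a • x) ∈ S := by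
  rw [← ZMod.natCast_zmod_val a, P.nsmul]; exact pow_mem h _

theorem comp {B : M k →ₗ[A k] M k} (hB : Function.Injective B) : Par V (φ ∘ B) :=
  ⟨P.full, fun x y => by simp [P.add], P.inj.comp hB, fun r => (P.mem r).trans
    (Finite.surjective_of_injective hB).exists⟩

theorem ab : 𝒞(V) ≤ 𝒞(𝒞(V)) := fun r hr => mem_centralizer_iff.2 fun s hs => by
  obtain ⟨x, rfl⟩ := (P.mem r).1 hr
  obtain ⟨y, rfl⟩ := (P.mem s).1 hs
  rw [← P.add, ← P.add, add_comm]

theorem memV {r : G} : r ∈ V ↔ ∃ x, (2 : A k) • x = 0 ∧ φ x = r := by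
  have h1 : ∀ r ∈ V, ∃ x, (2 : A k) • x = 0 ∧ φ x = r := fun r hr => by
    have q : ∀ a ∈ V, a⁻¹ = a := fun a ha => inv_eq_of_mul_eq_one_right (P.full.sq a ha)
    obtain ⟨x, rfl⟩ := (P.mem r).1 (mem_centralizer_iff.2 fun s hs => by
      rw [← q _ (mul_mem hs hr), mul_inv_rev, q _ hs, q _ hr])
    exact ⟨x, P.eq_one.1 (by rw [two_smul, P.add, P.full.sq _ hr]), rfl⟩
  let g : (Fin 3 → Bool) → G := fun c => φ fun i => if c i then 2 ^ k else 0
  have h2 : ∀ x, (2 : A k) • x = 0 → φ x ∈ Set.range g := fun x hx => by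
    classical
    refine ⟨fun i => x i = 2 ^ k, congrArg φ (funext fun i => ?_)⟩
    rcases z1 (congrFun hx i) with e | e <;> simp [e, h_ne.symm]
  have h3 : (V : Set G) = Set.range g := Set.eq_of_subset_of_ncard_le (fun r hr => by
    obtain ⟨x, a, rfl⟩ := h1 r hr
    exact h2 x a) (by
      rw [← Nat.card_coe_set_eq (V : Set G), show Nat.card (V : Set G) = 8 from P.full.card, ← Set.image_univ]
      exact (Set.ncard_image_le).trans (by simp [Set.ncard_univ]))
  exact ⟨h1 r, fun ⟨x, a, e⟩ => e ▸ h3.ge (h2 x a)⟩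

theorem surj {v : G} (hv : v ∈ V) : ∃ x, φ ((2 ^ k : A k) • x) = v := by
  obtain ⟨x, a, rfl⟩ := P.memV.1 hv
  have : ∀ i, ∃ b, 2 ^ k * b = x i := fun i =>
    (z1 (congrFun a i)).elim (fun e => ⟨0, by simp [e]⟩) fun e => ⟨1, by simp [e]⟩
  choose b hb using this
  exact ⟨b, congrArg φ (funext hb)⟩

theorem hmem (x : M k) : φ ((2 ^ k : A k) • x) ∈ V := P.memV.2 ⟨_, by rw [smul_smul, two_h, zero_smul], rfl⟩

theorem gen {S : Subgroup G} (hS : S ≤ 𝒞(V)) (h : ∀ v ∈ V, ∃ r ∈ S, r ^ 2 ^ k = v) : 𝒞(V) ≤ S := by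
  have key : ∀ (j : ℕ) (x : M k), ∃ s t, φ s ∈ S ∧ x = s + (2 ^ j : A k) • t := fun j => by
    induction j with
    | zero => exact fun x => ⟨0, x, P.zero ▸ one_mem _, by simp⟩
    | succ j ih =>
      intro x
      obtain ⟨s, t, h1, rfl⟩ := ih x
      obtain ⟨r, h2, h3⟩ := h _ (P.hmem t)
      obtain ⟨s', rfl⟩ := (P.mem r).1 (hS h2)
      rw [P.hsmul, P.inj.eq_iff] at h3
      have : ∀ i, ∃ b, t i - s' i = 2 * b := fun i => z2 (by
        have := congrFun h3 i
        simp only [Pi.smul_apply, smul_eq_mul] at this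
        rw [mul_sub, this, sub_self])
      choose b hb using this
      refine ⟨s + (2 ^ j : A k) • s', b, P.add _ _ ▸ mul_mem h1 (P.smul_mem h2 _), funext fun i => ?_⟩
      simp only [Pi.smul_apply, Pi.add_apply, smul_eq_mul]
      linear_combination 2 ^ j * hb i
  intro r hr
  obtain ⟨x, rfl⟩ := (P.mem r).1 hr
  obtain ⟨s, t, h1, rfl⟩ := key (k + 1) x
  rwa [pow_top, zero_smul, add_zero]

theorem exists_act {m : G} (hm : m ∈ 𝒩(V)) : ∃ α : M k →ₗ[A k] M k, ∀ x, φ (α x) = m * φ x * m⁻¹ := by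
  choose f hf using fun x => (P.mem _).1 (conj_mem (norm_le_norm_cent V hm) (P.mem' x))
  exact ⟨(AddMonoidHom.mk' f fun x y => P.inj (by rw [P.add, hf, hf, hf, P.add]; group)).toZModLinearMap _, hf⟩

theorem exists_norm (f : M k → M k) (h1 : ∀ x y, f (x + y) = f x + f y) (h2 : ∀ x, (2 : A k) • x = 0 → f (f x) = x) :
    ∃ m ∈ 𝒩(V), ∀ x, (2 : A k) • x = 0 → m * φ x * m⁻¹ = φ (f x) := by
  have h0 : f 0 = 0 := by simpa using h1 0 0
  have h3 : ∀ x, (2 : A k) • x = 0 → (2 : A k) • f x = 0 := fun x e => by rw [two_smul, ← h1, ← two_smul (A k), e, h0]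
  choose ψ a b using fun v : V => P.memV.1 v.2
  let g : V →* V := MonoidHom.mk' (fun v => ⟨φ (f (ψ v)), P.memV.2 ⟨_, h3 _ (a v), rfl⟩⟩) fun v w => Subtype.ext (by
    show φ (f (ψ (v * w))) = φ (f (ψ v)) * φ (f (ψ w))
    rw [show ψ (v * w) = ψ v + ψ w from P.inj (by rw [P.add, b, b, b]; rfl), h1, P.add])
  have h4 : ∀ v, g (g v) = v := fun v => Subtype.ext (by
    show φ (f (ψ (g v))) = v
    rw [show ψ (g v) = f (ψ v) from P.inj (b _), h2 _ (a v), b])
  obtain ⟨m, hm, e⟩ := P.full.aut ⟨⟨g, g, h4, h4⟩, g.map_mul⟩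
  refine ⟨m, hm, fun x hx => (e ⟨_, P.memV.2 ⟨x, hx, rfl⟩⟩).trans ?_⟩
  exact congrArg (fun y => φ (f y)) (P.inj (b _))

theorem det_eq {e m m' : G} (hm : m ∈ 𝒩(V)) (hm' : m' ∈ 𝒩(V)) {α : M k →ₗ[A k] M k}
    (hα : ∀ x, φ (α x) = e * φ x * e⁻¹) (h : (m * m')⁻¹ * (e * (m' * m)) ∈ 𝒞(V)) : LinearMap.det α = 1 := by
  obtain ⟨β, hβ⟩ := P.exists_act hm
  obtain ⟨γ, hγ⟩ := P.exists_act hm'
  obtain ⟨δ, hδ⟩ := P.exists_act (inv_mem (mul_mem hm hm'))
  have h1 : δ * (β * γ) = 1 := LinearMap.ext fun x => P.inj (by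
    simp only [Module.End.mul_apply, hδ, hβ, hγ, Module.End.one_apply]; group)
  have h2 : δ * (α * (γ * β)) = 1 := LinearMap.ext fun x => P.inj (by
    simp only [Module.End.mul_apply, hδ, hβ, hγ, hα, Module.End.one_apply]
    refine Eq.trans ?_ (conj_eq_of_mem (P.ab h) (P.mem' x)); group)
  have h3 := congrArg LinearMap.det h1
  have h4 := congrArg LinearMap.det h2
  simp only [map_mul, map_one] at h3 h4
  linear_combination h4 - LinearMap.det α * h3

/-- the shape of an involution in a good basis -/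
theorem shape {e : G} {α : M k →ₗ[A k] M k} (hα : ∀ x, φ (α x) = e * φ x * e⁻¹) (h2 : ∀ x, α (α x) = x)
    (h0 : α ![1, 0, 0] = ![0, 1, 0]) : ∃ p, ∀ c, α c = ![c 1 + p * c 2, c 0 + p * c 2, -c 2] := by
  have h1 : α ![0, 1, 0] = ![1, 0, 0] := by rw [← h0, h2]
  obtain ⟨w, hw⟩ : ∃ w, α ![0, 0, 1] = w := ⟨_, rfl⟩
  have h3 : ∀ c, α c = ![c 1 + w 0 * c 2, c 0 + w 1 * c 2, w 2 * c 2] := fun c => by
    conv_lhs => rw [show c = c 0 • ![1, 0, 0] + c 1 • ![0, 1, 0] + c 2 • ![0, 0, 1] by ext i; fin_cases i <;> simp]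
    rw [map_add, map_add, map_smul, map_smul, map_smul, h0, h1, hw]
    ext i; fin_cases i <;> simp [mul_comm]
  have h4 := h2 ![0, 0, 1]
  rw [hw, h3] at h4
  have a0 : w 1 + w 0 * w 2 = 0 := congrFun h4 0
  have a2 : w 2 * w 2 = 1 := congrFun h4 2
  have h5 : ∀ a : A k, 2 * a = 0 → w 2 * a = a := fun a ha => by
    rcases z1 (a := w 2 * a) (by linear_combination w 2 * ha) with b | b
    · rw [b]; linear_combination a * a2 - w 2 * b
    · rcases z1 ha with c | c
      · rw [c, mul_zero]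
      · rw [b, c]
  obtain ⟨m, hm, b1⟩ := P.exists_norm (fun c => ![c 0 + c 2, c 1 + c 2, c 2])
    (fun x y => by ext i; fin_cases i <;> simp <;> ring) fun x hx => by
      have := congrFun hx 2
      ext i; fin_cases i <;> simp at this ⊢ <;> linear_combination this
  obtain ⟨m', hm', b2⟩ := P.exists_norm
    (fun c => ![c 0 + w 0 * (c 0 + c 1 + w 0 * c 2), c 1, c 2 + (c 0 + c 1 + w 0 * c 2)])
    (fun x y => by ext i; fin_cases i <;> simp <;> ring) fun x hx => by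
      have x0 : 2 * x 0 = 0 := congrFun hx 0
      have x1 : 2 * x 1 = 0 := congrFun hx 1
      have x2 : 2 * x 2 = 0 := congrFun hx 2
      ext i; fin_cases i <;> simp
      · linear_combination (w 0 + w 0 ^ 2) * (x0 + x1 + w 0 * x2)
      · linear_combination (1 + w 0) * (x0 + x1 + w 0 * x2)
  have h6 := P.det_eq hm hm' hα (mem_centralizer_iff.2 fun v hv => by
    obtain ⟨x, hx, rfl⟩ := P.memV.1 hv
    have x0 : 2 * x 0 = 0 := congrFun hx 0
    have x1 : 2 * x 1 = 0 := congrFun hx 1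
    have x2 : 2 * x 2 = 0 := congrFun hx 2
    suffices s : e * (m' * (m * φ x * m⁻¹) * m'⁻¹) * e⁻¹ = m * (m' * φ x * m'⁻¹) * m⁻¹ by
      calc _ = (m * m')⁻¹ * (m * (m' * φ x * m'⁻¹) * m⁻¹) * (e * (m' * m)) := by group
        _ = _ := by rw [← s]; group
    rw [b1 x hx, b2 x hx, b1, b2, ← hα, h3]
    · refine congrArg φ (funext fun i => ?_)
      have y0 := h5 _ x0
      have y1 := h5 _ x1
      have y2 := h5 _ x2
      fin_cases i <;> simp
      · linear_combination w 0 * x2 - x0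
      · linear_combination (x 0 + x 1 + (3 + w 0) * x 2) * a0 - w 0 * (y0 + y1 + (3 + w 0) * y2) - w 0 * x2 - x1
      · linear_combination y0 + y1 + (3 + w 0) * y2 + x2
    · ext i; fin_cases i <;> simp
      exacts [by linear_combination x0 + x2, by linear_combination x1 + x2, x2]
    · ext i; fin_cases i <;> simp
      exacts [by linear_combination x0 + w 0 * (x0 + x1 + w 0 * x2), x1, by linear_combination x0 + x1 + (1 + w 0) * x2])
  rw [← LinearMap.det_toMatrix', Matrix.det_fin_three] at h6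
  simp [LinearMap.toMatrix'_apply, h3] at h6
  refine ⟨w 0, fun c => (h3 c).trans ?_⟩
  rw [show w 1 = w 0 by linear_combination a0 + w 0 * h6, show w 2 = -1 by linear_combination -h6, neg_one_mul]

theorem good {e : G} (he : e ∈ 𝒩(V)) (h1 : e ∉ 𝒞(V)) (h2 : e * e ∈ 𝒞(V)) :
    ∃ (φ : M k → G) (p : A k), Par V φ ∧ ∀ c, e * φ c * e⁻¹ = φ ![c 1 + p * c 2, c 0 + p * c 2, -c 2] := by
  classical
  obtain ⟨α, hα⟩ := P.exists_act he
  obtain ⟨v, hv, h3⟩ : ∃ v ∈ V, e * v * e⁻¹ ≠ v := by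
    by_contra! k
    exact h1 (mem_centralizer_iff.2 fun v hv => (mul_inv_eq_iff_eq_mul.1 (k v hv)).symm)
  obtain ⟨u, hu, h4⟩ := Set.exists_mem_notMem_of_ncard_lt_ncard 
    (s := (({1, v, e * v * e⁻¹, v * (e * v * e⁻¹)} : Finset G) : Set G)) (t := (V : Set G)) (by
      rw [← Nat.card_coe_set_eq (V : Set G), show Nat.card (V : Set G) = 8 from P.full.card, Set.ncard_coe_finset]
      exact Finset.card_le_four.trans_lt (by norm_num))
  obtain ⟨x, rfl⟩ := P.surj hv
  obtain ⟨y, rfl⟩ := P.surj hu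
  simp only [← hα, ← P.add, ← P.zero, Finset.coe_insert, Finset.coe_singleton, Set.mem_insert_iff,
    Set.mem_singleton_iff, P.inj.eq_iff, P.inj.ne_iff, map_smul, not_or] at h3 h4
  have q : ∀ z : M k, (2 ^ k : A k) • z + (2 ^ k : A k) • z = 0 := fun z => by
    rw [← two_smul (A k), smul_smul, two_h, zero_smul]
  have q' : ∀ {z w : M k}, z + (2 ^ k : A k) • w = 0 → (2 ^ k : A k) • w = z := fun {z w} e =>
    add_right_cancel ((q w).trans e.symm)
  have h5 : (2 ^ k : A k) • x ≠ 0 := fun e => h3 (by rw [← map_smul, e, map_zero])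
  have sq : ∀ {φ : M k → G} {α : M k →ₗ[A k] M k}, Par V φ → (∀ x, φ (α x) = e * φ x * e⁻¹) → ∀ x, α (α x) = x :=
    fun P hα x => P.inj (by rw [hα, hα]; refine Eq.trans ?_ (conj_eq_of_mem (P.ab h2) (P.mem' x)); group)
  have h6 : (2 ^ k : A k) • α x ≠ 0 := fun e => h5 (by rw [← sq P hα x, ← map_smul, e, map_zero])
  let B : M k →ₗ[A k] M k := Fintype.linearCombination (A k) ![x, α x, y]
  have hB : ∀ c, B c = c 0 • x + c 1 • α x + c 2 • y := fun c => by
    simp [B, Fintype.linearCombination_apply, Fin.sum_univ_three]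
  have P' := P.comp (B := B) (inj_of fun c a b => by
    rw [hB] at b
    rcases z1 (congrFun a 0) with a0 | a0 <;> rcases z1 (congrFun a 1) with a1 | a1 <;>
      rcases z1 (congrFun a 2) with a2 | a2 <;> rw [a0, a1, a2] at b <;>
      try simp only [zero_smul, zero_add, add_zero] at b
    · ext i; fin_cases i; exacts [a0, a1, a2]
    exacts [(h4.1 b).elim, (h6 b).elim, (h4.2.2.1 (q' b)).elim, (h5 b).elim, (h4.2.1 (q' b)).elim, (h3 (q' b)).elim,
      (h4.2.2.2 (q' b)).elim])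
  obtain ⟨β, hβ⟩ := P'.exists_act he
  obtain ⟨p, hp⟩ := P'.shape hβ (sq P' hβ) (P'.inj (by rw [hβ]; simp [hB, hα]))
  exact ⟨_, p, P', fun c => by rw [← hβ, hp]⟩

theorem ib {e : G} {p : A k} (h : ∀ c, e * φ c * e⁻¹ = φ ![c 1 + p * c 2, c 0 + p * c 2, -c 2]) :
    IB V (k + 1) e (φ ![-1, 1, 0]) (φ ![-p, 0, 1]) := by
  have ga : ∀ c, gam e (φ c) = φ ((c 0 - c 1 + p * c 2) • ![-1, 1, 0] + (-c 2) • (![-p, 0, 1] + ![-p, 0, 1])) :=
    fun c => by
      rw [gam, h, ← P.neg, ← P.add]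
      refine congrArg φ (funext fun i => ?_)
      fin_cases i <;> simp <;> ring
  refine ⟨P.mem' _, P.mem' _, ?_, fun r hr => ?_, fun r hr => ?_, ⟨_, P.mem' ![1, 0, 0], by simp [ga]⟩, ?_,
    fun v hv => ?_, ?_, ?_⟩
  · let g : A k × Bool → G := fun c => φ (c.1 • ![1, 1, 0] + (if c.2 then 2 ^ k else 0 : A k) • ![-p, 0, 1])
    have : ((𝒞(V) ⊓ cen e : Subgroup G) : Set G) ⊆ Set.range g := fun r hr => by
      classical
      obtain ⟨c, rfl⟩ := (P.mem r).1 hr.1
      have a := P.inj ((h c).symm.trans (mul_inv_eq_iff_eq_mul.2 (mem_centralizer_singleton_iff.1 hr.2).symm))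
      have a0 : c 1 + p * c 2 = c 0 := congrFun a 0
      have a2 : -c 2 = c 2 := congrFun a 2
      refine ⟨(c 1, c 2 = 2 ^ k), congrArg φ ?_⟩
      rw [show (if decide (c 2 = 2 ^ k) then 2 ^ k else 0 : A k) = c 2 by
        rcases z1 (a := c 2) (by linear_combination -a2) with b | b <;> simp [b, h_ne.symm]]
      ext i; fin_cases i <;> simp
      linear_combination a0 + p * a2
    refine (Nat.card_coe_set_eq _).trans_le ((Set.ncard_le_ncard this).trans ?_)
    rw [← Set.image_univ]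
    exact (Set.ncard_image_le).trans (by simp [Set.ncard_univ, pow_succ])
  · obtain ⟨c, rfl⟩ := (P.mem r).1 hr
    refine ⟨fun a => ?_, fun a => ?_⟩
    · rw [h, ← P.neg] at a
      have a0 : c 1 + p * c 2 = -c 0 := congrFun (P.inj a) 0
      rw [show c = c 1 • ![-1, 1, 0] + c 2 • ![-p, 0, 1] by
        ext i; fin_cases i <;> simp
        linear_combination a0, P.add]
      exact mul_mem (P.smul_mem (subset_closure (by simp)) _) (P.smul_mem (subset_closure (by simp)) _)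
    · refine (closure_induction (p := fun x _ => x ∈ 𝒞(V) ∧ e * x * e⁻¹ = x⁻¹) ?_ (by simp [one_mem])
        (fun x y _ _ a b => ⟨mul_mem a.1 b.1, by rw [← conj_mul, a.2, b.2, ← comm_of_mem (P.ab a.1) b.1, mul_inv_rev]⟩)
        (fun x _ a => ⟨inv_mem a.1, by rw [← conj_inv, a.2]⟩) a).2
      rintro _ (rfl | rfl) <;> refine ⟨P.mem' _, ?_⟩ <;> rw [h, ← P.neg] <;> refine congrArg φ (funext fun i => ?_) <;>
        fin_cases i <;> simp
  · obtain ⟨c, rfl⟩ := (P.mem r).1 hr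
    rw [ga, P.add]
    exact mul_mem (P.smul_mem (subset_closure (by simp)) _) (P.smul_mem (subset_closure (.inr (P.add _ _))) _)
  · rw [Nat.add_sub_cancel, P.hsmul]
    exact fun a => h_ne (by simpa using congrFun (P.eq_one.1 a) 1)
  · obtain ⟨c, a, rfl⟩ := P.memV.1 hv
    have a0 : 2 * c 0 = 0 := congrFun a 0
    have a1 : 2 * c 1 = 0 := congrFun a 1
    have a2 : 2 * c 2 = 0 := congrFun a 2
    rw [ga, ← two_smul (A k), smul_smul, show -c 2 * 2 = 0 by linear_combination -a2, zero_smul, add_zero,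
      Nat.add_sub_cancel, P.hsmul]
    exact (z1 (a := c 0 - c 1 + p * c 2) (by linear_combination a0 - a1 + p * a2)).imp
      (fun b => by rw [b, zero_smul, P.zero]) fun b => by rw [b]
  · rw [Nat.add_sub_cancel, P.hsmul]
    exact fun a => h_ne (by simpa using congrFun (P.eq_one.1 a) 2)
  · rw [Nat.add_sub_cancel, P.hsmul, P.hsmul]
    exact fun a => h_ne (by simpa using congrFun (P.inj a) 2)

end Par

end BasJ

open BasJ in
theorem basThm : BasThm.{u} := fun G _ _ V n hV hn ⟨f⟩ => by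
  obtain ⟨k, rfl⟩ : ∃ k, n = k + 1 := ⟨n - 1, by omega⟩
  have P : Par V fun x : M k => (f.symm fun i => Multiplicative.ofAdd (x i) : G) :=
    ⟨hV, fun x y => by rw [← coe_mul, ← map_mul]; rfl,
      fun x y e => funext fun i => congrFun (f.symm.injective (Subtype.ext e)) i,
      fun r => ⟨fun h => ⟨fun i => (f ⟨r, h⟩ i).toAdd, congrArg Subtype.val (f.symm_apply_apply ⟨r, h⟩)⟩,
        fun ⟨_, e⟩ => e ▸ Subtype.prop _⟩⟩
  refine ⟨hV, hn, P.ab, by rw [Nat.card_congr f.toEquiv]; simp [← pow_mul, mul_comm], fun r hr => ?_,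
    fun r hr h => ?_, fun v hv => ?_, fun S => P.gen, fun e h1 h2 h3 => ?_⟩
  · obtain ⟨x, rfl⟩ := (P.mem r).1 hr
    rw [P.hsmul, pow_top, zero_smul, P.zero]
  · obtain ⟨x, rfl⟩ := (P.mem r).1 hr
    exact P.memV.2 ⟨x, P.eq_one.1 (by rw [two_smul, P.add, h]), rfl⟩
  · obtain ⟨x, rfl⟩ := P.surj hv
    exact ⟨_, P.mem' x, P.hsmul x k⟩
  · obtain ⟨φ, p, P', h⟩ := P.good h1 h2 h3
    exact ⟨_, _, P'.ib h⟩

end CL.ON3
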