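/-
ON3: elementary facts shared by the jobs (elementary groups of order 8, bases, the groups `D`).
-/
import Cfsg.Agent.ON3.Defs

set_option autoImplicit false
open Cfsg Subgroup CL.Even

namespace CL.ON3

variable {G : Type*} [Group G]

theorem mem_cen {t x : G} : x ∈ cen t ↔ x * t = t * x := mem_centralizer_singleton_iff

theorem mem_cent' {H : Subgroup G} {g : G} : g ∈ 𝒞(H) ↔ ∀ x ∈ H, x * g = g * x := mem_centralizer_iff

theorem card_eq_idx_mul {K X : Subgroup G} (h : K ≤ X) : Nat.card X = K.relIndex X * Nat.card K := by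
  rw [← Nat.card_congr (subgroupOfEquivOfLe h).toEquiv, relIndex, index_mul_card]

theorem inv_of_sq {a : G} (h : a * a = 1) : a⁻¹ = a := inv_eq_of_mul_eq_one_right h

theorem comm_of_sq {A : Subgroup G} (hA : ∀ a ∈ A, a * a = 1) {a b : G} (ha : a ∈ A) (hb : b ∈ A) :
    a * b = b * a := by
  rw [← inv_of_sq (hA _ (A.mul_mem ha hb)), mul_inv_rev, inv_of_sq (hA a ha), inv_of_sq (hA b hb)]

theorem le_cent_of_sq {A : Subgroup G} (hA : ∀ a ∈ A, a * a = 1) : A ≤ 𝒞(A) :=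
  fun _ ha => mem_cent'.mpr fun _ hb => comm_of_sq hA hb ha

theorem isP_of_sq {A : Subgroup G} (hA : ∀ a ∈ A, a * a = 1) : IsPGroup 2 A :=
  isPGroup_iff_forall.mpr fun x hx => ⟨1, by rw [pow_one, sq]; exact hA x hx⟩

theorem rk8 (h : PRankLE 2 3 G) {A : Subgroup G} (hA : ∀ a ∈ A, a * a = 1) : Nat.card A ≤ 8 :=
  h A (le_centralizer_iff_isMulCommutative.mp (le_cent_of_sq hA)) fun a ha => by rw [sq]; exact hA a ha

theorem rk_of_inj {X : Type*} [Group X] (h : PRankLE 2 3 G) (f : X →* G) (hf : Function.Injective f) :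
    PRankLE 2 3 X := fun A _ hA => by
  rw [← card_map_of_injective hf]
  refine rk8 h ?_
  rintro _ ⟨a, ha, rfl⟩
  rw [← map_mul, ← sq, hA a ha, map_one]

theorem card_le_of_subset {K : Subgroup G} (s : Finset G) (h : ∀ x ∈ K, x ∈ s) : Nat.card K ≤ s.card := by
  rw [← Set.ncard_coe_finset]
  exact Set.ncard_le_ncard (s := (K : Set G)) h s.finite_toSet

theorem card_le_two {K : Subgroup G} {a b : G} (h : ∀ x ∈ K, x = a ∨ x = b) : Nat.card K ≤ 2 := by
  classical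
  exact (card_le_of_subset {a, b} (by simpa using h)).trans Finset.card_le_two

theorem card_le_four {K : Subgroup G} {a b c d : G} (h : ∀ x ∈ K, x = a ∨ x = b ∨ x = c ∨ x = d) :
    Nat.card K ≤ 4 := by
  classical
  exact (card_le_of_subset {a, b, c, d} (by simpa using h)).trans Finset.card_le_four

theorem exists_not_mem [Finite G] {A B : Subgroup G} (h : Nat.card A < Nat.card B) : ∃ x ∈ B, x ∉ A := by
  by_contra hc
  push Not at hc
  exact absurd (card_le_of_le hc) (by omega)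

/-! ### adjoining an element of order 2 modulo `A` -/

/-- `A ∪ A t` -/
def adj (A : Subgroup G) (t : G) (hn : t ∈ 𝒩(A)) (h2 : t * t ∈ A) : Subgroup G where
  carrier := {x | x ∈ A ∨ x * t ∈ A}
  one_mem' := Or.inl A.one_mem
  mul_mem' := by
    rintro x y (hx | hx) (hy | hy)
    · exact Or.inl (A.mul_mem hx hy)
    · exact Or.inr (by rw [mul_assoc]; exact A.mul_mem hx hy)
    · exact Or.inr (by
        have := A.mul_mem hx (conj_mem' hn hy)
        rwa [show x * t * (t⁻¹ * y * t) = x * y * t by group] at this)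
    · exact Or.inl (by
        have := A.mul_mem (A.mul_mem hx (conj_mem' hn hy)) (A.inv_mem h2)
        rwa [show x * t * (t⁻¹ * (y * t) * t) * (t * t)⁻¹ = x * y by group] at this)
  inv_mem' := by
    rintro x (hx | hx)
    · exact Or.inl (A.inv_mem hx)
    · exact Or.inr (by
        have := A.mul_mem (conj_mem hn (A.inv_mem hx)) h2
        rwa [show t * (x * t)⁻¹ * t⁻¹ * (t * t) = x⁻¹ * t by group] at this)

section adj
variable {A : Subgroup G} {t : G} {hn : t ∈ 𝒩(A)} {h2 : t * t ∈ A}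

theorem mem_adj {x : G} : x ∈ adj A t hn h2 ↔ x ∈ A ∨ x * t ∈ A := Iff.rfl

theorem le_adj : A ≤ adj A t hn h2 := fun _ hx => Or.inl hx

theorem self_mem_adj : t ∈ adj A t hn h2 := Or.inr h2

theorem adj_le {B : Subgroup G} (hA : A ≤ B) (ht : t ∈ B) : adj A t hn h2 ≤ B := by
  rintro x (hx | hx)
  · exact hA hx
  · exact (B.mul_mem_cancel_right ht).mp (hA hx)

theorem card_adj (ht : t ∉ A) : Nat.card (adj A t hn h2) = 2 * Nat.card A := by
  rw [card_eq_idx_mul (le_adj (hn := hn) (h2 := h2))]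
  congr 1
  refine relIndex_eq_two_iff.mpr ⟨t, self_mem_adj, ?_⟩
  rintro x (hx | hx)
  · exact Or.inr ⟨hx, fun h => ht ((A.mul_mem_cancel_left hx).mp h)⟩
  · exact Or.inl ⟨hx, fun h => ht ((A.mul_mem_cancel_left h).mp hx)⟩

theorem adj_sq (hA : ∀ a ∈ A, a * a = 1) (ht : t * t = 1) (hc : t ∈ 𝒞(A)) :
    ∀ x ∈ adj A t hn h2, x * x = 1 := by
  rintro x (hx | hx)
  · exact hA x hx
  · have h1 := hA _ hx
    have h3 := comm_of_mem hc hx
    have h4 : x * t = t * x := by rw [← mul_assoc] at h3; exact mul_right_cancel h3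
    rw [show x * t * (x * t) = x * (t * x) * t by group, ← h4, show x * (x * t) * t = x * x * (t * t) by group,
      ht, mul_one] at h1
    exact h1

end adj

/-- an involution centralizing an elementary group of order 8 lies in it -/
theorem mem_of_e8 (h : PRankLE 2 3 G) {A : Subgroup G} (hA : ∀ a ∈ A, a * a = 1) (h8 : Nat.card A = 8)
    {t : G} (ht : t * t = 1) (hc : t ∈ 𝒞(A)) : t ∈ A := by
  by_contra hn
  have h1 := card_adj (hn := cent_le_norm A hc) (h2 := by rw [ht]; exact A.one_mem) hn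
  have h2 := rk8 h (adj_sq (hn := cent_le_norm A hc) (h2 := by rw [ht]; exact A.one_mem) hA ht hc)
  omega

theorem mem_zp2 {z x : G} (hz : z * z = 1) : x ∈ zpowers z ↔ x = 1 ∨ x = z := by
  refine ⟨fun h => ?_, by rintro (rfl | rfl); exacts [one_mem _, mem_zpowers _]⟩
  have hle : zpowers z ≤ adj ⊥ z (by rw [normalizer_eq_top]; trivial) (by simp [hz]) := zpowers_le.mpr self_mem_adj
  rcases hle h with h | h
  · exact Or.inl h
  · exact Or.inr (by rw [eq_inv_of_mul_eq_one_left (mem_bot.mp h), inv_of_sq hz])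

theorem card_zp2 {z : G} (hz : z * z = 1) (h1 : z ≠ 1) : Nat.card (zpowers z) = 2 := by
  rw [Nat.card_zpowers]
  exact orderOf_eq_prime (by rw [sq, hz]) h1

theorem mem_zp4 {n z x : G} (hn : n * n = z) (hz : z * z = 1) :
    x ∈ zpowers n ↔ x = 1 ∨ x = n ∨ x = z ∨ x = n * z := by
  subst hn
  refine ⟨fun h => ?_, ?_⟩
  · have hc : n ∈ 𝒩(zpowers (n * n)) := cent_le_norm _ (mem_cent'.mpr fun x hx => by
      rcases (mem_zp2 hz).mp hx with rfl | rfl <;> group)
    have hle : zpowers n ≤ adj _ n hc (mem_zpowers _) := zpowers_le.mpr self_mem_adj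
    rcases hle h with h | h <;> rcases (mem_zp2 hz).mp h with h | h
    · exact Or.inl h
    · exact Or.inr (Or.inr (Or.inl h))
    · refine Or.inr (Or.inr (Or.inr (mul_right_cancel (b := n) ?_)))
      rw [h, ← hz]; group
    · exact Or.inr (Or.inl (mul_right_cancel h))
  · have := mem_zpowers n
    rintro (rfl | rfl | rfl | rfl)
    exacts [one_mem _, this, mul_mem this this, mul_mem this (mul_mem this this)]

/-! ### three commuting involutions -/

/-- independence of three commuting involutions -/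
structure Ind3 (a b c : G) : Prop where
  a1 : a ≠ 1
  b1 : b ≠ 1
  ba : b ≠ a
  c1 : c ≠ 1
  ca : c ≠ a
  cb : c ≠ b
  cab : c ≠ a * b

/-- three commuting elements of square 1 -/
structure CI3 (a b c : G) : Prop where
  aa : a * a = 1
  bb : b * b = 1
  cc : c * c = 1
  ab : a * b = b * a
  ac : a * c = c * a
  bc : b * c = c * b

/-- the additive coordinates -/
abbrev F3 := ZMod 2 × ZMod 2 × ZMod 2

theorem pw_add {a : G} (h : a * a = 1) (i j : ZMod 2) : a ^ (i + j).val = a ^ i.val * a ^ j.val := by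
  have h2 : ∀ i : ZMod 2, i = 0 ∨ i = 1 := by decide
  have h1 : (1 : ZMod 2).val = 1 := rfl
  have h0 : (1 + 1 : ZMod 2) = 0 := rfl
  rcases h2 i with rfl | rfl <;> rcases h2 j with rfl | rfl <;> simp [h1, h0, h]

/-- `a^i b^j c^k` -/
def l3 {a b c : G} (h : CI3 a b c) : Multiplicative F3 →* G :=
  MonoidHom.mk' (fun v => a ^ v.toAdd.1.val * b ^ v.toAdd.2.1.val * c ^ v.toAdd.2.2.val) fun v w => by
    have ab : ∀ i j : ℕ, b ^ j * a ^ i = a ^ i * b ^ j := fun i j => (Commute.pow_pow h.ab i j).eq.symm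
    have ac : ∀ i j : ℕ, c ^ j * a ^ i = a ^ i * c ^ j := fun i j => (Commute.pow_pow h.ac i j).eq.symm
    have bc : ∀ i j : ℕ, c ^ j * b ^ i = b ^ i * c ^ j := fun i j => (Commute.pow_pow h.bc i j).eq.symm
    simp only [toAdd_mul, Prod.fst_add, Prod.snd_add, pw_add h.aa, pw_add h.bb, pw_add h.cc]
    generalize v.toAdd.1.val = i, v.toAdd.2.1.val = j, v.toAdd.2.2.val = k, w.toAdd.1.val = i',
      w.toAdd.2.1.val = j', w.toAdd.2.2.val = k'
    calc _ = a ^ i * (a ^ i' * b ^ j) * b ^ j' * c ^ k * c ^ k' := by group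
      _ = a ^ i * b ^ j * a ^ i' * (b ^ j' * c ^ k) * c ^ k' := by rw [← ab]; group
      _ = a ^ i * b ^ j * (a ^ i' * c ^ k) * b ^ j' * c ^ k' := by rw [← bc]; group
      _ = _ := by rw [← ac]; group

theorem F3_cases (v : Multiplicative F3) : v = .ofAdd (0, 0, 0) ∨ v = .ofAdd (1, 0, 0) ∨ v = .ofAdd (0, 1, 0) ∨
    v = .ofAdd (1, 1, 0) ∨ v = .ofAdd (0, 0, 1) ∨ v = .ofAdd (1, 0, 1) ∨ v = .ofAdd (0, 1, 1) ∨
    v = .ofAdd (1, 1, 1) := by
  revert v; decide

section l3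
variable {a b c : G} (h : CI3 a b c)

theorem l3_apply (i j k : ZMod 2) : l3 h (.ofAdd (i, j, k)) = a ^ i.val * b ^ j.val * c ^ k.val := rfl
theorem l3_a : l3 h (.ofAdd (1, 0, 0)) = a := by simp [l3_apply, ZMod.val_one]
theorem l3_b : l3 h (.ofAdd (0, 1, 0)) = b := by simp [l3_apply, ZMod.val_one]
theorem l3_c : l3 h (.ofAdd (0, 0, 1)) = c := by simp [l3_apply, ZMod.val_one]

theorem mem_l3 {x : G} : x ∈ (l3 h).range ↔
    x = 1 ∨ x = a ∨ x = b ∨ x = a * b ∨ x = c ∨ x = a * c ∨ x = b * c ∨ x = a * b * c := by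
  constructor
  · rintro ⟨v, rfl⟩
    rcases F3_cases v with rfl | rfl | rfl | rfl | rfl | rfl | rfl | rfl <;> simp [l3_apply, ZMod.val_one]
  · have ha : a ∈ (l3 h).range := ⟨_, l3_a h⟩
    have hb : b ∈ (l3 h).range := ⟨_, l3_b h⟩
    have hc : c ∈ (l3 h).range := ⟨_, l3_c h⟩
    rintro (rfl | rfl | rfl | rfl | rfl | rfl | rfl | rfl)
    exacts [one_mem _, ha, hb, mul_mem ha hb, hc, mul_mem ha hc, mul_mem hb hc, mul_mem (mul_mem ha hb) hc]

theorem range_l3 : (l3 h).range = closure {a, b, c} := by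
  refine le_antisymm (fun x hx => ?_) ((closure_le _).mpr ?_)
  · have ha : a ∈ closure ({a, b, c} : Set G) := subset_closure (by simp)
    have hb : b ∈ closure ({a, b, c} : Set G) := subset_closure (by simp)
    have hc : c ∈ closure ({a, b, c} : Set G) := subset_closure (by simp)
    rcases (mem_l3 h).mp hx with rfl | rfl | rfl | rfl | rfl | rfl | rfl | rfl
    exacts [one_mem _, ha, hb, mul_mem ha hb, hc, mul_mem ha hc, mul_mem hb hc, mul_mem (mul_mem ha hb) hc]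
  · rintro x (rfl | rfl | rfl)
    exacts [⟨_, l3_a h⟩, ⟨_, l3_b h⟩, ⟨_, l3_c h⟩]

theorem l3_inj (hi : Ind3 a b c) : Function.Injective (l3 h) := by
  refine (injective_iff_map_eq_one _).mpr fun v hv => ?_
  have e : ∀ {x y : G}, y * y = 1 → x * y = 1 → y = x := fun {x y} hy hx => mul_right_cancel (hy.trans hx.symm)
  rcases F3_cases v with rfl | rfl | rfl | rfl | rfl | rfl | rfl | rfl <;>
    simp only [l3_apply, ZMod.val_one, ZMod.val_zero, pow_zero, pow_one, mul_one, one_mul] at hv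
  exacts [rfl, (hi.a1 hv).elim, (hi.b1 hv).elim, (hi.ba (e h.bb hv)).elim, (hi.c1 hv).elim,
    (hi.ca (e h.cc hv)).elim, (hi.cb (e h.cc hv)).elim, (hi.cab (e h.cc hv)).elim]

include h

theorem mem_e3 {x : G} : x ∈ closure ({a, b, c} : Set G) ↔
    x = 1 ∨ x = a ∨ x = b ∨ x = a * b ∨ x = c ∨ x = a * c ∨ x = b * c ∨ x = a * b * c := by
  rw [← range_l3 h, mem_l3]

theorem sq_e3 : ∀ x ∈ closure ({a, b, c} : Set G), x * x = 1 := by
  rw [← range_l3 h]
  rintro _ ⟨v, rfl⟩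
  rw [← map_mul, show v * v = 1 by revert v; decide, map_one]

theorem card_e3 (hi : Ind3 a b c) : Nat.card (closure ({a, b, c} : Set G)) = 8 := by
  rw [← range_l3 h, ← Nat.card_congr (MonoidHom.ofInjective (l3_inj h hi)).toEquiv, Nat.card_eq_fintype_card]
  rfl

/-- there is no elementary group of order 16 -/
theorem four_inv (hr : PRankLE 2 3 G) (hi : Ind3 a b c) {d : G} (hd : d * d = 1) (ha : a * d = d * a)
    (hb : b * d = d * b) (hc : c * d = d * c) : d ∈ closure ({a, b, c} : Set G) := by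
  refine mem_of_e8 hr (sq_e3 h) (card_e3 h hi) hd ?_
  rw [centralizer_closure]
  rintro x (rfl | rfl | rfl)
  exacts [ha, hb, hc]

theorem four_inv' (hr : PRankLE 2 3 G) (hi : Ind3 a b c) {d : G} (hd : d * d = 1) (ha : a * d = d * a)
    (hb : b * d = d * b) (hc : c * d = d * c) :
    d = 1 ∨ d = a ∨ d = b ∨ d = a * b ∨ d = c ∨ d = a * c ∨ d = b * c ∨ d = a * b * c :=
  (mem_e3 h).mp (four_inv h hr hi hd ha hb hc)

end l3

/-! ### bases -/

/-- `a, b, c` is a basis of the elementary group `V` of order 8 -/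
structure Bs (V : Subgroup G) (a b c : G) : Prop where
  sq : ∀ v ∈ V, v * v = 1
  card : Nat.card V = 8
  aV : a ∈ V
  bV : b ∈ V
  cV : c ∈ V
  ind : Ind3 a b c

namespace Bs
variable {V : Subgroup G} {a b c : G} (h : Bs V a b c)
include h

theorem ci : CI3 a b c :=
  ⟨h.sq _ h.aV, h.sq _ h.bV, h.sq _ h.cV, comm_of_sq h.sq h.aV h.bV, comm_of_sq h.sq h.aV h.cV,
    comm_of_sq h.sq h.bV h.cV⟩

theorem eq : closure {a, b, c} = V := by
  have : Finite V := Nat.finite_of_card_ne_zero (by rw [h.card]; decide)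
  refine eq_of_le_of_card_ge ((closure_le _).mpr ?_) (by rw [h.card, card_e3 h.ci h.ind])
  rintro x (rfl | rfl | rfl)
  exacts [h.aV, h.bV, h.cV]

theorem mem {x : G} : x ∈ V ↔
    x = 1 ∨ x = a ∨ x = b ∨ x = a * b ∨ x = c ∨ x = a * c ∨ x = b * c ∨ x = a * b * c := by
  rw [← mem_e3 h.ci, h.eq]

theorem le {K : Subgroup G} (ha : a ∈ K) (hb : b ∈ K) (hc : c ∈ K) : V ≤ K := by
  rw [← h.eq, closure_le]
  rintro x (rfl | rfl | rfl)
  exacts [ha, hb, hc]

theorem ext {m : G} (ha : m * a * m⁻¹ = a) (hb : m * b * m⁻¹ = b) (hc : m * c * m⁻¹ = c) : m ∈ 𝒞(V) := by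
  have : V ≤ cen m := h.le (mem_cen.mpr (mul_inv_eq_iff_eq_mul.mp ha).symm)
    (mem_cen.mpr (mul_inv_eq_iff_eq_mul.mp hb).symm) (mem_cen.mpr (mul_inv_eq_iff_eq_mul.mp hc).symm)
  exact mem_cent'.mpr fun x hx => mem_cen.mp (this hx)

theorem norm [Finite G] {m : G} (ha : m * a * m⁻¹ ∈ V) (hb : m * b * m⁻¹ ∈ V) (hc : m * c * m⁻¹ ∈ V) :
    m ∈ 𝒩(V) := by
  refine mem_norm_of_cj_le (cj_le_iff.mpr (h.le ?_ ?_ ?_)) <;> rw [mem_cj, inv_inv] <;> assumption

theorem sw12 : Bs V b a c :=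
  ⟨h.sq, h.card, h.bV, h.aV, h.cV, h.ind.b1, h.ind.a1, h.ind.ba.symm, h.ind.c1, h.ind.cb, h.ind.ca,
    by rw [← h.ci.ab]; exact h.ind.cab⟩

theorem sw23 : Bs V a c b :=
  ⟨h.sq, h.card, h.aV, h.cV, h.bV, h.ind.a1, h.ind.c1, h.ind.ca, h.ind.b1, h.ind.ba, h.ind.cb.symm, fun e =>
    h.ind.cab (by rw [e, ← mul_assoc, h.ci.aa, one_mul])⟩

theorem sw13 : Bs V c b a := h.sw12.sw23.sw12

/-- `c ↦ c a` -/
theorem mca : Bs V a b (c * a) := by
  have e : ∀ {x : G}, c * a = x → c = x * a := fun hx => by rw [← hx, mul_assoc, h.ci.aa, mul_one]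
  exact ⟨h.sq, h.card, h.aV, h.bV, mul_mem h.cV h.aV, h.ind.a1, h.ind.b1, h.ind.ba,
    fun x => h.ind.ca (by simpa using e x), fun x => h.ind.c1 ((e x).trans h.ci.aa),
    fun x => h.ind.cab ((e x).trans h.ci.ab.symm),
    fun x => h.ind.cb ((e x).trans (by rw [h.ci.ab, mul_assoc, h.ci.aa, mul_one]))⟩

theorem mcb : Bs V a b (c * b) := h.sw12.mca.sw12
theorem mba : Bs V a (b * a) c := h.sw23.mca.sw23
theorem mbc : Bs V a (b * c) c := h.sw23.mcb.sw23
theorem mab : Bs V (a * b) b c := h.sw13.mcb.sw13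
theorem mac : Bs V (a * c) b c := h.sw13.mca.sw13

theorem _root_.CL.ON3.Bs.cj (g : G) : Bs (cj g V) (g * a * g⁻¹) (g * b * g⁻¹) (g * c * g⁻¹) := by
  have e : ∀ {x y : G}, g * x * g⁻¹ = g * y * g⁻¹ → x = y := fun hx => by simpa using hx
  refine ⟨?_, by rw [card_cj, h.card], conj_mem_cj g h.aV, conj_mem_cj g h.bV, conj_mem_cj g h.cV,
    fun x => h.ind.a1 (by simpa using x), fun x => h.ind.b1 (by simpa using x), fun x => h.ind.ba (e x),
    fun x => h.ind.c1 (by simpa using x), fun x => h.ind.ca (e x), fun x => h.ind.cb (e x),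
    fun x => h.ind.cab (e (x.trans (by group)))⟩
  rintro _ ⟨x, hx, rfl⟩
  rw [← map_mul, h.sq x hx, map_one]

theorem conj {g : G} (hg : g ∈ 𝒩(V)) : Bs V (g * a * g⁻¹) (g * b * g⁻¹) (g * c * g⁻¹) := by
  have := h.cj g
  rwa [cj_eq hg] at this

/-- coordinates on `V` -/
noncomputable def iso : Multiplicative F3 ≃* V :=
  (MonoidHom.ofInjective (l3_inj h.ci h.ind)).trans (MulEquiv.subgroupCongr ((range_l3 h.ci).trans h.eq))

theorem iso_coe (v : Multiplicative F3) : (h.iso v : G) = l3 h.ci v := rfl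

end Bs

theorem exists_bs2 {V : Subgroup G} (hs : ∀ v ∈ V, v * v = 1) (h8 : Nat.card V = 8) {a b : G} (ha : a ∈ V)
    (hb : b ∈ V) (a1 : a ≠ 1) (b1 : b ≠ 1) (ba : b ≠ a) : ∃ c, Bs V a b c := by
  by_contra hc
  have : Nat.card V ≤ 4 := card_le_four (a := 1) (b := a) (c := b) (d := a * b) fun x hx => by
    by_contra hx'
    push Not at hx'
    exact hc ⟨x, hs, h8, ha, hb, hx, a1, b1, ba, hx'.1, hx'.2.1, hx'.2.2.1, hx'.2.2.2⟩
  omega

theorem exists_bs1 {V : Subgroup G} (hs : ∀ v ∈ V, v * v = 1) (h8 : Nat.card V = 8) {a : G} (ha : a ∈ V)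
    (a1 : a ≠ 1) : ∃ b c, Bs V a b c := by
  by_contra hc
  have : Nat.card V ≤ 2 := card_le_two (a := 1) (b := a) fun x hx => by
    by_contra hx'
    push Not at hx'
    exact hc ⟨x, exists_bs2 hs h8 ha hx a1 hx'.1 hx'.2⟩
  omega

theorem exists_bs {V : Subgroup G} (hs : ∀ v ∈ V, v * v = 1) (h8 : Nat.card V = 8) : ∃ a b c, Bs V a b c := by
  by_contra hc
  have : Nat.card V ≤ 2 := card_le_two (a := 1) (b := 1) fun x hx => by
    by_contra hx'
    push Not at hx'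
    exact hc ⟨x, exists_bs1 hs h8 hx hx'.1⟩
  omega

/-- `m` maps `a, b, c` to `a', b', c'` -/
def Mv (V : Subgroup G) (a b c a' b' c' : G) : Prop :=
  ∃ m ∈ 𝒩(V), m * a * m⁻¹ = a' ∧ m * b * m⁻¹ = b' ∧ m * c * m⁻¹ = c'

namespace Full
variable {V : Subgroup G} (h : Full V)
include h

theorem basis {a : G} (ha : a ∈ V) (a1 : a ≠ 1) : ∃ b c, Bs V a b c := exists_bs1 h.sq h.card ha a1

theorem basis2 {a b : G} (ha : a ∈ V) (hb : b ∈ V) (a1 : a ≠ 1) (b1 : b ≠ 1) (ba : b ≠ a) :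
    ∃ c, Bs V a b c := exists_bs2 h.sq h.card ha hb a1 b1 ba

theorem basis0 : ∃ a b c, Bs V a b c := exists_bs h.sq h.card

/-- `N(V)` is transitive on ordered bases -/
theorem move {a b c a' b' c' : G} (h1 : Bs V a b c) (h2 : Bs V a' b' c') :
    ∃ m ∈ 𝒩(V), m * a * m⁻¹ = a' ∧ m * b * m⁻¹ = b' ∧ m * c * m⁻¹ = c' := by
  obtain ⟨m, hm, e⟩ := h.aut (h1.iso.symm.trans h2.iso)
  have e' : ∀ v, m * l3 h1.ci v * m⁻¹ = l3 h2.ci v := fun v => by
    have := e (h1.iso v)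
    rwa [MulEquiv.trans_apply, MulEquiv.symm_apply_apply] at this
  exact ⟨m, hm, by simpa only [l3_a] using e' (.ofAdd (1, 0, 0)),
    by simpa only [l3_b] using e' (.ofAdd (0, 1, 0)), by simpa only [l3_c] using e' (.ofAdd (0, 0, 1))⟩

theorem trans {a a' : G} (ha : a ∈ V) (a1 : a ≠ 1) (ha' : a' ∈ V) (a1' : a' ≠ 1) :
    ∃ m ∈ 𝒩(V), m * a * m⁻¹ = a' := by
  obtain ⟨b, c, h1⟩ := h.basis ha a1
  obtain ⟨b', c', h2⟩ := h.basis ha' a1'
  obtain ⟨m, hm, e, -⟩ := h.move h1 h2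
  exact ⟨m, hm, e⟩

theorem le_cent : V ≤ 𝒞(V) := le_cent_of_sq h.sq

theorem isP : IsPGroup 2 V := isP_of_sq h.sq

theorem ne_bot : V ≠ ⊥ := fun e => by have := h.card; rw [e, card_bot] at this; omega

/-- a nontrivial `N(V)`-invariant subgroup meeting `V` contains `V` -/
theorem le_of_mem {K : Subgroup G} (hK : 𝒩(V) ≤ 𝒩(K)) {a : G} (ha : a ∈ V) (a1 : a ≠ 1) (haK : a ∈ K) :
    V ≤ K := fun x hx => by
  by_cases x1 : x = 1
  · rw [x1]; exact K.one_mem
  · obtain ⟨m, hm, rfl⟩ := h.trans ha a1 hx x1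
    exact conj_mem (hK hm) haK

end Full

theorem full_of_move {V : Subgroup G} {a b c : G} (h : Bs V a b c)
    (hm : ∀ a' b' c', Bs V a' b' c' → Mv V a b c a' b' c') : Full V := by
  refine ⟨h.sq, h.card, fun α => ?_⟩
  have e : ∀ {x y : V}, (α x : G) = α y → (x : G) = y := fun hx => congrArg _ (α.injective (Subtype.ext hx))
  have e1 : ((α 1 : V) : G) = 1 := by simp
  obtain ⟨m, hm, ha, hb, hc⟩ := hm (α ⟨a, h.aV⟩) (α ⟨b, h.bV⟩) (α ⟨c, h.cV⟩)
    ⟨h.sq, h.card, (α _).2, (α _).2, (α _).2, fun x => h.ind.a1 (e (x.trans e1.symm)),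
      fun x => h.ind.b1 (e (x.trans e1.symm)), fun x => h.ind.ba (e x), fun x => h.ind.c1 (e (x.trans e1.symm)),
      fun x => h.ind.ca (e x), fun x => h.ind.cb (e x),
      fun x => h.ind.cab (e (y := ⟨a, h.aV⟩ * ⟨b, h.bV⟩) (x.trans (by rw [map_mul]; rfl)))⟩
  refine ⟨m, hm, fun x => ?_⟩
  have hle := h.le (K := (MonoidHom.eqLocus ((MulAut.conj m).toMonoidHom.comp V.subtype)
    (V.subtype.comp α.toMonoidHom)).map V.subtype) ⟨⟨a, h.aV⟩, ha, rfl⟩ ⟨⟨b, h.bV⟩, hb, rfl⟩ ⟨⟨c, h.cV⟩, hc, rfl⟩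
  obtain ⟨y, hy, e⟩ := hle x.2
  obtain rfl : y = x := Subtype.ext e
  exact hy

theorem Mv.trans {V : Subgroup G} {a b c a' b' c' a'' b'' c'' : G} (h1 : Mv V a b c a' b' c')
    (h2 : Mv V a' b' c' a'' b'' c'') : Mv V a b c a'' b'' c'' := by
  obtain ⟨m, hm, rfl, rfl, rfl⟩ := h1
  obtain ⟨n, hn, rfl, rfl, rfl⟩ := h2
  exact ⟨n * m, mul_mem hn hm, by group, by group, by group⟩

/-- transvections generate `GL₃(2)` -/
theorem full_of_transv {V : Subgroup G} (hs : ∀ v ∈ V, v * v = 1) (h8 : Nat.card V = 8)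
    (ht : ∀ a b c, Bs V a b c → Mv V a b c a b (c * a)) : Full V := by
  obtain ⟨a, b, c, h⟩ := exists_bs hs h8
  let R : G → G → G → Prop := fun x y w => Bs V x y w ∧ Mv V a b c x y w
  have p12 : ∀ {x y w x' y' w'}, Mv V x y w x' y' w' → Mv V y x w y' x' w' :=
    fun ⟨m, hm, h1, h2, h3⟩ => ⟨m, hm, h2, h1, h3⟩
  have p23 : ∀ {x y w x' y' w'}, Mv V x y w x' y' w' → Mv V x w y x' w' y' :=
    fun ⟨m, hm, h1, h2, h3⟩ => ⟨m, hm, h1, h3, h2⟩
  have ca : ∀ {x y w}, R x y w → R x y (w * x) := fun r => ⟨r.1.mca, r.2.trans (ht _ _ _ r.1)⟩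
  have cb : ∀ {x y w}, R x y w → R x y (w * y) := fun r => ⟨r.1.mcb, r.2.trans (p12 (ht _ _ _ r.1.sw12))⟩
  have ba : ∀ {x y w}, R x y w → R x (y * x) w := fun r => ⟨r.1.mba, r.2.trans (p23 (ht _ _ _ r.1.sw23))⟩
  have bc : ∀ {x y w}, R x y w → R x (y * w) w :=
    fun r => ⟨r.1.mbc, r.2.trans (p23 (p12 (ht _ _ _ r.1.sw23.sw12)))⟩
  have ab : ∀ {x y w}, R x y w → R (x * y) y w :=
    fun r => ⟨r.1.mab, r.2.trans (p12 (p23 (ht _ _ _ r.1.sw12.sw23)))⟩
  have s12 : ∀ {x y w}, R x y w → R y x w := fun {x y w} r => by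
    have := ab (ba (ab r))
    have e : y * (x * y) = x := by rw [r.1.ci.ab, ← mul_assoc, r.1.ci.bb, one_mul]
    rwa [e, r.1.ci.ab, mul_assoc, r.1.ci.aa, mul_one] at this
  have s23 : ∀ {x y w}, R x y w → R x w y := fun {x y w} r => by
    have := bc (cb (bc r))
    have e : w * (y * w) = y := by rw [r.1.ci.bc, ← mul_assoc, r.1.ci.cc, one_mul]
    rwa [e, r.1.ci.bc, mul_assoc, r.1.ci.bb, mul_one] at this
  have r0 : R a b c := ⟨h, 1, one_mem _, by simp, by simp, by simp⟩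
  refine full_of_move h fun a' b' c' h' => ?_
  obtain ⟨y, w, r1⟩ : ∃ y w, R a' y w := by
    rcases h.mem.mp h'.aV with e | e | e | e | e | e | e | e <;> rw [e]
    exacts [(h'.ind.a1 e).elim, ⟨_, _, r0⟩, ⟨_, _, s12 r0⟩, ⟨_, _, ab r0⟩, ⟨_, _, s12 (s23 r0)⟩,
      ⟨_, _, ab (s23 r0)⟩, ⟨_, _, s12 (bc r0)⟩, ⟨_, _, ab (s23 (ab r0))⟩]
  obtain ⟨w, r2⟩ : ∃ w, R a' b' w := by
    have c1 := r1.1.ci
    rcases r1.1.mem.mp h'.bV with e | e | e | e | e | e | e | e <;> rw [e]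
    exacts [(h'.ind.b1 e).elim, (h'.ind.ba e).elim, ⟨_, r1⟩, ⟨_, c1.ab ▸ ba r1⟩, ⟨_, s23 r1⟩,
      ⟨_, c1.ac ▸ ba (s23 r1)⟩, ⟨_, bc r1⟩, ⟨_, c1.ab ▸ bc (ba r1)⟩]
  have c2 := r2.1.ci
  rcases r2.1.mem.mp h'.cV with e | e | e | e | e | e | e | e <;> rw [e]
  · exact (h'.ind.c1 e).elim
  · exact (h'.ind.ca e).elim
  · exact (h'.ind.cb e).elim
  · exact (h'.ind.cab e).elim
  · exact r2.2
  · rw [c2.ac]; exact (ca r2).2
  · rw [c2.bc]; exact (cb r2).2
  · rw [mul_assoc, c2.bc, ← mul_assoc, c2.ac]; exact (cb (ca r2)).2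

theorem Bs.map {X : Type*} [Group X] {V : Subgroup X} {a b c : X} (h : Bs V a b c) (f : X →* G)
    (hf : Function.Injective f) : Bs (V.map f) (f a) (f b) (f c) := by
  refine ⟨?_, by rw [card_map_of_injective hf, h.card], mem_map_of_mem f h.aV, mem_map_of_mem f h.bV,
    mem_map_of_mem f h.cV, fun x => h.ind.a1 (hf (x.trans f.map_one.symm)),
    fun x => h.ind.b1 (hf (x.trans f.map_one.symm)), fun x => h.ind.ba (hf x),
    fun x => h.ind.c1 (hf (x.trans f.map_one.symm)), fun x => h.ind.ca (hf x), fun x => h.ind.cb (hf x),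
    fun x => h.ind.cab (hf (x.trans (f.map_mul _ _).symm))⟩
  rintro _ ⟨x, hx, rfl⟩
  rw [← map_mul, h.sq x hx, map_one]

theorem Bs.of_map {X : Type*} [Group X] {V : Subgroup X} {a b c : X} {f : X →* G} (hf : Function.Injective f)
    (h : Bs (V.map f) (f a) (f b) (f c)) : Bs V a b c := by
  have m : ∀ {x}, f x ∈ V.map f → x ∈ V := fun hx => (mem_map_iff_mem hf).mp hx
  exact ⟨fun v hv => hf (by rw [map_mul, h.sq _ (mem_map_of_mem f hv), map_one]),
    by rw [← h.card, card_map_of_injective hf], m h.aV, m h.bV, m h.cV, fun x => h.ind.a1 (by rw [x, map_one]),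
    fun x => h.ind.b1 (by rw [x, map_one]), fun x => h.ind.ba (by rw [x]), fun x => h.ind.c1 (by rw [x, map_one]),
    fun x => h.ind.ca (by rw [x]), fun x => h.ind.cb (by rw [x]), fun x => h.ind.cab (by rw [x, map_mul])⟩

theorem Full.map {X : Type*} [Group X] {V : Subgroup X} (h : Full V) (f : X →* G)
    (hf : Function.Injective f) : Full (V.map f) := by
  obtain ⟨a, b, c, hb⟩ := h.basis0
  refine full_of_move (hb.map f hf) fun a' b' c' h' => ?_
  obtain ⟨x, -, rfl⟩ := h'.aV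
  obtain ⟨y, -, rfl⟩ := h'.bV
  obtain ⟨w, -, rfl⟩ := h'.cV
  obtain ⟨m, hm, rfl, rfl, rfl⟩ := h.move hb (h'.of_map hf)
  exact ⟨f m, le_normalizer_map f (mem_map_of_mem f hm), by simp, by simp, by simp⟩

theorem Full.cj {V : Subgroup G} (h : Full V) (g : G) : Full (cj g V) :=
  h.map _ (MulAut.conj g).injective

theorem Full.subgroupOf {V K : Subgroup G} (h : Full V) (hK : 𝒩(V) ≤ K) : Full (V.subgroupOf K) := by
  have hV : V ≤ K := le_normalizer.trans hK
  have e : (V.subgroupOf K).map K.subtype = V := map_subgroupOf_eq_of_le hV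
  obtain ⟨a, b, c, hb⟩ := h.basis0
  have hb' : Bs (V.subgroupOf K) ⟨a, hV hb.aV⟩ ⟨b, hV hb.bV⟩ ⟨c, hV hb.cV⟩ :=
    Bs.of_map K.subtype_injective (by rw [e]; exact hb)
  refine full_of_move hb' fun a' b' c' h' => ?_
  obtain ⟨m, hm, h1, h2, h3⟩ := h.move hb (e ▸ h'.map K.subtype K.subtype_injective)
  refine ⟨⟨m, hK hm⟩, mem_normalizer_iff.mpr fun x => ?_, Subtype.ext h1, Subtype.ext h2, Subtype.ext h3⟩
  exact mem_normalizer_iff.mp hm x

/-! ### `gam` -/

theorem gam_mem {D : Subgroup G} {s d : G} (hs : s ∈ 𝒩(D)) (hd : d ∈ D) : gam s d ∈ D :=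
  D.mul_mem (D.inv_mem hd) (conj_mem hs hd)

theorem gam_mem' {D : Subgroup G} {s d : G} (hd : d ∈ 𝒩(D)) (hs : s ∈ D) : gam s d ∈ D := by
  rw [show gam s d = d⁻¹ * s * d * s⁻¹ by unfold gam; group]
  exact D.mul_mem (conj_mem' hd hs) (D.inv_mem hs)

theorem conj_eq_gam (s d : G) : s * d * s⁻¹ = d * gam s d := by unfold gam; group

theorem gam_eq_iff {s d c : G} : gam s d = c ↔ s * d * s⁻¹ = d * c := by
  rw [conj_eq_gam, mul_left_cancel_iff]

theorem gam_eq_one {s d : G} : gam s d = 1 ↔ d * s = s * d := by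
  rw [gam_eq_iff, mul_one, mul_inv_eq_iff_eq_mul, eq_comm]

theorem gam_mul (s d e : G) : gam s (d * e) = e⁻¹ * gam s d * e * gam s e := by unfold gam; group

theorem gam_mul_left (s t d : G) : gam (s * t) d = gam s d * (s * gam t d * s⁻¹) := by unfold gam; group

theorem gam_conj {s y : G} (h : y * s = s * y) (d : G) : gam s (y * d * y⁻¹) = y * gam s d * y⁻¹ := by
  have : s = y * s * y⁻¹ := by rw [h]; group
  conv_lhs => rw [this]
  unfold gam; group

/-- an involution inverts `gam s d` -/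
theorem gam_inv {s : G} (h : s * s = 1) (d : G) : s * gam s d * s⁻¹ = (gam s d)⁻¹ := by
  have : s * gam s d * s⁻¹ = s * d⁻¹ * s⁻¹ * ((s * s) * d * (s * s)⁻¹) := by unfold gam; group
  rw [this, h]; unfold gam; group

/-! ### the groups `D` -/

namespace SD
variable {z : G} {D : Subgroup G} (h : SD z D)
include h

theorem zinv : z⁻¹ = z := inv_of_sq h.zz

theorem zC : z ∈ 𝒞(D) := mem_cent'.mpr h.cz

theorem le_cen : D ≤ cen z := fun x hx => mem_cen.mpr (h.cz x hx)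

theorem cen_le : cen z ≤ 𝒩(D) := fun x hx => h.nm x (mem_cen.mp hx)

theorem pow4 {x : G} (hx : x ∈ D) : x ^ 4 = 1 := by
  rw [show x ^ 4 = x * x * (x * x) by simp only [pow_succ, pow_zero, one_mul, mul_assoc]]
  rcases h.sq x hx with e | e <;> rw [e]
  exacts [one_mul 1, h.zz]

theorem isP : IsPGroup 2 D := isPGroup_iff_forall.mpr fun _ hx => ⟨2, h.pow4 hx⟩

theorem conj {x y : G} (hx : x ∈ D) (hy : y ∈ D) : x * y * x⁻¹ = y ∨ x * y * x⁻¹ = y * z := by
  rcases h.cm x hx y hy with e | e <;> rw [e]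
  · left; group
  · right; rw [mul_assoc y, h.cz x hx]; group

theorem gam2 {x y : G} (hx : x ∈ D) (hy : y ∈ D) : gam x y = 1 ∨ gam x y = z := by
  simpa only [gam_eq_iff, mul_one] using h.conj hx hy

theorem anti {x y : G} (hx : x ∈ D) (hy : y ∈ D) (hn : x * y ≠ y * x) : x * y = y * x * z :=
  (h.cm x hx y hy).resolve_left hn

theorem not_comm {x y : G} (e : x * y = y * x * z) : x * y ≠ y * x := fun e' =>
  h.z1 (by rwa [e', left_eq_mul] at e)

/-- subgroups of `D` containing `z` are normal -/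
theorem norm {K : Subgroup G} (hz : z ∈ K) (hK : K ≤ D) : D ≤ 𝒩(K) :=
  le_norm_of_cj_le fun g hg => by
    rintro _ ⟨x, hx, rfl⟩
    rcases h.conj hg (hK hx) with e | e
    · exact (show g * x * g⁻¹ ∈ K by rw [e]; exact hx)
    · exact (show g * x * g⁻¹ ∈ K by rw [e]; exact K.mul_mem hx hz)

theorem sq_mem {K : Subgroup G} (hz : z ∈ K) {x : G} (hx : x ∈ D) : x * x ∈ K := by
  rcases h.sq x hx with e | e <;> rw [e]
  exacts [K.one_mem, hz]

/-- two elements not commuting with `t` have a product commuting with `t` -/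
theorem mul_comm_of {x y t : G} (hx : x ∈ D) (hy : y ∈ D) (ht : t ∈ D) (h1 : x * t ≠ t * x)
    (h2 : y * t ≠ t * y) : x * y * t = t * (x * y) := by
  rw [mul_assoc, h.anti hy ht h2, ← mul_assoc, ← mul_assoc, h.anti hx ht h1, mul_assoc _ z, ← h.cz y hy]
  rw [show t * x * (y * z) * z = t * (x * y) * (z * z) by group, h.zz, mul_one]

theorem card_cen {K : Subgroup G} (hK : K ≤ D) {t d : G} (ht : t ∈ D) (hd : d ∈ K) (hn : d * t ≠ t * d) :
    Nat.card K = 2 * Nat.card (K ⊓ cen t : Subgroup G) := by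
  rw [card_eq_idx_mul (inf_le_left : K ⊓ cen t ≤ K), inf_relIndex_left]
  congr 1
  refine relIndex_eq_two_iff.mpr ⟨d, hd, fun b hb => ?_⟩
  by_cases hc : b ∈ cen t
  · exact Or.inr ⟨hc, fun e => hn (mem_cen.mp (((cen t).mul_mem_cancel_left hc).mp e))⟩
  · exact Or.inl ⟨mem_cen.mpr (h.mul_comm_of (hK hb) (hK hd) ht (fun e => hc (mem_cen.mpr e)) hn), hc⟩

theorem card_cen_le {K : Subgroup G} (hK : K ≤ D) {t : G} (ht : t ∈ D) :
    Nat.card K ≤ 2 * Nat.card (K ⊓ cen t : Subgroup G) := by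
  by_cases hc : K ≤ cen t
  · rw [inf_eq_left.mpr hc]; omega
  · obtain ⟨d, hd, hn⟩ := SetLike.not_le_iff_exists.mp hc
    exact (h.card_cen hK ht hd fun e => hn (mem_cen.mpr e)).le

theorem sq_mul_comm {x y : G} (hx : x * x = z) (hy : y * y = z) (e : x * y = y * x) : x * y * (x * y) = 1 := by
  rw [show x * y * (x * y) = x * (y * x) * y by group, ← e, show x * (x * y) * y = x * x * (y * y) by group,
    hx, hy, h.zz]

theorem sq_mul_anti {x y : G} (hy : y ∈ D) (e : x * y = y * x * z) :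
    x * y * (x * y) = x * x * (y * y) * z := by
  have e' : y * x = x * y * z := by rw [e, mul_assoc, h.zz, mul_one]
  rw [show x * y * (x * y) = x * (y * x) * y by group, e', show x * (x * y * z) * y = x * x * y * (z * y) by group,
    ← h.cz y hy]
  group

/-- an anisotropic section has rank at most 2 -/
theorem aniso [Finite G] {A B : Subgroup G} (hB : B ≤ D) (hAB : A ≤ B) (hz : z ∈ A)
    (h8 : 8 * Nat.card A ≤ Nat.card B) : ∃ x ∈ B, x ∉ A ∧ x * x = 1 := by
  by_contra hc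
  have sq : ∀ x ∈ B, x ∉ A → x * x = z := fun x hx hn =>
    (h.sq x (hB hx)).resolve_left fun e => hc ⟨x, hx, hn, e⟩
  have pos : 0 < Nat.card A := Nat.card_pos
  obtain ⟨x, xB, xA⟩ := exists_not_mem (A := A) (B := B) (by omega)
  let A1 := adj A x (h.norm hz (hAB.trans hB) (hB xB)) (h.sq_mem hz (hB xB))
  have c1 : Nat.card A1 = 2 * Nat.card A := card_adj xA
  have l1 : A1 ≤ B := adj_le hAB xB
  obtain ⟨y, yB, yA⟩ := exists_not_mem (A := A1) (B := B) (by omega)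
  let A2 := adj A1 y (h.norm (le_adj hz) (l1.trans hB) (hB yB)) (h.sq_mem (le_adj hz) (hB yB))
  have c2 : Nat.card A2 = 2 * Nat.card A1 := card_adj yA
  obtain ⟨w, wB, wA⟩ := exists_not_mem (A := A2) (B := B) (by omega)
  have x1 : x ∈ A1 := self_mem_adj
  have l2 : A1 ≤ A2 := le_adj
  have y2 : y ∈ A2 := self_mem_adj
  have l0 : A ≤ A1 := le_adj
  have an : ∀ a ∈ B, ∀ b ∈ B, a ∉ A → b ∉ A → a * b ∉ A → a * b = b * a * z := fun a ha b hb h1 h2 h3 =>
    h.anti (hB ha) (hB hb) fun e =>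
      h.z1 ((sq _ (B.mul_mem ha hb) h3).symm.trans (h.sq_mul_comm (sq a ha h1) (sq b hb h2) e))
  have yA' : y ∉ A := fun e => yA (l0 e)
  have wA' : w ∉ A := fun e => wA (l2 (l0 e))
  have n : ∀ a ∈ A2, a * w ∉ A := fun a ha e => wA ((A2.mul_mem_cancel_left ha).mp (l2 (l0 e)))
  have xy : x * y ∉ A := fun e => yA ((A1.mul_mem_cancel_left x1).mp (l0 e))
  have e1 := an x xB w wB xA wA' (n x (l2 x1))
  have e2 := an y yB w wB yA' wA' (n y y2)
  have e3 := an _ (B.mul_mem xB yB) w wB xy wA' (n _ (mul_mem (l2 x1) y2))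
  exact h.not_comm e3 (h.mul_comm_of (hB xB) (hB yB) (hB wB) (h.not_comm e1) (h.not_comm e2))

end SD

theorem SD.map {X : Type*} [Group X] {z : X} {D : Subgroup X} (h : SD z D) (f : X →* G)
    (hf : Function.Injective f) (hr : cen (f z) ≤ f.range) : SD (f z) (D.map f) := by
  refine ⟨fun e => h.z1 (hf (e.trans f.map_one.symm)), by rw [← map_mul, h.zz, map_one], mem_map_of_mem f h.zD,
    ?_, ?_, ?_, fun g hg => ?_⟩
  · rintro _ ⟨x, hx, rfl⟩
    rw [← map_mul, h.cz x hx, map_mul]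
  · rintro _ ⟨x, hx, rfl⟩
    exact (h.sq x hx).imp (fun e => by rw [← map_mul, e, map_one]) fun e => by rw [← map_mul, e]
  · rintro _ ⟨x, hx, rfl⟩ _ ⟨y, hy, rfl⟩
    exact (h.cm x hx y hy).imp (fun e => by rw [← map_mul, e, map_mul]) fun e => by
      rw [← map_mul, e, map_mul, map_mul]
  · obtain ⟨g, rfl⟩ := hr (mem_cen.mpr hg)
    exact le_normalizer_map f (mem_map_of_mem f (h.nm g (hf (by rw [map_mul, hg, map_mul]))))

theorem map_mem_cent {X : Type*} [Group X] {D : Subgroup X} {f : X →* G} (hf : Function.Injective f) {x : X} :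
    f x ∈ 𝒞(D.map f) ↔ x ∈ 𝒞(D) := by
  refine ⟨fun e => mem_cent'.mpr fun y hy => hf ?_, fun e => mem_cent'.mpr ?_⟩
  · rw [map_mul, map_mul, comm_of_mem e (mem_map_of_mem f hy)]
  · rintro _ ⟨y, hy, rfl⟩
    rw [← map_mul, comm_of_mem e hy, map_mul]

theorem Typ.map {X : Type*} [Group X] {z : X} {D : Subgroup X} (ht : Typ z D) (h : SD z D) (f : X →* G)
    (hf : Function.Injective f) (hr : cen (f z) ≤ f.range) : Typ (f z) (D.map f) := by
  have ctr : (∀ x ∈ D, x ∈ 𝒞(D) → x = 1 ∨ x = z) → ∀ x ∈ D.map f, x ∈ 𝒞(D.map f) → x = 1 ∨ x = f z := by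
    rintro hc _ ⟨x, hx, rfl⟩ e
    exact (hc x hx ((map_mem_cent hf).mp e)).imp (fun e => by rw [e, map_one]) fun e => by rw [e]
  rcases ht with ht | ht | ht
  · obtain ⟨g, g5, gz, gn, gc⟩ := ht.five
    refine Or.inl ⟨by rw [card_map_of_injective hf, ht.card], ctr ht.ctr, fun A hA hs => ?_,
      f g, by rw [← map_pow, g5, map_one], by rw [← map_mul, gz, map_mul], fun e => gn ((map_mem_cent hf).mp e),
      mem_cent'.mpr fun y hy => ?_⟩
    · rw [← map_comap_eq_self (hA.trans (map_le_range f D)), card_map_of_injective hf]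
      exact ht.rk2 _ (fun x hx => (mem_map_iff_mem hf).mp (hA hx)) fun a ha =>
        hf (by rw [map_mul, hs _ ha, map_one])
    · obtain ⟨y, rfl⟩ := hr (mem_cen.mpr (comm_of_mem hy (mem_map_of_mem f h.zD)).symm)
      rw [← map_mul, comm_of_mem gc ((map_mem_cent hf).mp hy), map_mul]
  · obtain ⟨a, aD, aa, ha⟩ := ht.ctr
    refine Or.inr (Or.inl ⟨by rw [card_map_of_injective hf, ht.card],
      ⟨f a, mem_map_of_mem f aD, by rw [← map_mul, aa], ?_⟩, ?_⟩)
    · rintro _ ⟨x, hx, rfl⟩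
      rw [map_mem_cent hf, ha x hx, ← MonoidHom.map_zpowers, mem_map_iff_mem hf]
    · rintro _ ⟨x, hx, rfl⟩ _ ⟨y, hy, rfl⟩ h1 h2 h3 h4 h5 h6
      exact f.map_isConj (ht.conj x hx y hy (hf (by rw [map_mul, h1, map_one])) (hf (by rw [map_mul, h2, map_one]))
        (fun e => h3 (by rw [e, map_one])) (fun e => h4 (by rw [e])) (fun e => h5 (by rw [e, map_one]))
        fun e => h6 (by rw [e]))
  · exact Or.inr (Or.inr ⟨by rw [card_map_of_injective hf, ht.card], ctr ht.ctr⟩)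

theorem SD.cj {z : G} {D : Subgroup G} (h : SD z D) (g : G) : SD (g * z * g⁻¹) (cj g D) :=
  h.map (MulAut.conj g).toMonoidHom (MulAut.conj g).injective fun x _ => (MulAut.conj g).surjective x

theorem Typ.cj {z : G} {D : Subgroup G} (ht : Typ z D) (h : SD z D) (g : G) : Typ (g * z * g⁻¹) (cj g D) :=
  ht.map h (MulAut.conj g).toMonoidHom (MulAut.conj g).injective fun x _ => (MulAut.conj g).surjective x

namespace Typ
variable {z : G} {D : Subgroup G} (ht : Typ z D)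
include ht

theorem card_ge : 32 ≤ Nat.card D := by
  rcases ht with ht | ht | ht <;> rw [ht.card] <;> omega

theorem ta_or : TA z D ∨ 64 ≤ Nat.card D := by
  rcases ht with ht | ht | ht
  exacts [Or.inl ht, Or.inr ht.card.ge, Or.inr (by rw [ht.card]; omega)]

/-- the central elements of square 1 -/
theorem ctr_inv (h : SD z D) {x : G} (hx : x ∈ D) (hc : x ∈ 𝒞(D)) (h2 : x * x = 1) : x = 1 ∨ x = z := by
  rcases ht with ht | ht | ht
  · exact ht.ctr x hx hc
  · obtain ⟨a, aD, aa, ha⟩ := ht.ctr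
    rcases (mem_zp4 aa h.zz).mp ((ha x hx).mp hc) with e | e | e | e
    · exact Or.inl e
    · exact (h.z1 (by rw [← aa, ← e, h2])).elim
    · exact Or.inr e
    · refine (h.z1 ?_).elim
      rwa [e, show a * z * (a * z) = a * (z * a) * z by group, ← h.cz a aD,
        show a * (a * z) * z = a * a * (z * z) by group, h.zz, aa, mul_one] at h2
  · exact ht.ctr x hx hc

theorem card_ctr (h : SD z D) : Nat.card (D ⊓ 𝒞(D) : Subgroup G) ≤ 4 := by
  rcases ht with ht | ht | ht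
  · exact (card_le_two (K := D ⊓ 𝒞(D)) fun x hx => ht.ctr x hx.1 hx.2).trans (by decide)
  · obtain ⟨a, aD, aa, ha⟩ := ht.ctr
    exact card_le_four fun x hx => (mem_zp4 aa h.zz).mp ((ha x hx.1).mp hx.2)
  · exact (card_le_two (K := D ⊓ 𝒞(D)) fun x hx => ht.ctr x hx.1 hx.2).trans (by decide)

/-- an abelian subgroup does not have index at most 2 -/
theorem nab [Finite G] (h : SD z D) {t : G} (tD : t ∈ D) :
    ∃ x ∈ D, ∃ y ∈ D, x * t = t * x ∧ y * t = t * y ∧ x * y = y * x * z := by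
  by_contra hc
  have ab : ∀ x ∈ D ⊓ cen t, ∀ y ∈ D ⊓ cen t, x * y = y * x := fun x hx y hy =>
    (h.cm x hx.1 y hy.1).resolve_right fun e => hc ⟨x, hx.1, y, hy.1, mem_cen.mp hx.2, mem_cen.mp hy.2, e⟩
  have c1 := ht.card_ge
  have c2 := ht.card_ctr h
  have c3 := h.card_cen_le le_rfl tD
  obtain ⟨d, dD, hd⟩ : ∃ d ∈ D, ∀ x ∈ D, x ∈ cen t ∨ x * d⁻¹ ∈ cen t := by
    by_cases hc : D ≤ cen t
    · exact ⟨1, one_mem _, fun x hx => Or.inl (hc hx)⟩
    · obtain ⟨d, dD, hn⟩ := SetLike.not_le_iff_exists.mp hc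
      refine ⟨d, dD, fun x hx => or_iff_not_imp_left.mpr fun hx' => mem_cen.mpr ?_⟩
      exact h.mul_comm_of hx (D.inv_mem dD) tD (fun e => hx' (mem_cen.mpr e))
        fun e => hn (by simpa using (cen t).inv_mem (mem_cen.mpr e))
  have c4 := h.card_cen_le (inf_le_left : D ⊓ cen t ≤ D) dD
  have hle : (D ⊓ cen t) ⊓ cen d ≤ D ⊓ 𝒞(D) := fun y hy => ⟨hy.1.1, mem_cent'.mpr fun x hx => by
    rcases hd x hx with e | e
    · exact ab x ⟨hx, e⟩ y hy.1
    · have := ab _ ⟨D.mul_mem hx (D.inv_mem dD), e⟩ y hy.1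
      rw [show x = x * d⁻¹ * d by group, mul_assoc, ← mem_cen.mp hy.2, ← mul_assoc, this, mul_assoc]⟩
  have := card_le_of_le hle
  omega

end Typ

theorem T1.nsq {z s n y : G} {D : Subgroup G} (h1 : T1 z D s n) (h : SD z D) (hy : y * z = z * y) :
    y * y ≠ s := by
  rintro rfl
  obtain ⟨d, dD, hd⟩ : ∃ d ∈ D, d * n ≠ n * d := by
    by_contra hc
    push Not at hc
    exact h1.nc (mem_cent'.mpr hc)
  have nz := h.cz n h1.nD
  have yz : y * z * y⁻¹ = z := by rw [hy]; group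
  have key : y * n * y⁻¹ = n ∨ y * n * y⁻¹ = n * z := by
    have m1 := (mem_zp4 h1.nn h.zz).mp (h1.mem d dD)
    have m2 := (mem_zp4 h1.nn h.zz).mp (h1.mem _ (conj_mem (h.nm y hy) dD))
    have m3 := (h1.iff d dD).not.mpr hd
    rw [gam_conj (by group)] at m2
    generalize gam (y * y) d = c at m1 m2 m3
    have m4 : ¬ (y * c * y⁻¹ = 1 ∨ y * c * y⁻¹ = z) := fun e => m3 (e.imp (by simp) fun e => by
      rw [← yz] at e; simpa using e)
    have m5 : y * c * y⁻¹ = n ∨ y * c * y⁻¹ = n * z := by tauto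
    have m6 : c = n ∨ c = n * z := by tauto
    rcases m6 with rfl | rfl
    · exact m5
    · rw [show y * (n * z) * y⁻¹ = y * n * y⁻¹ * (y * z * y⁻¹) by group, yz] at m5
      exact (m5.imp (fun e => by rw [← h.zinv, eq_mul_inv_iff_mul_eq, e]) mul_right_cancel).symm
  have e : y * y * n * (y * y)⁻¹ = n := by
    rw [show y * y * n * (y * y)⁻¹ = y * (y * n * y⁻¹) * y⁻¹ by group]
    rcases key with e | e <;> rw [e]
    · exact e
    · rw [show y * (n * z) * y⁻¹ = y * n * y⁻¹ * (y * z * y⁻¹) by group, yz, e, mul_assoc, h.zz, mul_one]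
  exact h.z1 (by rw [← h1.nn]; exact mul_eq_one_iff_eq_inv.mpr (e.symm.trans h1.inv))

/-- a quaternion subgroup of `D` centralizing the noncentral involution `t` -/
theorem exQ8 [Finite G] {z t : G} {D : Subgroup G} (hr : PRankLE 2 3 G) (h : SD z D) (ht : Typ z D) (tD : t ∈ D)
    (tt : t * t = 1) (t1 : t ≠ 1) (tz : t ≠ z) :
    ∃ i ∈ D, ∃ j ∈ D, i * t = t * i ∧ j * t = t * j ∧ i * i = z ∧ j * j = z ∧ i * j = j * i * z := by
  have key : ∀ x ∈ D, ∀ y ∈ D, x * t = t * x → y * t = t * y → x * y = y * x * z → x * x = 1 → y * y = 1 →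
      ∃ i ∈ D, ∃ j ∈ D, i * t = t * i ∧ j * t = t * j ∧ i * i = z ∧ j * j = z ∧ i * j = j * i * z := by
    intro x xD y yD xt yt xy xx yy
    have ci : CI3 z t x := ⟨h.zz, tt, xx, (h.cz t tD).symm, (h.cz x xD).symm, xt.symm⟩
    have n := h.not_comm xy
    have zy := (h.cz y yD).symm
    have zty : z * t * y = y * (z * t) := by rw [mul_assoc, ← yt, ← mul_assoc, zy, mul_assoc]
    have ind : Ind3 z t x := ⟨h.z1, t1, tz, fun e => n (by simp [e]), fun e => n (by rw [e, zy]),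
      fun e => n (by rw [e, yt]), fun e => n (by rw [e, zty])⟩
    rcases ht.ta_or with ha | h64
    · have := ha.rk2 _ ((closure_le D).mpr (by rintro _ (rfl | rfl | rfl); exacts [h.zD, tD, xD])) (sq_e3 ci)
      rw [card_e3 ci ind] at this
      omega
    have c1 := h.card_cen_le le_rfl tD
    have c2 := h.card_cen_le (inf_le_left : D ⊓ cen t ≤ D) xD
    have c3 := h.card_cen_le (inf_le_left.trans inf_le_left : D ⊓ cen t ⊓ cen x ≤ D) yD
    obtain ⟨w, ⟨⟨⟨wD, wt⟩, wx⟩, wy⟩, ww⟩ : ∃ w ∈ D ⊓ cen t ⊓ cen x ⊓ cen y, w * w = z := by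
      by_contra hc
      have : Nat.card (D ⊓ cen t ⊓ cen x ⊓ cen y : Subgroup G) ≤ 4 :=
        card_le_four (a := 1) (b := z) (c := t) (d := z * t) fun w hw => by
          have w1 := (h.sq w hw.1.1.1).resolve_right fun e => hc ⟨w, hw, e⟩
          have hy : ∀ a ∈ cen y, w ≠ a * x := fun a ha e =>
            n (mem_cen.mp (((cen y).mul_mem_cancel_left ha).mp (e ▸ hw.2)))
          rcases four_inv' ci hr ind w1 (h.cz w hw.1.1.1).symm (mem_cen.mp hw.1.1.2).symm
            (mem_cen.mp hw.1.2).symm with e | e | e | e | e | e | e | e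
          exacts [by tauto, by tauto, by tauto, by tauto, (hy 1 (one_mem _) (by rw [e, one_mul])).elim,
            (hy z (mem_cen.mpr zy) e).elim, (hy t (mem_cen.mpr yt.symm) e).elim,
            (hy _ (mem_cen.mpr zty) e).elim]
      omega
    have s : ∀ x, w * x = x * w → x * x = 1 → x * w * (x * w) = z := fun x e xx => by
      rw [show x * w * (x * w) = x * (w * x) * w by group, e, show x * (x * w) * w = x * x * (w * w) by group,
        xx, ww, one_mul]
    have wx := mem_cen.mp wx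
    have wy := mem_cen.mp wy
    refine ⟨x * w, mul_mem xD wD, y * w, mul_mem yD wD, mem_cen.mp (mul_mem (mem_cen.mpr xt) wt),
      mem_cen.mp (mul_mem (mem_cen.mpr yt) wt), s x wx xx, s y wy yy, ?_⟩
    rw [show x * w * (y * w) = x * (w * y) * w by group, wy, show y * w * (x * w) = y * (w * x) * w by group, wx,
      show x * (y * w) * w = x * y * (w * w) by group, show y * (x * w) * w = y * x * (w * w) by group, xy, ww]
  obtain ⟨x, xD, y, yD, xt, yt, xy⟩ := ht.nab h tD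
  have s := h.sq_mul_anti yD xy
  have xyt : x * y * t = t * (x * y) := mem_cen.mp (mul_mem (mem_cen.mpr xt) (mem_cen.mpr yt))
  rcases h.sq x xD with xx | xx <;> rcases h.sq y yD with yy | yy
  · exact key x xD y yD xt yt xy xx yy
  · refine key x xD _ (mul_mem xD yD) xt xyt ?_ xx (by rw [s, xx, yy, one_mul, h.zz])
    conv_lhs => rw [xy]
    rw [xy, ← mul_assoc, ← mul_assoc, xy]
  · refine key _ (mul_mem xD yD) y yD xyt yt ?_ (by rw [s, xx, yy, mul_one, h.zz]) yy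
    conv_lhs => rw [xy]
    rw [mul_assoc, ← h.cz y yD]; group
  · exact ⟨x, xD, y, yD, xt, yt, xx, yy, xy⟩

/-- an elementary subgroup of order 8 -/
theorem exE8 [Finite G] {z : G} {D : Subgroup G} (h : SD z D) (h64 : 64 ≤ Nat.card D) :
    ∃ A ≤ D, z ∈ A ∧ (∀ a ∈ A, a * a = 1) ∧ Nat.card A = 8 := by
  have z2 : ∀ a ∈ zpowers z, a * a = 1 := fun a ha => by
    rcases (mem_zp2 h.zz).mp ha with rfl | rfl
    exacts [one_mul 1, h.zz]
  have zD : zpowers z ≤ D := zpowers_le.mpr h.zD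
  have c0 := card_zp2 h.zz h.z1
  obtain ⟨t, tD, tn, tt⟩ := h.aniso le_rfl zD (mem_zpowers z) (by omega)
  have tc : t ∈ 𝒞(zpowers z) := le_centralizer_iff.mp (zpowers_le.mpr h.zC) tD
  let A1 := adj _ t (cent_le_norm _ tc) (by rw [tt]; exact one_mem _)
  have c1 : Nat.card A1 = 2 * Nat.card (zpowers z) := card_adj tn
  have s1 : ∀ a ∈ A1, a * a = 1 := adj_sq z2 tt tc
  have c2 := h.card_cen_le le_rfl tD
  have l1 : A1 ≤ D ⊓ cen t :=
    adj_le (zpowers_le.mpr ⟨h.zD, mem_cen.mpr (h.cz t tD).symm⟩) ⟨tD, mem_cen.mpr rfl⟩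
  obtain ⟨e, eD, en, ee⟩ := h.aniso inf_le_left l1 (le_adj (mem_zpowers z)) (by omega)
  have ec : e ∈ 𝒞(A1) := mem_cent'.mpr fun x hx => mem_cen.mp ((adj_le (B := cen e)
    (zpowers_le.mpr (mem_cen.mpr (h.cz e eD.1).symm)) (mem_cen.mpr (mem_cen.mp eD.2).symm)) hx)
  exact ⟨adj A1 e (cent_le_norm _ ec) (by rw [ee]; exact one_mem _), adj_le (l1.trans inf_le_left) eD.1,
    le_adj (le_adj (mem_zpowers z)), adj_sq s1 ee ec, by rw [card_adj en]; omega⟩

end CL.ON3
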