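/-
Project ON3, job BIG1: the centralizer of an involution of `V` when `C(V)` is homocyclic of exponent at least 4.
-/
import Cfsg.Agent.ON3.Bas
import Cfsg.Agent.Even.StrEmb
import Cfsg.Agent.Altn.Frame1

set_option autoImplicit false
set_option linter.unusedSectionVars false
open Cfsg Subgroup CL.Even
open scoped commutatorElement

namespace CL.ON3

universe u

namespace Big1

variable {G : Type*} [Group G] [Finite G] {V : Subgroup G} {n : ℕ} {z : G}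

theorem le_of_nm {S P : Subgroup G} (hP : IsPGroup 2 P) (hS : S ≤ P) (h : ∀ x ∈ P, x ∈ 𝒩(S) → x ∈ S) : P ≤ S := by
  by_contra e
  obtain ⟨x, h1, h2, h3⟩ := spe_exists_normalizer_of_lt hP (lt_of_le_not_ge hS e)
  exact h3 (h x h1 h2)

theorem fix_mod {U U₀ P : Subgroup G} (hU : IsPGroup 2 U) (hP : IsPGroup 2 P) (hn : P ≤ 𝒩(U)) (hne : ¬ U ≤ U₀) :
    ∃ u ∈ U, u ∉ U₀ ∧ ∀ x ∈ P, ⁅u, x⁆ ∈ U₀ := by
  obtain ⟨i, h1, h2⟩ := exists_iter_not_le (exists_iter_eq_bot hU hP hn) hne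
  obtain ⟨u, hu, hu0⟩ := SetLike.not_le_iff_exists.1 h1
  exact ⟨u, iter_le hn i hu, hu0, fun x hx => h2 (commutator_mem_commutator hu hx)⟩

variable (h : HF V n)
include h

theorem mem_M {x : G} (hx : ∀ v ∈ V, x * v * x⁻¹ ∈ 𝒞(V)) : x ∈ 𝒩(V) := mem_norm_of_cj_le (by
  rintro _ ⟨v, hv, rfl⟩
  exact h.om _ (hx v hv) (by
    change x * v * x⁻¹ * (x * v * x⁻¹) = 1
    rw [conj_mul, h.full.sq v hv, mul_one, mul_inv_cancel]))

theorem cR {a b : G} (ha : a ∈ 𝒞(V)) (hb : b ∈ 𝒞(V)) : Commute a b := comm_of_mem (h.ab hb) ha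

variable (hz : z ∈ V) (z1 : z ≠ 1)
include hz z1

theorem tr {w w' : G} (hw : w ∈ V) (w1 : w ≠ 1) (wz : w ≠ z) (hw' : w' ∈ V) (w1' : w' ≠ 1) (wz' : w' ≠ z) :
    ∃ m ∈ 𝒩(V), m ∈ cen z ∧ m * w * m⁻¹ = w' := by
  obtain ⟨c, hc⟩ := h.full.basis2 hz hw z1 w1 wz
  obtain ⟨c', hc'⟩ := h.full.basis2 hz hw' z1 w1' wz'
  obtain ⟨m, hm, h1, h2, -⟩ := h.full.move hc hc'
  exact ⟨m, hm, mem_cen.2 (mul_inv_eq_iff_eq_mul.1 h1), h2⟩

omit z1 in
theorem RH : 𝒞(V) ≤ cen z := fun _ hx => mem_cen.2 (comm_of_mem hx hz).symm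

variable {P : Subgroup G} (hP : IsPGroup 2 P) (hPH : P ≤ cen z) (hn : cen z ≤ 𝒩(P))
include hP hPH hn

theorem trv {p v : G} (hp : p ∈ P) (hpM : p ∈ 𝒩(V)) (hv : v ∈ V) : gam p v = 1 ∨ gam p v = z := by
  have zz := h.full.sq z hz
  obtain ⟨w, hw, w0, hw2⟩ := fix_mod (U₀ := zpowers z) h.full.isP (hP.to_inf_left (K := 𝒩(V))) inf_le_right fun e => by
    have := card_le_of_le e
    rw [card_zp2 zz z1, h.full.card] at this
    omega
  by_cases v1 : v = 1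
  · exact Or.inl (gam_eq_one.2 (by simp [v1]))
  by_cases vz : v = z
  · exact Or.inl (gam_eq_one.2 (vz ▸ (mem_cen.1 (hPH hp)).symm))
  obtain ⟨m, hm, hmz, rfl⟩ := tr h hz z1 hw (fun e => w0 (e ▸ one_mem _)) (fun e => w0 (e ▸ mem_zpowers _)) hv v1 vz
  have k1 := hw2 (m⁻¹ * p * m) (mem_inf.2 ⟨conj_mem' (hn hmz) hp, mul_mem (mul_mem (inv_mem hm) hpM) hm⟩)
  have k2 : gam p (m * w * m⁻¹) = m * ⁅w, m⁻¹ * p * m⁆ * m⁻¹ := by
    rw [gam, commutatorElement_def, inv_of_sq (h.full.sq w hw), mul_inv_rev, mul_inv_rev, inv_of_sq (h.full.sq w hw)]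
    group
  rw [k2]
  refine ((mem_zp2 zz).1 k1).imp (fun e => by rw [e]; group) fun e => ?_
  rw [e, mem_cen.1 hmz, mul_inv_cancel_right]

theorem sqR {p : G} (hp : p ∈ P) (hpM : p ∈ 𝒩(V)) : p * p ∈ 𝒞(V) := mem_cent'.2 fun v hv => by
  rw [eq_comm, ← mul_inv_eq_iff_eq_mul, show p * p * v * (p * p)⁻¹ = p * (p * v * p⁻¹) * p⁻¹ by group]
  rcases trv h hz z1 hP hPH hn hp hpM hv with k | k <;> rw [gam_eq_iff] at k
  · rw [mul_one] at k; rw [k, k]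
  · rw [k, ← conj_mul, k, mem_cen.1 (hPH hp), mul_inv_cancel_right, mul_assoc, h.full.sq z hz, mul_one]

theorem close (hc : ∀ x ∈ 𝒩(P ⊓ 𝒩(V)), ∀ v ∈ V, x * v * x⁻¹ ∈ 𝒞(V)) : cen z ≤ 𝒩(V) := by
  have k := le_of_nm (S := P ⊓ 𝒩(V)) hP inf_le_left fun x hx hx' => ⟨hx, mem_M h (hc x hx')⟩
  exact fun x hx => mem_M h (hc x (by rw [le_antisymm inf_le_left k]; exact hn hx))

theorem case_le (hC : cen z ⊓ 𝒞(P) ≤ P) (hle : P ⊓ 𝒩(V) ≤ 𝒞(V)) : cen z ≤ 𝒩(V) := by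
  have hR : IsPGroup 2 𝒞(V) := isPGroup_iff_forall.2 fun x hx => ⟨n, h.pw x hx⟩
  have k0 : ∀ x ∈ 𝒩(𝒞(V)), x ∈ 𝒩(V) := fun x hx => mem_M h fun v hv => conj_mem hx (h.full.le_cent hv)
  have hRP := (RH h hz).trans hn
  have k1 : P ⊔ 𝒞(V) ≤ 𝒞(V) := le_of_nm (isPGroup_sup' hP hR hRP) le_sup_right fun x hx hx' => by
    obtain ⟨p, hp, r, hr, rfl⟩ := (mem_sup_nl hRP).1 hx
    exact mul_mem (hle ⟨hp, (mul_mem_cancel_right (cent_le_norm V hr)).1 (k0 _ hx')⟩) hr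
  have k2 : P ≤ 𝒞(V) := le_sup_left.trans k1
  have k3 : 𝒞(V) ≤ P := fun r hr => hC ⟨RH h hz hr, cent_mono k2 (h.ab hr)⟩
  exact fun x hx => k0 x (le_antisymm k2 k3 ▸ hn hx)

theorem ab_le {A : Subgroup G} (hA : A ≤ P ⊓ 𝒩(V)) (ab : ∀ a ∈ A, ∀ b ∈ A, a * b = b * a) (hR : ¬ A ≤ 𝒞(V)) :
    Nat.card A ≤ 2 ^ (n + 3) := by
  classical
  obtain ⟨e, he, eR⟩ := SetLike.not_le_iff_exists.1 hR
  obtain ⟨d, y, ib⟩ := h.ib e (hA he).2 eR (sqR h hz z1 hP hPH hn (hA he).1 (hA he).2)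
  obtain ⟨u, v, hb⟩ := h.full.basis hz z1
  have key : ∀ {a b w : G}, a ∈ A → b ∈ A → w ∈ V → decide (gam a w = 1) = decide (gam b w = 1) →
      a⁻¹ * b * w * (a⁻¹ * b)⁻¹ = w := fun {a b w} ha hb hw e => by
    have k : gam a w = gam b w := by
      rw [decide_eq_decide] at e
      rcases trv h hz z1 hP hPH hn (hA ha).1 (hA ha).2 hw with k1 | k1
      · rw [k1, e.1 k1]
      rcases trv h hz z1 hP hPH hn (hA hb).1 (hA hb).2 hw with k2 | k2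
      · rw [k2, e.2 k2]
      · rw [k1, k2]
    have k' : a * w * a⁻¹ = b * w * b⁻¹ := mul_left_cancel k
    rw [show a⁻¹ * b * w * (a⁻¹ * b)⁻¹ = a⁻¹ * (b * w * b⁻¹) * a by group, ← k']
    group
  have k1 := CL.Altn.card_le_mul_of_map (H := A) (K := 𝒞(V)) (X := Bool × Bool)
    (fun a => (decide (gam (a : G) u = 1), decide (gam (a : G) v = 1))) fun a b e =>
      hb.ext (mul_inv_eq_iff_eq_mul.2 (mem_cen.1 (hPH (hA (mul_mem (inv_mem a.2) b.2)).1)))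
        (key a.2 b.2 hb.bV (congrArg Prod.fst e)) (key a.2 b.2 hb.cV (congrArg Prod.snd e))
  have k2 := (card_le_of_le (show A ⊓ 𝒞(V) ≤ 𝒞(V) ⊓ cen e from fun x hx =>
    ⟨hx.2, mem_cen.2 (ab x hx.1 e he)⟩)).trans ib.cardC
  rw [Nat.card_prod, Nat.card_eq_fintype_card (α := Bool), Fintype.card_bool] at k1
  rw [pow_succ] at k2
  rw [pow_add]
  omega

theorem big {e : G} (he : e ∈ P) (heM : e ∈ 𝒩(V)) (eR : e ∉ 𝒞(V)) :
    V ≤ P ∧ 2 ^ (3 * n) ≤ 4 * Nat.card (P ⊓ 𝒞(V) : Subgroup G) := by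
  obtain ⟨d, y, ib⟩ := h.ib e heM eR (sqR h hz z1 hP hPH hn he heM)
  have hRP := (RH h hz).trans hn
  have h2 := h.two
  have dz : d ^ 2 ^ (n - 1) = z := by
    obtain ⟨w, hw, k⟩ : ∃ w ∈ V, gam e w ≠ 1 := by
      by_contra! k
      exact eR (mem_cent'.2 fun w hw => gam_eq_one.1 (k w hw))
    rw [← (ib.dz w hw).resolve_left k, (trv h hz z1 hP hPH hn he heM hw).resolve_left k]
  have dP : d ∈ P := by
    obtain ⟨r, hr, rfl⟩ := ib.exd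
    exact gam_mem' (hRP hr) he
  have yP : y * y ∈ P := by
    have k1 := (ib.inv y ib.yR).2 (subset_closure (by simp))
    have k2 := gam_mem' (hRP (inv_mem ib.yR)) he
    rwa [gam, inv_inv, ← conj_inv, k1, inv_inv] at k2
  have yV : y ^ 2 ^ (n - 1) ∈ V := h.om _ (pow_mem ib.yR _) (by
    rw [← pow_add, ← two_mul, ← pow_succ', Nat.sub_add_cancel (by omega), h.pw y ib.yR])
  let S : Subgroup G :=
    { carrier := {r | r ∈ 𝒞(V) ∧ r * r ∈ P}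
      one_mem' := ⟨one_mem _, by simp⟩
      mul_mem' := fun {a b} ha hb => ⟨mul_mem ha.1 hb.1, by
        rw [(cR h hb.1 ha.1).mul_mul_mul_comm]; exact mul_mem ha.2 hb.2⟩
      inv_mem' := fun {a} ha => ⟨inv_mem ha.1, by rw [← mul_inv_rev]; exact inv_mem ha.2⟩ }
  have hS : 𝒞(V) ≤ S := h.gen S (fun _ hr => hr.1) fun v hv => by
    by_cases v1 : v = 1
    · exact ⟨1, one_mem _, by simp [v1]⟩
    by_cases vz : v = z
    · exact ⟨d, ⟨ib.dR, mul_mem dP dP⟩, dz.trans vz.symm⟩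
    obtain ⟨m, hm, hmz, rfl⟩ := tr h hz z1 yV ib.y1 (dz ▸ ib.yz) hv v1 vz
    exact ⟨m * y * m⁻¹, ⟨conj_mem (norm_le_norm_cent V hm) ib.yR, by
      rw [conj_mul]; exact conj_mem (hn hmz) yP⟩, conj_pow⟩
  refine ⟨fun v hv => ?_, ?_⟩
  · obtain ⟨r, hr, rfl⟩ := h.surj v hv
    rw [show n - 1 = n - 2 + 1 by omega, pow_succ', pow_mul, pow_two]
    exact pow_mem (hS hr).2 _
  let T : Subgroup G :=
    { carrier := {r | r ∈ P ⊓ 𝒞(V) ∧ r ^ 2 ^ (n - 1) = 1}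
      one_mem' := ⟨one_mem _, one_pow _⟩
      mul_mem' := fun {a b} ha hb => ⟨mul_mem ha.1 hb.1, by rw [(cR h ha.1.2 hb.1.2).mul_pow, ha.2, hb.2, one_mul]⟩
      inv_mem' := fun {a} ha => ⟨inv_mem ha.1, by rw [inv_pow, ha.2, inv_one]⟩ }
  have k1 := CL.Altn.card_le_mul_of_map (H := 𝒞(V)) (K := V) (X := T)
    (fun r => ⟨r * r, ⟨(hS r.2).2, mul_mem r.2 r.2⟩, by
      rw [← pow_two, ← pow_mul, ← pow_succ', Nat.sub_add_cancel (by omega), h.pw r r.2]⟩) fun a b e =>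
      h.om _ (mul_mem (inv_mem a.2) b.2) (by
        have e' : (a : G) * a = b * b := congrArg Subtype.val e
        rw [(cR h b.2 (inv_mem a.2)).mul_mul_mul_comm, ← e']
        group)
  have k2 := card_le_of_le (inf_le_right : 𝒞(V) ⊓ V ≤ V)
  rw [h.full.card] at k2
  obtain ⟨k, k3⟩ := card_dvd_of_le (show T ≤ P ⊓ 𝒞(V) from fun _ hr => hr.1)
  have k4 : k ≠ 1 := fun e => z1 (by
    have := eq_of_le_of_card_ge (show T ≤ P ⊓ 𝒞(V) from fun _ hr => hr.1) (by rw [k3, e, mul_one])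
    rw [← dz]
    exact (this.ge ⟨dP, ib.dR⟩).2)
  have k5 : k ≠ 0 := fun e => by
    have : 0 < Nat.card (P ⊓ 𝒞(V) : Subgroup G) := Nat.card_pos
    rw [k3, e] at this
    omega
  rw [h.card] at k1
  have k6 := Nat.mul_le_mul_left (Nat.card T) k2
  have k7 := Nat.mul_le_mul_left (Nat.card T) (show 2 ≤ k by omega)
  omega

end Big1

open Big1 in
theorem big1Thm : Big1Thm.{u} := by
  intro G _ _ V n z hy h hz z1
  have hC : cen z ⊓ 𝒞(pCoreOf 2 (cen z)) ≤ pCoreOf 2 (cen z) := hy.cz z z1 (h.full.sq z hz)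
  have hP : IsPGroup 2 (pCoreOf 2 (cen z)) := core_isP _
  have hPH : pCoreOf 2 (cen z) ≤ cen z := core_le _
  have hn : cen z ≤ 𝒩(pCoreOf 2 (cen z)) := self_le_norm_core _
  generalize pCoreOf 2 (cen z) = P at hC hP hPH hn
  by_cases hle : P ⊓ 𝒩(V) ≤ 𝒞(V)
  · exact Or.inl (case_le h hz z1 hP hPH hn hC hle)
  obtain ⟨e, he, eR⟩ := SetLike.not_le_iff_exists.1 hle
  obtain ⟨VP, hb⟩ := big h hz z1 hP hPH hn he.1 he.2 eR
  have h2 := h.two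
  by_cases hc : 2 ^ (n + 3) < Nat.card (P ⊓ 𝒞(V) : Subgroup G)
  · refine Or.inl (close h hz z1 hP hPH hn fun x hx v hv => ?_)
    refine (show cj x (P ⊓ 𝒞(V)) ≤ 𝒞(V) from by_contra fun k => ?_) (conj_mem_cj x ⟨VP hv, h.full.le_cent hv⟩)
    have := ab_le h hz z1 hP hPH hn (cj_le_of_le (inf_le_inf_left P (cent_le_norm V)) hx) (by
      rintro _ ⟨a, ha, rfl⟩ _ ⟨b, hb, rfl⟩
      rw [← map_mul, ← map_mul, (cR h ha.2 hb.2).eq]) k
    rw [card_cj] at this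
    omega
  have hn2 : n = 2 := by
    have k : 2 ^ (3 * n) ≤ 2 ^ (n + 5) := by rw [show n + 5 = n + 3 + 2 by ring, pow_add]; omega
    have := (Nat.pow_le_pow_iff_right (by norm_num)).1 k
    omega
  by_cases hi : ∀ x ∈ P ⊓ 𝒩(V), x * x = 1 → x ∈ 𝒞(V)
  · exact Or.inl (close h hz z1 hP hPH hn fun x hx v hv => hi _ (conj_mem hx ⟨VP hv, le_normalizer hv⟩) (by
      rw [conj_mul, h.full.sq v hv, mul_one, mul_inv_cancel]))
  push Not at hi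
  obtain ⟨t, ht, tt, tR⟩ := hi
  refine Or.inr ⟨hn2, P ⊓ 𝒩(V), t, hz, z1, inf_le_right, fun p hp v hv => trv h hz z1 hP hPH hn hp.1 hp.2 hv,
    le_norm_inf (inf_le_right.trans hn) (inf_le_left.trans le_normalizer), fun k => hc ?_, ht, tR, tt⟩
  rw [inf_eq_right.2 (k.trans inf_le_left), h.card, hn2]
  norm_num

end CL.ON3

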