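/-
Project ON3, job BIG2: the configuration of Higman-Sims type has 2-rank at least 4.
-/
import Cfsg.Agent.ON3.Bas
import Cfsg.Agent.Even.XS2

set_option autoImplicit false
set_option linter.unusedSectionVars false
open Cfsg Subgroup CL.Even

namespace CL.ON3

universe u

namespace Big2

variable {G : Type*} [Group G]

/-- The union of a subgroup and a coset. -/
theorem two {K : Subgroup G} {x : G} (hx : ∀ k ∈ K, x * k = k * x) (h2 : x * x ∈ K) {S : Set G}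
    (hS : ∀ s ∈ S, s ∈ K ∨ s = x) {y : G} (hy : y ∈ closure S) : y ∈ K ∨ ∃ k ∈ K, y = x * k := by
  induction hy using closure_induction with
  | mem s hs => exact (hS s hs).imp id fun e => ⟨1, one_mem _, by rw [e, mul_one]⟩
  | one => exact Or.inl (one_mem _)
  | mul a b _ _ ha hb =>
    rcases ha with ha | ⟨k, hk, rfl⟩ <;> rcases hb with hb | ⟨l, hl, rfl⟩
    · exact Or.inl (mul_mem ha hb)
    · exact Or.inr ⟨a * l, mul_mem ha hl, by rw [← mul_assoc, ← hx a ha, mul_assoc]⟩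
    · exact Or.inr ⟨k * b, mul_mem hk hb, mul_assoc _ _ _⟩
    · refine Or.inl ?_
      rw [mul_assoc, ← mul_assoc k, ← hx k hk, mul_assoc, ← mul_assoc]
      exact mul_mem h2 (mul_mem hk hl)
  | inv a _ ha =>
    rcases ha with ha | ⟨k, hk, rfl⟩
    · exact Or.inl (inv_mem ha)
    · refine Or.inr ⟨(x * x)⁻¹ * k⁻¹, mul_mem (inv_mem h2) (inv_mem hk), ?_⟩
      rw [hx k hk]; group

theorem trip {a b c k1 k2 k3 : G} (aa : a * a = 1) (bb : b * b = 1) (cc : c * c = 1) (h1 : a * b * a * b = k1)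
    (h2 : b * c * b * c = k2) (h3 : c * a * c * a = k3) (c2a : Commute k2 a) (c2b : Commute k2 b)
    (c3a : Commute k3 a) (c3b : Commute k3 b) (k22 : k2 * k2 = 1) :
    a * b * c * (a * b * c) = k3 * k2 * k1 := by
  have e1 : c * a = k3 * (a * c) := by
    rw [← h3]
    calc c * a = c * (a * (c * (a * a) * c)) := by rw [aa, mul_one, cc, mul_one]
      _ = _ := by group
  have e2 : c * b * c = k2 * b := by
    rw [← inv_of_sq k22, ← h2, mul_inv_rev, mul_inv_rev, mul_inv_rev, inv_of_sq bb, inv_of_sq cc]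
    calc c * b * c = c * b * c * (b * b) := by rw [bb, mul_one]
      _ = _ := by group
  calc a * b * c * (a * b * c) = a * b * (c * a) * b * c := by group
    _ = (a * b * k3) * a * (c * b * c) := by rw [e1]; group
    _ = k3 * ((a * b * a) * k2) * b := by rw [e2, ← (c3a.mul_right c3b).eq]; group
    _ = _ := by rw [← ((c2a.mul_right c2b).mul_right c2a).eq, ← h1]; group

theorem map_gam (τ : MulAut G) (t r : G) : τ (gam t r) = gam (τ t) (τ r) := by simp [gam]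

/-- the data -/
structure Cf (V : Subgroup G) (z u v d : G) (τ : MulAut G) : Prop where
  hf : HF V 2
  bs : Bs V z u v
  dR : d ∈ 𝒞(V)
  dd : d * d = z
  tM : ∀ x ∈ 𝒩(V), τ x ∈ 𝒩(V)
  tR : ∀ x ∈ 𝒞(V), τ x ∈ 𝒞(V)
  t3 : ∀ x, τ (τ (τ x)) = x
  tz : τ z = u
  tu : τ u = z * u
  tv : τ v = v

/-- centralizes `z` and `u` -/
def Qq (V : Subgroup G) (z u t : G) : Prop := t ∈ 𝒩(V) ∧ Commute z t ∧ Commute u t

/-- an involution acting like `e` -/
structure En (V : Subgroup G) (z u v d ε : G) : Prop where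
  q : Qq V z u ε
  sq : ε * ε = 1
  act : ε * v * ε⁻¹ = v * z
  st : ∀ t, Qq V z u t → gam t ε ∈ closure ({d, u} : Set G)

namespace Cf
variable [Finite G] {V : Subgroup G} {z u v d : G} {τ : MulAut G} (h : Cf V z u v d τ)
include h

theorem zz : z * z = 1 := h.hf.full.sq z h.bs.aV
theorem uu : u * u = 1 := h.hf.full.sq u h.bs.bV
theorem zu : z * u = u * z := comm_of_sq h.hf.full.sq h.bs.aV h.bs.bV
theorem memU {x : G} : x ∈ closure ({z, u} : Set G) ↔ x = 1 ∨ x = z ∨ x = u ∨ x = z * u :=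
  mem_closure_pair_two h.zz h.uu h.zu
theorem UV : closure ({z, u} : Set G) ≤ V :=
  (closure_le _).2 (by rintro _ (rfl | rfl); exacts [h.bs.aV, h.bs.bV])
theorem VR : V ≤ 𝒞(V) := fun _ ha _ hb => comm_of_sq h.hf.full.sq hb ha
theorem ab {a b : G} (ha : a ∈ 𝒞(V)) (hb : b ∈ 𝒞(V)) : a * b = b * a := h.hf.ab hb a ha
theorem tzu : τ (z * u) = z := by rw [map_mul, h.tz, h.tu, h.zu, ← mul_assoc, h.uu, one_mul]

theorem tQ {t : G} (ht : Qq V z u t) : Qq V z u (τ t) :=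
  ⟨h.tM t ht.1, h.tzu ▸ (ht.2.1.mul_left ht.2.2).map τ, h.tz ▸ ht.2.1.map τ⟩

theorem tU {x : G} (hx : x ∈ closure ({z, u} : Set G)) : τ x ∈ closure ({z, u} : Set G) := by
  rcases h.memU.1 hx with rfl | rfl | rfl | rfl <;> simp [h.memU, h.tz, h.tu, h.tzu, -map_mul]

theorem cU {x t : G} (hx : x ∈ closure ({z, u} : Set G)) (ht : Qq V z u t) : Commute x t := by
  rcases h.memU.1 hx with rfl | rfl | rfl | rfl
  exacts [Commute.one_left _, ht.2.1, ht.2.2, ht.2.1.mul_left ht.2.2]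

theorem gm {x : G} (hx : x ∈ closure ({d, u} : Set G)) :
    x ∈ closure ({z, u} : Set G) ∨ ∃ k ∈ closure ({z, u} : Set G), x = d * k :=
  two (fun k hk => (h.dR k (h.UV hk)).symm) (h.dd ▸ subset_closure (by simp)) (by
    rintro _ (rfl | rfl)
    exacts [Or.inr rfl, Or.inl (subset_closure (by simp))]) hx

theorem gm_sq {x : G} (hx : x ∈ closure ({d, u} : Set G)) :
    (x ∈ closure ({z, u} : Set G) ∧ x * x = 1) ∨ x * x = z := by
  rcases h.gm hx with e | ⟨k, hk, rfl⟩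
  · exact Or.inl ⟨e, h.hf.full.sq _ (h.UV e)⟩
  · refine Or.inr ?_
    rw [mul_assoc, ← mul_assoc k, h.dR k (h.UV hk), mul_assoc, h.hf.full.sq _ (h.UV hk), mul_one, h.dd]

theorem kap {ε : G} (e : En V z u v d ε) : ε * τ ε * ε * τ ε ∈ closure ({z, u} : Set G) := by
  have h1 := e.st _ (h.tQ e.q)
  have h2 := e.st _ (h.tQ (h.tQ e.q))
  have s1 : τ ε * τ ε = 1 := by rw [← map_mul, e.sq, map_one]
  have e1 : gam (τ ε) ε = ε * τ ε * ε * τ ε := by rw [gam, inv_of_sq e.sq, inv_of_sq s1]; group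
  have e2 : τ (gam (τ (τ ε)) ε) = (ε * τ ε * ε * τ ε)⁻¹ := by
    rw [map_gam, h.t3, gam]
    simp only [mul_inv_rev, inv_of_sq e.sq, inv_of_sq s1, mul_assoc]
  rw [e1] at h1
  rcases h.gm_sq h1 with f | f
  · exact f.1
  · have f1 : (ε * τ ε * ε * τ ε)⁻¹ * (ε * τ ε * ε * τ ε)⁻¹ = z := by rw [← mul_inv_rev, f, inv_of_sq h.zz]
    rw [← e2, ← map_mul] at f1
    rcases h.gm_sq h2 with f2 | f2
    · rw [f2.2, map_one] at f1
      exact absurd f1.symm h.bs.ind.a1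
    · rw [f2, h.tz] at f1
      exact absurd f1 h.bs.ind.ba

theorem act1 {ε : G} (e : En V z u v d ε) : τ ε * v * (τ ε)⁻¹ = v * u := by
  have := congrArg τ e.act
  simpa [h.tv, h.tz] using this

theorem act2 {ε : G} (e : En V z u v d ε) : τ (τ ε) * v * (τ (τ ε))⁻¹ = v * (z * u) := by
  have := congrArg τ (h.act1 e)
  simpa [h.tv, h.tu] using this

theorem sR {ε : G} (e : En V z u v d ε) : ε * τ ε * τ (τ ε) ∈ 𝒞(V) := by
  have q1 := h.tQ e.q
  have q2 := h.tQ q1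
  refine h.bs.ext (mul_inv_eq_iff_eq_mul.2 ((e.q.2.1.mul_right q1.2.1).mul_right q2.2.1).symm)
    (mul_inv_eq_iff_eq_mul.2 ((e.q.2.2.mul_right q1.2.2).mul_right q2.2.2).symm) ?_
  have c1 := (q1.2.1.mul_left q1.2.2).inv_right.eq
  have c2 := (e.q.2.2.mul_left (e.q.2.1.mul_left e.q.2.2)).inv_right.eq
  calc _ = ε * (τ ε * (τ (τ ε) * v * (τ (τ ε))⁻¹) * (τ ε)⁻¹) * ε⁻¹ := by group
    _ = ε * (τ ε * v * (z * u * (τ ε)⁻¹)) * ε⁻¹ := by rw [h.act2 e]; group
    _ = ε * (τ ε * v * (τ ε)⁻¹ * (z * u)) * ε⁻¹ := by rw [c1]; group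
    _ = ε * v * (u * (z * u) * ε⁻¹) := by rw [h.act1 e]; group
    _ = ε * v * ε⁻¹ * (u * (z * u)) := by rw [c2]; group
    _ = v := by rw [e.act, h.zu, ← mul_assoc u, h.uu, one_mul, mul_assoc, h.zz, mul_one]

theorem sV {ε : G} (e : En V z u v d ε) : ε * τ ε * τ (τ ε) ∈ V := by
  have k1 := h.kap e
  have k2 := h.tU k1
  have k3 := h.tU k2
  have s1 : τ ε * τ ε = 1 := by rw [← map_mul, e.sq, map_one]
  have s2 : τ (τ ε) * τ (τ ε) = 1 := by rw [← map_mul, s1, map_one]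
  refine h.hf.om _ (h.sR e) ?_
  rw [trip e.sq s1 s2 rfl (k2 := τ (ε * τ ε * ε * τ ε)) (k3 := τ (τ (ε * τ ε * ε * τ ε))) (by simp)
    (by simp [h.t3]) (h.cU k2 e.q) (h.cU k2 (h.tQ e.q)) (h.cU k3 e.q) (h.cU k3 (h.tQ e.q))
    (h.hf.full.sq _ (h.UV k2))]
  rcases h.memU.1 k1 with f | f | f | f <;> rw [f]
  · simp
  · rw [h.tz, h.tu, mul_assoc z, h.uu, mul_one, h.zz]
  · rw [h.tu, h.tzu, ← mul_assoc, h.zz, one_mul, h.uu]
  · rw [h.tzu, h.tz, ← h.zu, h.hf.full.sq _ (mul_mem h.bs.aV h.bs.bV)]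

theorem snU (rk : PRankLE 2 3 G) {ε : G} (e : En V z u v d ε) :
    ε * τ ε * τ (τ ε) ∉ closure ({z, u} : Set G) := fun hs => by
  have s1 : τ ε * τ ε = 1 := by rw [← map_mul, e.sq, map_one]
  have q1 := h.tQ e.q
  have h1 : τ (ε * τ ε * ε * τ ε) = 1 := by
    have e1 : τ (τ ε) = τ ε * ε * (ε * τ ε * τ (τ ε)) := by
      rw [mul_assoc, ← mul_assoc ε, ← mul_assoc ε, e.sq, one_mul, ← mul_assoc, s1, one_mul]
    have c := (h.cU hs e.q).eq
    have ss := h.hf.full.sq _ (h.UV hs)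
    simp only [map_mul]
    generalize ε * τ ε * τ (τ ε) = s at e1 c ss
    rw [e1]
    calc _ = τ ε * τ ε * ε * s * (τ ε * τ ε) * ε * s := by group
      _ = ε * (s * ε) * s := by rw [s1]; group
      _ = 1 := by rw [c, ← mul_assoc, e.sq, one_mul, ss]
  rw [map_eq_one_iff τ τ.injective, mul_assoc (ε * τ ε), mul_eq_one_iff_eq_inv, mul_inv_rev, inv_of_sq e.sq,
    inv_of_sq s1] at h1
  have nz : ∀ x ∈ closure ({z, u} : Set G), ∀ y, x * v * x⁻¹ = v * y → y = 1 := fun x hx y hy => by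
    rw [← h.VR (h.UV hx) v h.bs.cV, mul_inv_cancel_right, left_eq_mul] at hy
    exact hy
  have ne : ε ∉ closure ({z, u} : Set G) := fun hx => h.bs.ind.a1 (nz _ hx _ e.act)
  rw [h.memU] at ne
  push Not at ne
  have h2 := four_inv' ⟨h.zz, h.uu, e.sq, h.zu, e.q.2.1, e.q.2.2⟩ rk
    ⟨h.bs.ind.a1, h.bs.ind.b1, h.bs.ind.ba, ne.1, ne.2.1, ne.2.2.1, ne.2.2.2⟩ s1 q1.2.1 q1.2.2 h1
  have h3 : τ ε ∈ closure ({z, u} : Set G) ∨ τ ε * ε ∈ closure ({z, u} : Set G) := by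
    rcases h2 with f | f | f | f | f | f | f | f <;> rw [f] <;> simp [h.memU, mul_assoc, e.sq]
  rcases h3 with f | f
  · exact h.bs.ind.b1 (nz _ f _ (h.act1 e))
  · refine h.bs.ind.ba ((mul_eq_one_iff_eq_inv.1 (nz _ f (u * z) ?_)).trans (inv_of_sq h.zz))
    calc _ = τ ε * (ε * v * ε⁻¹) * (τ ε)⁻¹ := by group
      _ = τ ε * v * (z * (τ ε)⁻¹) := by rw [e.act]; group
      _ = τ ε * v * (τ ε)⁻¹ * z := by rw [q1.2.1.inv_right.eq]; group
      _ = _ := by rw [h.act1 e, mul_assoc]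

theorem U1 : closure ({z, u} : Set G) ≤ closure ({d, τ d} : Set G) := (closure_le _).2 (by
  rintro _ (rfl | rfl)
  · exact h.dd ▸ mul_mem (subset_closure (by simp)) (subset_closure (by simp))
  · rw [← h.tz, ← h.dd, map_mul]
    exact mul_mem (subset_closure (by simp)) (subset_closure (by simp)))

theorem R1R : closure ({d, τ d} : Set G) ≤ 𝒞(V) :=
  (closure_le _).2 (by rintro _ (rfl | rfl); exacts [h.dR, h.tR _ h.dR])

theorem G1 : closure ({d, u} : Set G) ≤ closure ({d, τ d} : Set G) := (closure_le _).2 (by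
  rintro _ (rfl | rfl)
  exacts [subset_closure (by simp), h.U1 (subset_closure (by simp))])

theorem vn : v ∉ closure ({d, τ d} : Set G) := fun hv => by
  have GR := h.G1.trans h.R1R
  have dd' : τ d * τ d = u := by rw [← map_mul, h.dd, h.tz]
  have vv := h.hf.full.sq v h.bs.cV
  rcases two (K := closure ({d, u} : Set G)) (fun k hk => h.ab (h.tR _ h.dR) (GR hk))
    (dd' ▸ subset_closure (by simp)) (by
      rintro _ (rfl | rfl)
      exacts [Or.inl (subset_closure (by simp)), Or.inr rfl]) hv with f | ⟨k, hk, f⟩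
  · rcases h.gm_sq f with f1 | f1
    · rcases h.memU.1 f1.1 with f2 | f2 | f2 | f2
      exacts [h.bs.ind.c1 f2, h.bs.ind.ca f2, h.bs.ind.cb f2, h.bs.ind.cab f2]
    · exact h.bs.ind.a1 (f1.symm.trans vv)
  · rw [f, mul_assoc, ← mul_assoc k, h.ab (GR hk) (h.tR _ h.dR), mul_assoc, ← mul_assoc, dd'] at vv
    rcases h.gm_sq hk with f1 | f1
    · rw [f1.2, mul_one] at vv
      exact h.bs.ind.b1 vv
    · rw [f1, mul_eq_one_iff_eq_inv, inv_of_sq h.zz] at vv
      exact h.bs.ind.ba vv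

theorem final (rk : PRankLE 2 3 G) {e y : G} (he : En V z u v d e) (hy : En V z u v d (e * y)) (yR : y ∈ 𝒞(V))
    (yy : y * y = u) (id : e * d * e⁻¹ = d⁻¹) (iy : e * y * e⁻¹ = y⁻¹)
    (cm : ∀ r ∈ 𝒞(V), gam e r ∈ closure ({d, u} : Set G)) (ex : ∃ r ∈ 𝒞(V), gam e r = d) : False := by
  set R1 := closure ({d, τ d} : Set G) with hR1
  have s1 : τ e * τ e = 1 := by rw [← map_mul, he.sq, map_one]
  have s2 : τ (τ e) * τ (τ e) = 1 := by rw [← map_mul, s1, map_one]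
  have q1 := h.tQ he.q
  have q2 := h.tQ q1
  have cR : ∀ m ∈ 𝒩(V), ∀ r ∈ 𝒞(V), m * r * m⁻¹ ∈ 𝒞(V) := fun m hm r hr => conj_mem (norm_le_norm_cent V hm) hr
  have g0 : ∀ r ∈ 𝒞(V), gam e r ∈ R1 := fun r hr => h.G1 (cm r hr)
  have g1 : ∀ r ∈ 𝒞(V), gam (τ e) r ∈ R1 := fun r hr => by
    rw [← h.t3 r, ← map_gam]
    refine (show closure ({d, u} : Set G) ≤ R1.comap τ.toMonoidHom from (closure_le _).2 ?_)
      (cm _ (h.tR _ (h.tR _ hr)))
    rintro _ (rfl | rfl)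
    · exact subset_closure (by simp)
    · exact h.U1 (h.tU (subset_closure (by simp)))
  have a2 : ∀ r ∈ 𝒞(V), τ (τ e) * r * (τ (τ e))⁻¹ = τ e * (e * r * e⁻¹) * (τ e)⁻¹ := fun r hr => by
    have e1 : τ (τ e) = τ e * e * (e * τ e * τ (τ e)) := by
      rw [mul_assoc, ← mul_assoc e, ← mul_assoc e, he.sq, one_mul, ← mul_assoc, s1, one_mul]
    have c := h.ab (h.sR he) hr
    generalize e * τ e * τ (τ e) = s at e1 c
    rw [e1]
    calc _ = τ e * e * (s * r) * s⁻¹ * e⁻¹ * (τ e)⁻¹ := by group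
      _ = _ := by rw [c]; group
  have g2 : ∀ r ∈ 𝒞(V), gam (τ (τ e)) r ∈ R1 := fun r hr => by
    have : gam (τ (τ e)) r = gam e r * gam (τ e) (e * r * e⁻¹) := by
      rw [gam, a2 r hr, gam, gam]; group
    exact this ▸ mul_mem (g0 r hr) (g1 _ (cR _ he.q.1 r hr))
  have t1 : ∀ x ∈ R1, τ x ∈ R1 := fun x hx => by
    refine (show R1 ≤ R1.comap τ.toMonoidHom from (closure_le _).2 ?_) hx
    rintro _ (rfl | rfl)
    · exact subset_closure (by simp)
    · obtain ⟨r, hr, e1⟩ := ex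
      change τ (τ d) ∈ R1
      rw [← e1, map_gam, map_gam]
      exact g2 _ (h.tR _ (h.tR _ hr))
  have dd' : τ d * τ d = u := by rw [← map_mul, h.dd, h.tz]
  have dR' := h.tR _ h.dR
  have wV : (τ d)⁻¹ * y ∈ V := h.hf.om _ (mul_mem (inv_mem dR') yR) (by
    rw [mul_assoc, ← mul_assoc y, h.ab yR (inv_mem dR'), mul_assoc, yy, ← dd']; group)
  have UorV : ∀ x ∈ V, x ∈ closure ({z, u} : Set G) ∨ x * v ∈ closure ({z, u} : Set G) := fun x hx => by
    rcases h.bs.mem.1 hx with f | f | f | f | f | f | f | f <;> rw [f] <;>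
      simp [h.memU, mul_assoc, h.hf.full.sq v h.bs.cV]
  have hyv : y * v ∈ R1 := by
    rcases UorV _ wV with f | f
    · exfalso
      have i1 : e * τ d * e⁻¹ = (τ d)⁻¹ := by
        have c := (h.cU f he.q).eq
        have ww := inv_of_sq (h.hf.full.sq _ wV)
        have c2 := h.ab (h.VR wV) (inv_mem yR)
        have e1 : τ d = y * ((τ d)⁻¹ * y)⁻¹ := by group
        generalize (τ d)⁻¹ * y = w at c ww c2 e1
        rw [e1, ww, mul_inv_rev, ww, c2, ← iy, mul_assoc e y, mul_assoc e, mul_assoc e, mul_assoc y, mul_assoc y,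
          mul_right_inj, mul_right_inj, mul_inv_eq_iff_eq_mul, mul_assoc, c, inv_mul_cancel_left]
      have i2 : ∀ x ∈ R1, e * x * e⁻¹ = x⁻¹ := fun x hx => by
        induction hx using closure_induction with
        | mem s hs => rcases hs with rfl | rfl; exacts [id, i1]
        | one => simp
        | mul a b ha hb ia ib =>
          rw [h.ab (h.R1R ha) (h.R1R hb), mul_inv_rev, ← ia, ← ib, h.ab (h.R1R hb) (h.R1R ha)]; group
        | inv a _ ia => exact (by group : e * a⁻¹ * e⁻¹ = (e * a * e⁻¹)⁻¹).trans (congrArg Inv.inv ia)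
      have dm : d ∈ R1 := subset_closure (by simp)
      have i3 := congrArg τ (i2 _ (t1 _ (t1 _ (inv_mem dm))))
      have i4 := congrArg (fun x => τ (τ x)) (i2 _ (t1 _ dm))
      simp only [map_mul, map_inv, h.t3, inv_inv] at i3 i4
      rw [a2 d h.dR, id, i3, eq_inv_iff_mul_eq_one, h.dd] at i4
      exact h.bs.ind.a1 i4
    · have := mul_mem (show τ d ∈ R1 from subset_closure (by simp)) (h.U1 f)
      rwa [← mul_assoc, mul_inv_cancel_left] at this
  have vR := h.VR h.bs.cV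
  have vv := h.hf.full.sq v h.bs.cV
  have hp : (e * τ e * τ (τ e))⁻¹ * (e * y * τ (e * y) * τ (τ (e * y))) * v ∈ R1 := by
    have y1 := h.tR _ yR
    have y2 := h.tR _ y1
    have f1 := t1 _ hyv
    have f2 := t1 _ f1
    simp only [map_mul, h.tv] at f1 f2 ⊢
    have e1 : (e * τ e * τ (τ e))⁻¹ * (e * y * (τ e * τ y) * (τ (τ e) * τ (τ y))) * v =
        τ (τ e) * (τ e * y * (τ e)⁻¹ * τ y) * (τ (τ e))⁻¹ * (τ (τ y) * v) := by
      simp only [mul_inv_rev, inv_of_sq s1, inv_of_sq s2]; group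
    have m1 := mul_mem (cR _ q1.1 y yR) y1
    rw [e1, conj_eq_gam (τ (τ e))]
    refine mul_mem (mul_mem ?_ (g2 _ m1)) f2
    have e2 : τ e * y * (τ e)⁻¹ * τ y = y * v * (τ y * v) * gam (τ e) y := by
      rw [conj_eq_gam, mul_assoc, h.ab (h.R1R (g1 y yR)) y1, h.ab y1 vR, mul_assoc y v, ← mul_assoc v, vv,
        one_mul, mul_assoc]
    exact e2 ▸ mul_mem (mul_mem hyv f1) (g1 y yR)
  have n1 := (UorV _ (h.sV he)).resolve_left (h.snU rk he)
  have n2 := (UorV _ (h.sV hy)).resolve_left (h.snU rk hy)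
  refine h.vn ?_
  rw [mul_assoc, mul_mem_cancel_right (h.U1 n2), inv_mem_iff] at hp
  exact (mul_mem_cancel_left hp).1 (h.U1 n1)

end Cf

end Big2

open Big2 in
theorem big2Thm : Big2Thm.{u} := by
  intro G _ _ V z P e rk hf hs
  obtain ⟨d, y, ib⟩ := hf.ib e (hs.le hs.eP) hs.eR (hs.ee ▸ one_mem _)
  have p2 : ∀ x : G, x ^ 2 ^ (2 - 1) = x * x := fun x => by norm_num [pow_two]
  have p4 : ∀ r ∈ 𝒞(V), r * r * (r * r) = 1 := fun r hr => by
    rw [← hf.pw r hr]; norm_num [pow_succ, mul_assoc]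
  have ab : ∀ {a b : G}, a ∈ 𝒞(V) → b ∈ 𝒞(V) → a * b = b * a := fun ha hb => hf.ab hb _ ha
  have dd : d * d = z := by
    obtain ⟨x, hx, h1⟩ : ∃ x ∈ V, gam e x ≠ 1 := by
      by_contra! h1
      exact hs.eR fun x hx => gam_eq_one.1 (h1 x hx)
    rw [← p2, ← (ib.dz x hx).resolve_left h1, (hs.trv e hs.eP x hx).resolve_left h1]
  obtain ⟨u, yy⟩ : ∃ u, y * y = u := ⟨_, rfl⟩
  have uV : u ∈ V := yy ▸ hf.om _ (mul_mem ib.yR ib.yR) (p4 y ib.yR)
  obtain ⟨v, bs⟩ := hf.full.basis2 hs.zV uV hs.z1 (by rw [← yy, ← p2]; exact ib.y1)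
    (by rw [← yy, ← dd, ← p2, ← p2]; exact ib.yz)
  have id := (ib.inv d ib.dR).2 (subset_closure (by simp))
  have iy := (ib.inv y ib.yR).2 (subset_closure (by simp))
  have fix : ∀ r ∈ 𝒞(V), e * r * e⁻¹ = r⁻¹ → Commute (r * r) e := fun r hr h1 => by
    have : e * (r * r) * e⁻¹ = r * r := by
      calc _ = e * r * e⁻¹ * (e * r * e⁻¹) := by group
        _ = _ := by rw [h1, ← mul_inv_rev, inv_of_sq (p4 r hr)]
    exact (mul_inv_eq_iff_eq_mul.1 this).symm
  have qe : Qq V z u e := ⟨hs.le hs.eP, dd ▸ fix d ib.dR id, yy ▸ fix y ib.yR iy⟩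
  have act : e * v * e⁻¹ = v * z := gam_eq_iff.1 ((hs.trv e hs.eP v bs.cV).resolve_left fun h1 =>
    hs.eR (bs.ext (mul_inv_eq_iff_eq_mul.2 qe.2.1.symm) (mul_inv_eq_iff_eq_mul.2 qe.2.2.symm)
      (mul_inv_eq_iff_eq_mul.2 (gam_eq_one.1 h1).symm)))
  have RM : 𝒞(V) ≤ 𝒩(V) := centralizer_le_normalizer _
  have nP : ∀ t ∈ 𝒩(V), Commute z t → t ∈ 𝒩(P) := fun t h1 h2 => hs.nrm ⟨h1, mem_cen.2 h2.symm⟩
  have gP : ∀ r ∈ 𝒞(V), gam e r ∈ P := fun r hr => by
    have := mul_mem (conj_mem' (nP r (RM hr) (hr z hs.zV)) hs.eP) (inv_mem hs.eP)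
    rwa [show r⁻¹ * e * r * e⁻¹ = gam e r by rw [gam]; group] at this
  have dP : d ∈ P := let ⟨r, hr, e1⟩ := ib.exd; e1 ▸ gP r hr
  have uP : u ∈ P := by
    have := inv_mem (gP y ib.yR)
    rwa [gam, iy, mul_inv_rev, inv_inv, yy] at this
  have GP : closure ({d, u} : Set G) ≤ P := (closure_le _).2 (by rintro _ (rfl | rfl); exacts [dP, uP])
  have GR : closure ({d, u} : Set G) ≤ 𝒞(V) :=
    (closure_le _).2 (by rintro _ (rfl | rfl); exacts [ib.dR, hf.full.le_cent uV])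
  have yP : y ∉ P := fun hy => by
    obtain ⟨m, hm, m1, m2, -⟩ := hf.full.move bs bs.sw23
    have h1 : m * y * m⁻¹ ∈ P ⊓ 𝒞(V) := ⟨conj_mem (nP m hm (mul_inv_eq_iff_eq_mul.1 m1).symm) hy,
      conj_mem (norm_le_norm_cent V hm) ib.yR⟩
    have h2 : m * y * m⁻¹ * (m * y * m⁻¹) = v := by rw [← m2, ← yy]; group
    refine hs.nR ((hf.gen (P ⊓ 𝒞(V)) inf_le_right fun x hx => ?_).trans inf_le_left)
    simp only [p2]
    let K : Subgroup G :=
      { carrier := {x | ∃ r ∈ P ⊓ 𝒞(V), r * r = x}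
        one_mem' := ⟨1, one_mem _, one_mul _⟩
        mul_mem' := by
          rintro _ _ ⟨a, ha, rfl⟩ ⟨b, hb, rfl⟩
          exact ⟨a * b, mul_mem ha hb, by rw [mul_assoc, ← mul_assoc b, ← ab ha.2 hb.2]; group⟩
        inv_mem' := by
          rintro _ ⟨a, ha, rfl⟩
          exact ⟨a⁻¹, inv_mem ha, by group⟩ }
    exact bs.le (K := K) ⟨d, ⟨dP, ib.dR⟩, dd⟩ ⟨y, ⟨hy, ib.yR⟩, yy⟩ ⟨_, h1, h2⟩ hx
  have en : ∀ x ∈ 𝒞(V), e * x * e⁻¹ = x⁻¹ → (x = 1 ∨ x = y) → En V z u v d (e * x) := fun x hx ix hxy => by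
    have q : Qq V z u (e * x) := ⟨mul_mem qe.1 (RM hx), qe.2.1.mul_right (hx z hs.zV), qe.2.2.mul_right (hx u uV)⟩
    have sq : e * x * (e * x) = 1 := by
      rw [← inv_of_sq hs.ee, ← mul_assoc, inv_of_sq hs.ee]
      nth_rw 2 [← inv_of_sq hs.ee]
      rw [ix, inv_mul_cancel]
    have a1 : e * x * v * (e * x)⁻¹ = v * z := by
      rw [mul_assoc e, ← hx v bs.cV, ← act]; group
    refine ⟨q, sq, a1, fun t ht => ?_⟩
    generalize hε : e * x = ε at q sq a1
    have c1 := ht.2.1.inv_right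
    have c2 := ht.2.2.inv_right
    have hr : gam t ε ∈ 𝒞(V) := by
      refine bs.ext (mul_inv_eq_iff_eq_mul.2 (Commute.eq ?_).symm) (mul_inv_eq_iff_eq_mul.2 (Commute.eq ?_).symm) ?_
      · exact q.2.1.inv_right.mul_right ((ht.2.1.mul_right q.2.1).mul_right c1)
      · exact q.2.2.inv_right.mul_right ((ht.2.2.mul_right q.2.2).mul_right c2)
      · obtain ⟨k, e1, k1, k2⟩ : ∃ k, t⁻¹ * v * t = v * k ∧ Commute k ε ∧ Commute k t := by
          have n : ∀ w, Commute w t → w ≠ v → t⁻¹ * v * t ≠ w := fun w h1 h2 h3 => h2 (by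
            rw [mul_assoc, inv_mul_eq_iff_eq_mul, ← h1.eq, mul_left_inj] at h3
            exact h3.symm)
          have cv := fun w hw => comm_of_sq bs.sq hw bs.cV (a := w)
          rcases bs.mem.1 (conj_mem' ht.1 bs.cV) with f | f | f | f | f | f | f | f
          · exact absurd f (n _ (Commute.one_left _) bs.ind.c1.symm)
          · exact absurd f (n _ ht.2.1 bs.ind.ca.symm)
          · exact absurd f (n _ ht.2.2 bs.ind.cb.symm)
          · exact absurd f (n _ (ht.2.1.mul_left ht.2.2) bs.ind.cab.symm)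
          · exact ⟨1, by rw [f, mul_one], Commute.one_left _, Commute.one_left _⟩
          · exact ⟨z, by rw [f, cv z hs.zV], q.2.1, ht.2.1⟩
          · exact ⟨u, by rw [f, cv u uV], q.2.2, ht.2.2⟩
          · exact ⟨z * u, by rw [f, cv _ (mul_mem hs.zV uV)], q.2.1.mul_left q.2.2, ht.2.1.mul_left ht.2.2⟩
        have e2 : t * (ε * (t⁻¹ * v * t) * ε⁻¹) * t⁻¹ = ε * v * ε⁻¹ := by
          calc _ = t * (ε * v * (k * ε⁻¹)) * t⁻¹ := by rw [e1]; group
            _ = t * (ε * v * ε⁻¹ * k) * t⁻¹ := by rw [k1.inv_right.eq]; group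
            _ = t * (v * k * z) * t⁻¹ := by
              rw [a1, mul_assoc v, mul_assoc v, comm_of_sq bs.sq hs.zV ((mul_mem_cancel_left bs.cV).1
                (e1 ▸ conj_mem' ht.1 bs.cV))]
            _ = v * t * (z * t⁻¹) := by rw [← e1]; group
            _ = _ := by rw [c1.eq, a1]; group
        calc _ = ε⁻¹ * (t * (ε * (t⁻¹ * v * t) * ε⁻¹) * t⁻¹) * ε := by rw [gam]; group
          _ = v := by rw [e2]; group
    have h1 : e * gam t ε * e⁻¹ = (gam t ε)⁻¹ := by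
      have h2 : ε * gam t ε * ε⁻¹ = (gam t ε)⁻¹ := by
        rw [gam]; simp only [mul_inv_rev, inv_inv, inv_of_sq sq]
        calc _ = ε * ε * (t * ε * t⁻¹) * ε := by group
          _ = _ := by rw [sq]; group
      rw [← h2, ← hε, mul_assoc e x, ab hx (hε ▸ hr)]; group
    rcases two (K := closure ({d, u} : Set G)) (fun k hk => ab ib.yR (GR hk)) (yy ▸ subset_closure (by simp)) (by
      rintro _ (rfl | rfl)
      exacts [Or.inl (subset_closure (by simp)), Or.inr rfl]) ((ib.inv _ hr).1 h1) with f | ⟨k, hk, f⟩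
    · exact f
    · exfalso
      rw [gam_eq_iff, ← hε] at f
      have tP := nP t ht.1 ht.2.1
      rcases hxy with rfl | rfl
      · rw [mul_one] at f
        have := f ▸ conj_mem tP hs.eP
        exact yP ((mul_mem_cancel_right (GP hk)).1 ((mul_mem_cancel_left hs.eP).1 this))
      · have h3 : e * x * (x * k) ∈ P := by
          rw [mul_assoc, ← mul_assoc x, yy]
          exact mul_mem hs.eP (mul_mem uP (GP hk))
        rw [← f, ← mem_normalizer_iff.1 tP] at h3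
        exact yP ((mul_mem_cancel_left hs.eP).1 h3)
  obtain ⟨m, hm, m1, m2, m3⟩ := hf.full.move bs bs.sw12.mba
  have zu := comm_of_sq bs.sq hs.zV uV
  have m4 : m * (z * u) * m⁻¹ = z := by
    calc _ = m * z * m⁻¹ * (m * u * m⁻¹) := by group
      _ = z := by rw [m1, m2, zu, ← mul_assoc, bs.sq u uV, one_mul]
  let σ := MulAut.conj m
  have s1 : σ z = u := m1
  have s2 : σ u = z * u := m2
  have s3 : σ v = v := m3
  have s4 : σ (z * u) = z := m4
  have h3 : m ^ 3 ∈ 𝒞(V) := by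
    have : ∀ x, m ^ 3 * x * (m ^ 3)⁻¹ = σ (σ (σ x)) := fun x => by simp [σ, pow_succ, mul_assoc]
    exact bs.ext (by rw [this, s1, s2, s4]) (by rw [this, s2, s4, s1]) (by rw [this, s3, s3, s3])
  have h4 : ∀ x, MulAut.conj (m ^ 4) x = σ (σ (σ (σ x))) := fun x => by simp [σ, pow_succ, mul_assoc]
  have cf : Cf V z u v d (MulAut.conj (m ^ 4)) :=
    ⟨hf, bs, ib.dR, dd, fun x hx => mul_mem (mul_mem (pow_mem hm 4) hx) (inv_mem (pow_mem hm 4)),
      fun x hx => conj_mem (norm_le_norm_cent V (pow_mem hm 4)) hx, fun x => by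
        rw [← MulAut.mul_apply, ← MulAut.mul_apply, ← map_mul, ← map_mul, ← pow_add, ← pow_add,
          show 4 + 4 + 4 = 3 * 2 ^ 2 from rfl, pow_mul, hf.pw _ h3, map_one, MulAut.one_apply],
      by rw [h4, s1, s2, s4, s1], by rw [h4, s2, s4, s1, s2], by rw [h4, s3, s3, s3, s3]⟩
  have e0 := en 1 (one_mem _) (by simp) (Or.inl rfl)
  rw [mul_one] at e0
  exact cf.final rk e0 (en y ib.yR iy (Or.inr rfl)) ib.yR yy id iy (yy ▸ ib.comm) ib.exd

end CL.ON3
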