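/-
Project ON3, job BIG3: `V` is strongly closed in `N(V)` when `C(V)` is homocyclic of exponent at least 4 and
the centralizers of the involutions of `V` normalize `V`.
-/
import Cfsg.Agent.ON3.Defs
import Cfsg.Agent.Altn.Frame1
import Cfsg.Agent.Even.CD
import Cfsg.Agent.Even.NGrp.GeoBasic
import Cfsg.Agent.C2Low.EssB

set_option autoImplicit false
open Cfsg Subgroup CL.Even

namespace CL.ON3

universe u

namespace Big3

variable {G : Type*} [Group G] {V : Subgroup G}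

theorem cmm (sq : ∀ v ∈ V, v * v = 1) {a b : G} (ha : a ∈ V) (hb : b ∈ V) : a * b = b * a := by
  have h1 := eq_inv_of_mul_eq_one_left (sq _ (mul_mem ha hb))
  rw [h1, mul_inv_rev, ← eq_inv_of_mul_eq_one_left (sq a ha), ← eq_inv_of_mul_eq_one_left (sq b hb)]

theorem le_cent (sq : ∀ v ∈ V, v * v = 1) : V ≤ 𝒞(V) := fun _ ha =>
  mem_centralizer_iff.2 fun _ hb => cmm sq hb ha

theorem mem_cen {e x : G} : x ∈ cen e ↔ x * e = e * x := mem_centralizer_singleton_iff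

theorem gam_mem {e x : G} (he : e ∈ 𝒩(V)) (hx : x ∈ V) : gam e x ∈ V :=
  mul_mem (inv_mem hx) (conj_mem he hx)

theorem gam_cen (sq : ∀ v ∈ V, v * v = 1) {e x : G} (he : e ∈ 𝒩(V)) (ee : e * e = 1) (hx : x ∈ V) :
    gam e x ∈ cen e := by
  have h1 := eq_inv_of_mul_eq_one_left ee
  have h2 := eq_inv_of_mul_eq_one_left (sq x hx)
  have h3 := cmm sq hx (conj_mem he hx)
  rw [mem_cen, gam, ← h2]
  rw [← h1] at h3 ⊢
  calc x * (e * x * e) * e = x * e * x * (e * e) := by group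
    _ = (e * e) * (x * e * x) := by rw [ee, one_mul, mul_one]
    _ = e * (e * x * e * x) := by group
    _ = _ := by rw [← h3]

theorem cen_of_gam {e a b : G} (h : gam e a = gam e b) (hc : a⁻¹ * b * (e * a * e⁻¹) = e * a * e⁻¹ * (a⁻¹ * b))
    (hd : a * b = b * a) : a⁻¹ * b ∈ cen e := by
  rw [mem_cen]
  have h1 : e * b * e⁻¹ = b * a⁻¹ * (e * a * e⁻¹) := by
    rw [mul_assoc b]; exact (inv_mul_eq_iff_eq_mul.1 h.symm)
  have h2 : b * a⁻¹ = a⁻¹ * b := by
    rw [mul_inv_eq_iff_eq_mul, mul_assoc, ← hd, inv_mul_cancel_left]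
  rw [h2, hc] at h1
  calc a⁻¹ * b * e = (e * a * e⁻¹)⁻¹ * (e * a * e⁻¹ * (a⁻¹ * b)) * e := by group
    _ = _ := by rw [← h1]; group

/-- an involution acting nontrivially on an elementary abelian group of order 8 fixes 4 elements -/
theorem cardU [Finite G] (sq : ∀ v ∈ V, v * v = 1) (c8 : Nat.card V = 8) {e : G} (he : e ∈ 𝒩(V))
    (hR : e ∉ 𝒞(V)) (ee : e * e = 1) : Nat.card (V ⊓ cen e : Subgroup G) = 4 := by
  have h1 := CL.Altn.card_le_mul_of_map (H := V) (K := cen e) (X := (V ⊓ cen e : Subgroup G))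
    (fun x => ⟨gam e x, mem_inf.2 ⟨gam_mem he x.2, gam_cen sq he ee x.2⟩⟩) fun a b h =>
      cen_of_gam (congrArg Subtype.val h) (cmm sq (mul_mem (inv_mem a.2) b.2) (conj_mem he a.2)) (cmm sq a.2 b.2)
  have h2 : Nat.card (V ⊓ cen e : Subgroup G) ∣ 2 ^ 3 :=
    (card_dvd_of_le (inf_le_left : V ⊓ cen e ≤ V)).trans (by rw [c8]; norm_num)
  have h3 : Nat.card (V ⊓ cen e : Subgroup G) ≠ 8 := fun h => hR <| mem_centralizer_iff.2 fun x hx => by
    have := eq_of_le_of_card_ge (inf_le_left : V ⊓ cen e ≤ V) (by rw [h, c8])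
    exact mem_cen.1 (this.ge hx).2
  obtain ⟨k, hk, h4⟩ := (Nat.dvd_prime_pow Nat.prime_two).1 h2
  rw [c8, h4] at h1
  rw [h4] at h3 ⊢
  interval_cases k <;> simp_all

theorem cent_of [Finite G] {U : Subgroup G} (hU : U ≤ V) (h : Nat.card V = 2 * Nat.card U) {v c : G} (hv : v ∈ V)
    (hv' : v ∉ U) (h1 : c ∈ 𝒞(U)) (h2 : v * c = c * v) : c ∈ 𝒞(V) := mem_centralizer_iff.2 fun x hx => by
  by_cases e : x ∈ U
  · exact comm_of_mem h1 e
  · have h3 := comm_of_mem h1 (CL.C2Low.Ess.mul_mem_of_card_two hU h hx hv e hv')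
    rw [mul_assoc, h2, ← mul_assoc, ← mul_assoc] at h3
    exact mul_right_cancel h3

/-- abelian subgroups of `N(V)` containing an involution outside `C(V)` -/
theorem idx [Finite G] (sq : ∀ v ∈ V, v * v = 1) (c8 : Nat.card V = 8) {A : Subgroup G} (hA : A ≤ 𝒩(V))
    (ab : A ≤ 𝒞(A)) {e : G} (he : e ∈ A) (hR : e ∉ 𝒞(V)) (ee : e * e = 1) :
    Nat.card A ≤ 4 * Nat.card (A ⊓ 𝒞(V) : Subgroup G) := by
  have c4 := cardU sq c8 (hA he) hR ee
  set U := V ⊓ cen e with hU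
  have hUV : U ≤ V := inf_le_left
  have c2 : Nat.card V = 2 * Nat.card U := by rw [c8, c4]
  obtain ⟨v, hv, hv'⟩ : ∃ v ∈ V, v ∉ U := by
    by_contra! h
    have := card_le_of_le (show V ≤ U from h)
    omega
  have cA : ∀ a ∈ A, ∀ b ∈ A, a * b = b * a := fun a ha b hb => comm_of_mem (ab hb) ha
  have nU : ∀ a ∈ A, ∀ x ∈ U, a * x * a⁻¹ ∈ U := fun a ha x hx => mem_inf.2 ⟨conj_mem (hA ha) hx.1, by
    have h1 := mem_cen.1 hx.2
    have h2 := cA _ (inv_mem ha) e he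
    rw [mem_cen]
    calc a * x * a⁻¹ * e = a * x * (a⁻¹ * e) := by group
      _ = a * (x * e) * a⁻¹ := by rw [h2]; group
      _ = (a * e) * x * a⁻¹ := by rw [h1]; group
      _ = _ := by rw [cA a ha e he]; group⟩
  have nU' : ∀ a ∈ A, a * v * a⁻¹ ∉ U := fun a ha h => hv' <| by
    have := nU _ (inv_mem ha) _ h
    rwa [show a⁻¹ * (a * v * a⁻¹) * a⁻¹⁻¹ = v by group] at this
  have gU : ∀ a ∈ A, gam a v ∈ U := fun a ha =>
    CL.C2Low.Ess.mul_mem_of_card_two hUV c2 (inv_mem hv) (conj_mem (hA ha) hv) (fun h => hv' (inv_mem_iff.1 h))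
      (nU' a ha)
  have gc : ∀ a b : G, gam a v = gam b v → v * (a⁻¹ * b) = a⁻¹ * b * v := fun a b h => by
    have h1 : a * v * a⁻¹ = b * v * b⁻¹ := mul_left_cancel h
    calc v * (a⁻¹ * b) = a⁻¹ * (a * v * a⁻¹) * b := by group
      _ = _ := by rw [h1]; group
  by_cases hc : A ≤ 𝒞(U)
  · have := CL.Altn.card_le_mul_of_map (H := A) (K := 𝒞(V)) (X := U) (fun a => ⟨gam a v, gU a a.2⟩)
      fun a b h => cent_of hUV c2 hv hv' (hc (mul_mem (inv_mem a.2) b.2)) (gc _ _ (congrArg Subtype.val h))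
    rwa [c4] at this
  · obtain ⟨b, hb, hb'⟩ := SetLike.not_le_iff_exists.1 hc
    have zU := gU e he
    set z := gam e v with hz
    have z1 : z ≠ 1 := fun h => hv' <| mem_inf.2 ⟨hv, by
      have h1 : v = e * v * e⁻¹ := inv_mul_eq_one.1 h
      rw [mem_cen]; exact (mul_inv_eq_iff_eq_mul.1 h1.symm).symm⟩
    have zf : ∀ a ∈ A, a * z * a⁻¹ = z := fun a ha => by
      have h1 := mem_cen.1 (gU a ha).2
      have h2 := cA a ha e he
      have h3 := cmm sq (hUV (gU a ha)) (hUV zU)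
      have h4 : a * v * a⁻¹ = v * gam a v := by rw [gam, mul_inv_cancel_left]
      calc a * z * a⁻¹ = (a * v * a⁻¹)⁻¹ * ((a * e) * v * (a * e)⁻¹) := by rw [hz, gam]; group
        _ = (a * v * a⁻¹)⁻¹ * (e * (a * v * a⁻¹) * e⁻¹) := by rw [h2]; group
        _ = (gam a v)⁻¹ * (v⁻¹ * (e * v * e⁻¹)) * (e * gam a v) * e⁻¹ := by rw [h4]; group
        _ = (gam a v)⁻¹ * ((v⁻¹ * (e * v * e⁻¹)) * gam a v) := by rw [← h1]; group
        _ = z := by rw [← gam, ← hz, ← h3, inv_mul_cancel_left]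
    obtain ⟨u, hu, u1, uz⟩ := CL.NGrp.exists_ne_two (V := U) (by omega) z
    have m4 : ∀ x ∈ U, x = 1 ∨ x = z ∨ x = u ∨ x = z * u := fun x hx =>
      CL.NGrp.mem_four c4 (fun y hy => sq y (hUV hy)) zU hu z1 u1 uz hx
    have cU : ∀ a ∈ A, a * u * a⁻¹ = u → a ∈ 𝒞(U) := fun a ha h => mem_centralizer_iff.2 fun x hx => by
      have h1 := mul_inv_eq_iff_eq_mul.1 (zf a ha)
      have h2 := mul_inv_eq_iff_eq_mul.1 h
      rcases m4 x hx with rfl | rfl | rfl | rfl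
      · simp
      · exact h1.symm
      · exact h2.symm
      · rw [mul_assoc, ← h2, ← mul_assoc, ← h1, mul_assoc]
    have au : ∀ a ∈ A, a * u * a⁻¹ = u ∨ a * u * a⁻¹ = z * u := fun a ha => by
      rcases m4 _ (nU a ha u hu) with h | h | h | h
      · exact absurd (by simpa using h) u1
      · rw [← zf a ha] at h
        exact absurd (by simpa using h) uz
      · exact Or.inl h
      · exact Or.inr h
    have h1 := CL.Altn.card_le_mul_of_map (H := A) (K := 𝒞(U)) (X := Prop) (fun a => (a : G) * u * (a : G)⁻¹ = u)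
      fun a c h => cU _ (mul_mem (inv_mem a.2) c.2) <| by
        have h2 : (a : G) * u * (a : G)⁻¹ = c * u * (c : G)⁻¹ := by
          rcases au a a.2 with h3 | h3 <;> rcases au c c.2 with h4 | h4
          · rw [h3, h4]
          · rw [h3, (eq_iff_iff.1 h).1 h3]
          · rw [h4, (eq_iff_iff.1 h).2 h4]
          · rw [h3, h4]
        calc (a : G)⁻¹ * c * u * ((a : G)⁻¹ * c)⁻¹ = (a : G)⁻¹ * (c * u * (c : G)⁻¹) * a := by group
          _ = u := by rw [← h2]; group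
    have bu : b * u * b⁻¹ ≠ u := fun h => hb' (cU b hb h)
    have g2 : ∀ a ∈ A ⊓ 𝒞(U), gam a v = 1 ∨ gam a v = z := fun a ha => by
      have h2 : b * gam a v * b⁻¹ = gam a v := by
        have h3 := conj_eq_of_mem ha.2 (gU b hb)
        have h4 : b * v * b⁻¹ = v * gam b v := by rw [gam, mul_inv_cancel_left]
        have h5 := cmm sq (hUV (gU a ha.1)) (hUV (gU b hb))
        calc b * gam a v * b⁻¹ = (b * v * b⁻¹)⁻¹ * ((b * a) * v * (b * a)⁻¹) := by rw [gam]; group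
          _ = (b * v * b⁻¹)⁻¹ * (a * (b * v * b⁻¹) * a⁻¹) := by rw [cA b hb a ha.1]; group
          _ = (gam b v)⁻¹ * ((v⁻¹ * (a * v * a⁻¹)) * (a * gam b v * a⁻¹)) := by rw [h4]; group
          _ = (gam b v)⁻¹ * (gam a v * gam b v) := by rw [h3, ← gam]
          _ = _ := by rw [h5, inv_mul_cancel_left]
      rcases m4 _ (gU a ha.1) with h | h | h | h
      · exact Or.inl h
      · exact Or.inr h
      · rw [h] at h2; exact absurd h2 bu
      · rw [h] at h2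
        refine absurd (mul_left_cancel (a := z) ?_) bu
        calc z * (b * u * b⁻¹) = (b * z * b⁻¹) * (b * u * b⁻¹) := by rw [zf b hb]
          _ = b * (z * u) * b⁻¹ := by group
          _ = _ := h2
    have h2 := CL.Altn.card_le_mul_of_map (H := A ⊓ 𝒞(U)) (K := 𝒞(V)) (X := Prop) (fun a => gam (a : G) v = 1)
      fun a c h => cent_of hUV c2 hv hv' (mem_inf.1 (mul_mem (inv_mem a.2) c.2)).2 <| gc _ _ <| by
        rcases g2 a a.2 with h3 | h3 <;> rcases g2 c c.2 with h4 | h4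
        · rw [h3, h4]
        · rw [h3, (eq_iff_iff.1 h).1 h3]
        · rw [h4, (eq_iff_iff.1 h).2 h4]
        · rw [h3, h4]
    have h3 : Nat.card (A ⊓ 𝒞(U) ⊓ 𝒞(V) : Subgroup G) ≤ Nat.card (A ⊓ 𝒞(V) : Subgroup G) :=
      card_le_of_le (inf_le_inf_right _ inf_le_left)
    have h4 : Nat.card Prop = 2 := by simp
    rw [h4] at h1 h2
    omega

end Big3

open Big3 in
theorem big3Thm : Big3Thm.{u} := by
  intro G _ _ V n hrk H hc g x hx he
  by_contra hnot
  have sq := H.full.sq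
  have c8 := H.full.card
  set e := g * x * g⁻¹ with hE
  have x1 : x ≠ 1 := fun h => hnot (by rw [hE, h]; simp)
  have ee : e * e = 1 := by
    calc e * e = g * (x * x) * g⁻¹ := by rw [hE]; group
      _ = 1 := by rw [sq x hx]; group
  have eR : e ∉ 𝒞(V) := fun h => hnot (H.om e h ee)
  have eW : e ∈ cj g V := conj_mem_cj g hx
  have cW : 𝒞(cj g V) = cj g 𝒞(V) := (cj_cent g V).symm
  have cc : ∀ w : G, w * w = g * (g⁻¹ * w * g * (g⁻¹ * w * g)) * g⁻¹ := fun w => by group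
  have sqW : ∀ w ∈ cj g V, w * w = 1 := fun w hw => by rw [cc, sq _ (mem_cj.1 hw)]; group
  have c8W : Nat.card (cj g V) = 8 := by rw [card_cj, c8]
  have abW : 𝒞(cj g V) ≤ 𝒞(𝒞(cj g V)) := by rw [cW, ← cj_cent]; exact cj_mono g H.ab
  have omW : ∀ r ∈ 𝒞(cj g V), r * r = 1 → r ∈ cj g V := fun r hr h => mem_cj.2 <| H.om _ (mem_cj.1 (cW ▸ hr)) <| by
    calc g⁻¹ * r * g * (g⁻¹ * r * g) = g⁻¹ * (r * r) * g := by group
      _ = 1 := by rw [h]; group
  have nW : cen e ≤ 𝒩(cj g V) := fun c h => by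
    rw [← cj_norm, mem_cj]
    refine hc x hx x1 (mem_cen.2 ?_)
    calc g⁻¹ * c * g * x = g⁻¹ * (c * (g * x * g⁻¹)) * g := by group
      _ = _ := by rw [← hE, mem_cen.1 h, hE]; group
  have cardW : Nat.card 𝒞(cj g V) = 2 ^ (3 * n) := by rw [cW, card_cj, H.card]
  set W := cj g V with hW
  have c4 := cardU sq c8 he eR ee
  set U := V ⊓ cen e with hU
  by_cases hUW : U ⊓ W = ⊥
  · have key : ∀ w ∈ U, w ≠ 1 → Nat.card (W ⊓ cen w : Subgroup G) = 4 := fun w hw w1 =>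
      cardU sqW c8W (nW hw.2) (fun h => w1 <| mem_bot.1 <| hUW ▸ mem_inf.2 ⟨hw, omW w h (sq w hw.1)⟩) (sq w hw.1)
    obtain ⟨z, hz, z1, -⟩ := CL.NGrp.exists_ne_two (V := U) (by omega) 1
    obtain ⟨u, hu, u1, uz⟩ := CL.NGrp.exists_ne_two (V := U) (by omega) z
    have m4 : ∀ y ∈ U, y = 1 ∨ y = z ∨ y = u ∨ y = z * u := fun y hy =>
      CL.NGrp.mem_four c4 (fun y hy => sq y hy.1) hz hu z1 u1 uz hy
    by_cases h : W ⊓ cen u ≤ W ⊓ cen z
    · have hcm : W ⊓ cen u ≤ 𝒞(U) := fun a ha => mem_centralizer_iff.2 fun y hy => by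
        have h1 := mem_cen.1 (h ha).2
        have h2 := mem_cen.1 ha.2
        rcases m4 y hy with rfl | rfl | rfl | rfl
        · simp
        · exact h1.symm
        · exact h2.symm
        · rw [mul_assoc, ← h2, ← mul_assoc, ← h1, mul_assoc]
      have sqE : ∀ a ∈ (W ⊓ cen u) ⊔ U, a * a = 1 := fun a ha => by
        obtain ⟨b, hb, c, hc', rfl⟩ := (mem_sup_nr (hcm.trans (cent_le_norm U))).1 ha
        calc b * c * (b * c) = b * (c * b) * c := by group
          _ = (b * b) * (c * c) := by rw [comm_of_mem (hcm hb) hc']; group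
          _ = 1 := by rw [sqW b hb.1, sq c hc'.1, one_mul]
      have h1 := hrk ((W ⊓ cen u) ⊔ U) ⟨⟨fun a b => Subtype.ext (cmm sqE a.2 b.2)⟩⟩
        fun a ha => by rw [pow_two, sqE a ha]
      have h2 := card_mul_card_le (le_sup_left : W ⊓ cen u ≤ (W ⊓ cen u) ⊔ U) le_sup_right
      have h3 : W ⊓ cen u ⊓ U = ⊥ := le_bot_iff.1 (hUW ▸ le_inf inf_le_right (inf_le_left.trans inf_le_left))
      rw [h3, card_bot, key u hu u1, c4] at h2
      omega
    · obtain ⟨y, hy, hy'⟩ := SetLike.not_le_iff_exists.1 h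
      have yM : y ∈ 𝒩(V) := hc u hu.1 u1 hy.2
      have zM : W ⊓ cen z ≤ 𝒩(V) := inf_le_right.trans (hc z hz.1 z1)
      have WM : W ≤ 𝒩(V) := fun w hw => by
        by_cases h1 : w ∈ W ⊓ cen z
        · exact zM h1
        · exact (mul_mem_cancel_right yM).1 <| zM <| CL.C2Low.Ess.mul_mem_of_card_two inf_le_left
            (by rw [c8W, key z hz z1]) hw hy.1 h1 hy'
      have h1 := idx sq c8 WM (le_cent sqW) eW eR ee
      have h2 : W ⊓ 𝒞(V) = ⊥ := le_bot_iff.1 fun p hp => hUW ▸ mem_inf.2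
        ⟨mem_inf.2 ⟨H.om p hp.2 (sqW p hp.1), mem_cen.2 (cmm sqW hp.1 eW)⟩, hp.1⟩
      rw [h2, card_bot, c8W] at h1
      omega
  · obtain ⟨⟨w, hw⟩, w1⟩ := (ne_bot_iff_exists_ne_one).1 hUW
    have w1' : w ≠ 1 := fun h => w1 (Subtype.ext h)
    have hRM : 𝒞(W) ≤ 𝒩(V) := fun r hr => hc w hw.1.1 w1' (mem_cen.2 (comm_of_mem hr hw.2).symm)
    have h1 := idx sq c8 hRM abW (le_cent sqW eW) eR ee
    obtain ⟨d, y, hI⟩ := H.ib e he eR (ee ▸ one_mem _)
    have h2 : Nat.card (𝒞(W) ⊓ 𝒞(V) : Subgroup G) ≤ Nat.card (𝒞(V) ⊓ cen e : Subgroup G) :=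
      card_le_of_le (le_inf inf_le_right fun r hr => mem_cen.2 (comm_of_mem hr.1 eW).symm)
    have h3 : 2 ^ (3 * n) ≤ 2 ^ (n + 3) := by
      have := hI.cardC
      rw [← cardW, pow_add 2 (n) 3]
      rw [pow_succ] at this
      omega
    have h4 := (Nat.pow_le_pow_iff_right (by norm_num : 1 < 2)).1 h3
    have := H.two
    omega

end CL.ON3
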