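/-
helper60: basic facts on the linear configuration `LS` (job ON3-A5).
-/
import Cfsg.Agent.ON3.Defs

set_option autoImplicit false
open Cfsg Subgroup

namespace CL.ON3

variable {Γ V Z : Type*} [Group Γ] [AddCommGroup V] [Module (ZMod 2) V] [AddCommGroup Z] [Module (ZMod 2) Z]
  {ρ : Γ →* (V ≃ₗ[ZMod 2] V)} {q : V → Z} {b : V →ₗ[ZMod 2] V →ₗ[ZMod 2] Z} {g : Γ}

theorem add_self2 (v : V) : v + v = 0 := by rw [← two_smul (ZMod 2), show (2 : ZMod 2) = 0 from rfl, zero_smul]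

theorem sub_eq_add2 (u v : V) : u - v = u + v := by rw [sub_eq_iff_eq_add, add_assoc, add_self2, add_zero]

theorem add_eq_zero2 {u v : V} : u + v = 0 ↔ u = v := by rw [← sub_eq_add2, sub_eq_zero]

theorem mem_cmt {σ : V ≃ₗ[ZMod 2] V} {w : V} : w ∈ cmt σ ↔ ∃ v, σ v - v = w := Iff.rfl

theorem QD.q0 (h : QD q b) : q 0 = 0 := by simpa [add_self2] using h.add 0 0

theorem QD.alt (h : QD q b) (x : V) : b x x = 0 := by simpa [add_self2, h.q0] using (h.add x x).symm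

theorem QD.symm (h : QD q b) (x y : V) : b x y = b y x := by
  have := h.add y x
  rwa [add_comm y, h.add, add_comm (q y), add_right_inj] at this

theorem rho_mul (γ δ : Γ) (v : V) : ρ γ (ρ δ v) = ρ (γ * δ) v := by rw [map_mul]; rfl

theorem rho_inv_rho (γ : Γ) (v : V) : ρ γ⁻¹ (ρ γ v) = v := by simp

theorem rho_rho_inv (γ : Γ) (v : V) : ρ γ (ρ γ⁻¹ v) = v := by simp

/-- `[V, g]` is invariant under the powers of `g` -/
theorem pow_mem_cmt {w : V} (hw : w ∈ cmt (ρ g)) (i : ℕ) : ρ (g ^ i) w ∈ cmt (ρ g) := by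
  obtain ⟨v, rfl⟩ := mem_cmt.1 hw
  exact mem_cmt.2 ⟨ρ (g ^ i) v, by rw [map_sub, rho_mul, rho_mul, ← pow_succ, ← pow_succ']⟩

theorem pow_sub_mem_cmt (v : V) (i : ℕ) : ρ (g ^ i) v - v ∈ cmt (ρ g) := by
  induction i with
  | zero => simp
  | succ i ih => simpa [pow_succ', ← rho_mul] using add_mem (mem_cmt.2 ⟨ρ (g ^ i) v, rfl⟩) ih

theorem pow_fix {c : V} (hc : ρ g c = c) (i : ℕ) : ρ (g ^ i) c = c := by
  induction i with
  | zero => simp
  | succ i ih => rw [pow_succ, ← rho_mul, hc, ih]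

namespace LS

variable (h : LS ρ q b g)
include h

theorem binv (γ : Γ) (x y : V) : b (ρ γ x) (ρ γ y) = b x y := by
  have := h.add (ρ γ x) (ρ γ y)
  rw [← map_add, h.inv, h.inv, h.inv, h.add, add_right_inj] at this
  exact this.symm

theorem binv_left (γ : Γ) (x y : V) : b (ρ γ x) y = b x (ρ γ⁻¹ y) := by rw [← h.binv γ x, rho_rho_inv]

/-- the radical is invariant -/
theorem rad_inv {v : V} (hv : ∀ u, b v u = 0) (γ : Γ) (u : V) : b (ρ γ v) u = 0 := by rw [h.binv_left, hv]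

theorem tr_fix (v : V) : ρ g (∑ i : Fin 5, ρ (g ^ i.val) v) = ∑ i : Fin 5, ρ (g ^ i.val) v := by
  simp only [Fin.sum_univ_five, map_add, rho_mul, ← pow_succ']
  simp [h.g5]
  abel

/-- `Σ gⁱ w = 0` on `[V, g]` -/
theorem tr_eq_zero {w : V} (hw : w ∈ cmt (ρ g)) : ∑ i : Fin 5, ρ (g ^ i.val) w = 0 := by
  obtain ⟨v, rfl⟩ := mem_cmt.1 hw
  simp only [map_sub, Finset.sum_sub_distrib, sub_eq_zero, rho_mul, ← pow_succ]
  simpa only [map_sum, rho_mul, ← pow_succ'] using h.tr_fix v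

/-- `V = [V, g] + Fix(g)` -/
theorem decomp (v : V) : ∃ w ∈ cmt (ρ g), ∃ c, ρ g c = c ∧ v = w + c := by
  refine ⟨∑ i : Fin 5, (ρ (g ^ i.val) v - v), Submodule.sum_mem _ fun i _ => pow_sub_mem_cmt v i, _, h.tr_fix v, ?_⟩
  rw [Finset.sum_sub_distrib, sub_add_eq_add_sub, add_self2, Fin.sum_univ_five, add_self2, zero_add, add_self2, zero_add,
    sub_eq_add2, zero_add]

/-- `[V, g] ∩ Fix(g) = 0` -/
theorem eq_zero_of_fix {w : V} (hw : w ∈ cmt (ρ g)) (h1 : ρ g w = w) : w = 0 := by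
  simpa only [pow_fix h1, Fin.sum_univ_five, add_self2, zero_add] using h.tr_eq_zero hw

theorem b_cmt_fix {w c : V} (hw : w ∈ cmt (ρ g)) (hc : ρ g c = c) : b w c = 0 := by
  obtain ⟨v, rfl⟩ := mem_cmt.1 hw
  rw [map_sub, LinearMap.sub_apply, sub_eq_zero]
  conv_lhs => rw [← hc, h.binv]

theorem card_modEq [Finite V] {U : Submodule (ZMod 2) V} (hU : U ≤ cmt (ρ g)) (hi : ∀ u ∈ U, ρ g u ∈ U) :
    Nat.card U ≡ 1 [MOD 5] := by
  classical
  have := Fintype.ofFinite U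
  have : Fact (Nat.Prime 5) := ⟨by norm_num⟩
  let f : Function.End U := fun u => ⟨ρ g u, hi u u.2⟩
  have h1 : f ^ 5 ^ 1 = 1 := funext fun u => Subtype.ext (by
    show ρ g (ρ g (ρ g (ρ g (ρ g u)))) = u
    simp only [rho_mul]
    rw [show g * (g * (g * (g * g))) = g ^ 5 by simp [pow_succ, mul_assoc], h.g5, map_one]; rfl)
  have h2 := Equiv.Perm.card_fixedPoints_modEq h1
  rwa [(Fintype.card_eq_one_iff (α := f.fixedPoints)).2 ⟨⟨0, Subtype.ext (map_zero _)⟩, fun u => Subtype.ext (Subtype.ext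
    (h.eq_zero_of_fix (hU u.1.2) (congrArg Subtype.val u.2)))⟩, ← Nat.card_eq_fintype_card] at h2

/-- `[V, g]` is an irreducible `⟨g⟩`-module -/
theorem irred [Finite V] {U : Submodule (ZMod 2) V} (hU : U ≤ cmt (ρ g)) (hi : ∀ u ∈ U, ρ g u ∈ U) :
    U = ⊥ ∨ U = cmt (ρ g) := by
  have h1 := h.card_modEq hU hi
  have h2 : Nat.card U ∣ 2 ^ 4 := (AddSubgroup.card_dvd_of_le (H := U.toAddSubgroup) (K := (cmt (ρ g)).toAddSubgroup) hU).trans h.w16.dvd
  obtain ⟨k, hk, e⟩ := (Nat.dvd_prime_pow Nat.prime_two).1 h2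
  rw [e] at h1
  interval_cases k
  · exact .inl (Submodule.toAddSubgroup_injective (AddSubgroup.card_eq_one.1 e))
  iterate 3 exact absurd h1 (by decide)
  exact .inr (Submodule.toAddSubgroup_injective (AddSubgroup.eq_of_le_of_card_ge hU (h.w16.trans e.symm).le))

theorem fix_of_pow {w : V} {k : ℕ} (hk : ¬ 5 ∣ k) (h1 : ρ (g ^ k) w = w) : ρ g w = w := by
  obtain ⟨m, hm⟩ := exists_pow_eq_self_of_coprime (x := g) (n := k)
    (((Nat.Prime.coprime_iff_not_dvd (by norm_num)).2 hk).symm.coprime_dvd_right (orderOf_dvd_of_pow_eq_one h.g5))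
  rw [← hm, pow_fix h1]

/-- the `gⁱ w` are distinct -/
theorem orb_inj {w : V} (hw : w ∈ cmt (ρ g)) (h0 : w ≠ 0) : Function.Injective fun i : Fin 5 => ρ (g ^ i.val) w := by
  have key : ∀ i j : Fin 5, i < j → ρ (g ^ i.val) w ≠ ρ (g ^ j.val) w := fun i j hij e => h0 (h.eq_zero_of_fix hw
    (h.fix_of_pow (k := j - i) (by omega) ((ρ (g ^ i.val)).injective (by
      rw [rho_mul, ← pow_add, Nat.add_sub_cancel' hij.le, e]))))
  exact fun i j e => by_contra fun e' => (lt_or_gt_of_ne e').elim (key i j · e) (key j i · e.symm)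

/-- an invariant subspace containing `[V, g]` is everything -/
theorem eq_top {R : Submodule (ZMod 2) V} (hR : ∀ γ, ∀ v ∈ R, ρ γ v ∈ R) (hW : cmt (ρ g) ≤ R) : R = ⊤ := by
  let H : Subgroup Γ :=
    { carrier := {γ | ∀ v, ρ γ v - v ∈ R}
      one_mem' := by simp
      mul_mem' := fun {x y} hx hy v => by simpa [← rho_mul] using add_mem (hx (ρ y v)) (hy v)
      inv_mem' := fun {x} hx v => by simpa [rho_rho_inv] using neg_mem (hx (ρ x⁻¹ v)) }
  have : H.Normal := ⟨fun x hx y v => by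
    have := hR y _ (hx (ρ y⁻¹ v))
    rwa [map_sub, rho_rho_inv, rho_mul, rho_mul] at this⟩
  have h1 : ⊤ ≤ H := h.gen ▸ normalClosure_le_normal (by rintro _ rfl v; exact hW (mem_cmt.2 ⟨v, rfl⟩))
  refine eq_top_iff.2 fun v _ => by_contra fun e => ?_
  obtain ⟨l, h2, h3⟩ := R.exists_dual_map_eq_bot_of_notMem e inferInstance
  refine h2 (LinearMap.congr_fun (h.comm l fun γ u => ?_) v)
  rw [← sub_eq_zero, ← map_sub, ← Submodule.mem_bot (ZMod 2), ← h3]
  exact Submodule.mem_map_of_mem (h1 (mem_top γ) u)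

/-- an invariant subspace fixed by `g` is fixed by `Γ` -/
theorem fix_all {R : Submodule (ZMod 2) V} (hR : ∀ γ, ∀ v ∈ R, ρ γ v ∈ R) (hg : ∀ v ∈ R, ρ g v = v) (γ : Γ) :
    ∀ v ∈ R, ρ γ v = v := by
  let H : Subgroup Γ :=
    { carrier := {γ | ∀ v ∈ R, ρ γ v = v}
      one_mem' := by simp
      mul_mem' := fun {x y} hx hy v hv => by rw [← rho_mul, hy v hv, hx v hv]
      inv_mem' := fun {x} hx v hv => by conv_lhs => rw [← hx v hv, rho_inv_rho] }
  have : H.Normal := ⟨fun x hx y v hv => by rw [← rho_mul, ← rho_mul, hx _ (hR _ v hv), rho_rho_inv]⟩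
  have h1 : ⊤ ≤ H := h.gen ▸ normalClosure_le_normal (by rintro _ rfl; exact hg)
  exact h1 (mem_top γ)

/-- a fixed vector lies in the radical -/
theorem rad_of_fix {v : V} (hv : ∀ γ, ρ γ v = v) (u : V) : b v u = 0 :=
  (Module.forall_dual_apply_eq_zero_iff (ZMod 2) _).1 fun l => LinearMap.congr_fun (h.comm (l ∘ₗ b v) fun γ x => by
    conv_lhs => rw [← hv γ, LinearMap.comp_apply, h.binv]
    rfl) u

/-- `[V, g] ∩ Rad = 0` as soon as `[V, g]` is not in the radical -/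
theorem eq_zero_of_rad [Finite V] {w : V} (hw : w ∈ cmt (ρ g)) (h0 : ∃ u, b w u ≠ 0) {x : V} (hx : x ∈ cmt (ρ g))
    (h1 : ∀ u, b x u = 0) : x = 0 := by
  rcases h.irred (U := cmt (ρ g) ⊓ LinearMap.ker b) inf_le_left fun u hu => ⟨by simpa using pow_mem_cmt hu.1 1,
    LinearMap.ext (h.rad_inv (LinearMap.congr_fun hu.2) g)⟩ with e | e
  · exact (Submodule.mem_bot _).1 (e.le ⟨hx, LinearMap.ext h1⟩)
  · exact (h0.elim fun u hu => hu (LinearMap.congr_fun (e.ge hw).2 u)).elim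

/-- the `gⁱ w` span `[V, g]` -/
theorem span_orb [Finite V] {w : V} (hw : w ∈ cmt (ρ g)) (h0 : w ≠ 0) :
    Submodule.span (ZMod 2) (Set.range fun i : Fin 5 => ρ (g ^ i.val) w) = cmt (ρ g) := by
  refine (h.irred (Submodule.span_le.2 ?_) fun u hu => ?_).resolve_left fun e => h0 ?_
  · rintro _ ⟨i, rfl⟩; exact pow_mem_cmt hw i
  · refine Submodule.span_induction (fun _ ⟨i, e⟩ => Submodule.subset_span ⟨i + 1, ?_⟩) (by simp)
      (fun x y _ _ a c => by simpa using add_mem a c) (fun c x _ a => by simpa using Submodule.smul_mem _ c a) hu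
    simp only [← e, rho_mul, ← pow_succ', Fin.val_add, Fin.val_one, ← pow_eq_pow_mod _ h.g5]
  · simpa using Submodule.span_eq_bot.1 e _ ⟨0, rfl⟩

end LS

end CL.ON3
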