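/-
helper60: job ON3-CLS2.
-/
import Cfsg.Agent.ON3.LS0
import Mathlib.LinearAlgebra.Transvection.Basic

set_option autoImplicit false
open Cfsg Subgroup CL.Even
open scoped commutatorElement

namespace CL.ON3

universe u

namespace Cls2

/-- an action on an elementary abelian group as a linear action -/
def lin {Q : Type*} [CommGroup Q] [Module (ZMod 2) (Additive Q)] : MulAut Q ≃* (Additive Q ≃ₗ[ZMod 2] Additive Q) where
  toFun α := { MulEquiv.toAdditive α with map_smul' := ZMod.map_smul (MulEquiv.toAdditive α) }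
  invFun α := MulEquiv.toAdditive.symm α.toAddEquiv
  left_inv _ := rfl
  right_inv _ := rfl
  map_mul' _ _ := rfl

variable {X : Type*} [Group X] {V : Subgroup X}

theorem comm_of_sq (h : ∀ v ∈ V, v * v = 1) {a b : X} (ha : a ∈ V) (hb : b ∈ V) : a * b = b * a := by
  rw [← inv_eq_of_mul_eq_one_right (h _ (mul_mem ha hb)), mul_inv_rev, inv_eq_of_mul_eq_one_right (h a ha),
    inv_eq_of_mul_eq_one_right (h b hb)]

theorem z2 (a : ZMod 2) : a = 0 ∨ a = 1 := by revert a; decide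

/-- transvections of `V` are induced -/
theorem exists_tv (h : Full V) {a t : X} (ha : a ∈ V) (ht : t ∈ V) (h1 : t ≠ 1) (h2 : t ≠ a) :
    ∃ m : X, m * a * m⁻¹ = a ∧ m * t * m⁻¹ = t * a ∧ ∀ c ∈ V, m * c * m⁻¹ = c ∨ m * c * m⁻¹ = c * a := by
  let _ : CommGroup V := { (inferInstance : Group V) with mul_comm := fun x y => Subtype.ext (comm_of_sq h.sq x.2 y.2) }
  let _ : Module (ZMod 2) (Additive V) := AddCommGroup.zmodModule fun x => (two_nsmul x).trans (Subtype.ext (h.sq _ x.2))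
  obtain ⟨φ, h3, h4⟩ := (Submodule.span (ZMod 2) {Additive.ofMul (⟨a, ha⟩ : V)}).exists_dual_map_eq_bot_of_notMem
    (x := Additive.ofMul (⟨t, ht⟩ : V)) (fun e => by
      obtain ⟨c, e⟩ := Submodule.mem_span_singleton.1 e
      rcases z2 c with rfl | rfl
      · rw [zero_smul] at e; exact h1 (congrArg (·.toMul.1) e).symm
      · rw [one_smul] at e; exact h2 (congrArg (·.toMul.1) e).symm) inferInstance
  have h5 : φ (Additive.ofMul ⟨a, ha⟩) = 0 :=
    (Submodule.mem_bot _).1 (h4 ▸ Submodule.mem_map_of_mem (Submodule.mem_span_singleton_self _))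
  obtain ⟨m, -, hm⟩ := h.aut (lin.symm (LinearEquiv.transvection h5))
  have key : ∀ c (hc : c ∈ V), m * c * m⁻¹ = (Additive.ofMul (⟨c, hc⟩ : V) +
      φ (Additive.ofMul ⟨c, hc⟩) • Additive.ofMul (⟨a, ha⟩ : V)).toMul := fun c hc => hm ⟨c, hc⟩
  refine ⟨m, by simp [key a ha, h5], by simp [key t ht, (z2 _).resolve_left h3], fun c hc => ?_⟩
  rcases z2 (φ (Additive.ofMul ⟨c, hc⟩)) with e | e <;> simp [key c hc, e]

theorem le_of_normal (h : Full V) {N : Subgroup X} [hN : N.Normal] {t : X} (ht : t ∈ V) (h1 : t ≠ 1) (h2 : t ∈ N) :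
    V ≤ N := fun v hv => by
  by_cases e : v = 1
  · simp [e]
  obtain ⟨m, -, h3, -⟩ := exists_tv h (mul_mem ht hv) ht h1 (by simpa [eq_comm] using e)
  simpa [h3, ← mul_assoc, h.sq t ht] using hN.conj_mem t h2 m

theorem mem_of_sq [Finite X] (hr : PRankLE 2 3 X) (h : Full V) {x : X} (hx : x ∈ 𝒞(V)) (h1 : x * x = 1) : x ∈ V := by
  have h2 : ∀ y ∈ V ⊔ zpowers x, y * y = 1 := fun y hy => by
    rw [sup_comm, ← SetLike.mem_coe, coe_mul_of_left_le_normalizer_right _ _ (zpowers_le.2 (cent_le_norm _ hx))] at hy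
    obtain ⟨_, ⟨k, rfl⟩, v, hv, rfl⟩ := hy
    have h3 : Commute v (x ^ k) := Commute.zpow_right (comm_of_mem hx hv) k
    rw [← sq, h3.symm.mul_pow, sq v, h.sq v hv, mul_one, ← zpow_natCast, ← zpow_mul, mul_comm, zpow_mul, zpow_natCast, sq, h1,
      one_zpow]
  have h3 := hr (V ⊔ zpowers x) ⟨⟨fun a b => Subtype.ext (comm_of_sq h2 a.2 b.2)⟩⟩ fun a ha => by rw [sq, h2 a ha]
  exact (eq_of_le_of_card_ge le_sup_left (h3.trans h.card.ge)).ge (mem_sup_right (mem_zpowers x))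

end Cls2

open Cls2

theorem cls2_of (h : QuadThm.{u}) : Cls2Thm.{u} := fun X _ _ V A B hr hV hF hA hB hp VA AB BC sqA cmA => by
  have cA : ∀ {x a}, x ∈ B → a ∈ A → Commute a x := fun hx ha => comm_of_mem (BC hx) ha
  have kA : ∀ {x y}, x ∈ B → y ∈ B → ⁅x, y⁆ ∈ A := fun hx hy => cmA (commutator_mem_commutator hx hy)
  have inV : ∀ {x}, x ∈ B → x * x = 1 → x ∈ V := fun hx e => mem_of_sq hr hF (centralizer_le VA (BC hx)) e
  have kl : ∀ {x x' y}, x ∈ B → x' ∈ B → y ∈ B → ⁅x * x', y⁆ = ⁅x, y⁆ * ⁅x', y⁆ := fun {x x' y} hx hx' hy => by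
    calc _ = x * ⁅x', y⁆ * x⁻¹ * ⁅x, y⁆ := by simp only [commutatorElement_def]; group
      _ = _ := by rw [← (cA hx (kA hx' hy)).eq, mul_inv_cancel_right, (cA (AB (kA hx hy)) (kA hx' hy)).eq]
  have kr : ∀ {x y y'}, x ∈ B → y ∈ B → y' ∈ B → ⁅x, y * y'⁆ = ⁅x, y⁆ * ⁅x, y'⁆ := fun {x y y'} hx hy hy' => by
    rw [← commutatorElement_inv, kl hy hy' hx, ← (cA (AB (kA hy hx)) (kA hy' hx)).eq, mul_inv_rev, commutatorElement_inv,
      commutatorElement_inv]
  have k1 : ∀ {a y}, a ∈ A → y ∈ B → ⁅a, y⁆ = 1 := fun ha hy => commutatorElement_eq_one_iff_commute.2 (cA hy ha)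
  have k1' : ∀ {a y}, a ∈ A → y ∈ B → ⁅y, a⁆ = 1 := fun ha hy => commutatorElement_eq_one_iff_commute.2 (cA hy ha).symm
  have kV : ∀ {x y}, x ∈ B → y ∈ B → ⁅x, y⁆ ∈ V := fun hx hy => inV (AB (kA hx hy)) (by
    rw [← kl hx hx hy, k1 (sqA _ hx) hy])
  have sqm : ∀ {x y}, x ∈ B → y ∈ B → x * y * (x * y) = x * x * (y * y) * ⁅y, x⁆ := fun {x y} hx hy => by
    calc _ = x * ⁅y, x⁆ * (x * (y * y)) := by simp only [commutatorElement_def]; group
      _ = _ := by rw [mul_assoc, (cA (mul_mem hx (mul_mem hy hy)) (kA hy hx)).eq]; group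
  suffices ∀ x ∈ B, ∀ y ∈ B, ⁅x, y⁆ = 1 from fun x hx => mem_centralizer_iff.2 fun y hy =>
    commutatorElement_eq_one_iff_commute.1 (this y hy x hx)
  by_cases hAV : A ≤ V
  · obtain rfl := le_antisymm VA hAV
    let _ : CommGroup V := { (inferInstance : Group V) with mul_comm := fun x y => Subtype.ext (comm_of_sq hF.sq x.2 y.2) }
    let _ : Module (ZMod 2) (Additive V) := AddCommGroup.zmodModule fun x => (two_nsmul x).trans (Subtype.ext (hF.sq _ x.2))
    let _ : CommGroup (B ⧸ V.subgroupOf B) := { (inferInstance : Group _) with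
      mul_comm := fun x y => QuotientGroup.induction_on x fun x => QuotientGroup.induction_on y fun y =>
        QuotientGroup.eq.2 (by simpa [mem_subgroupOf, commutatorElement_def, mul_assoc] using kA (inv_mem y.2) (inv_mem x.2)) }
    let _ : Module (ZMod 2) (Additive (B ⧸ V.subgroupOf B)) := AddCommGroup.zmodModule fun x => (two_nsmul x).trans
      (QuotientGroup.induction_on (C := fun z => z * z = 1) x.toMul fun x => (QuotientGroup.eq_one_iff (x * x)).2 (sqA _ x.2))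
    let ρ : X →* MulAut (B ⧸ V.subgroupOf B) :=
      { toFun := fun g => QuotientGroup.congr _ _ (MulAut.conjNormal g) (Subgroup.ext fun x =>
          mem_map_equiv.trans (by simpa [mem_subgroupOf] using hV.mem_comm_iff.trans (by simp)))
        map_one' := MulEquiv.ext fun x => QuotientGroup.induction_on x fun x => by simp
        map_mul' := fun g k => MulEquiv.ext fun x => QuotientGroup.induction_on x fun x => by simp }
    have rel : ∀ {x y : B}, (QuotientGroup.leftRel (V.subgroupOf B)) x y → ∃ a ∈ V, (y : X) = x * a := fun {x y} e =>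
      ⟨_, mem_subgroupOf.1 (QuotientGroup.leftRel_apply.1 e), by simp⟩
    let q : Additive (B ⧸ V.subgroupOf B) → Additive V := fun w => Quotient.liftOn' w.toMul
      (fun x => Additive.ofMul ⟨x * x, sqA _ x.2⟩) fun x y e => Subtype.ext (by
        obtain ⟨a, ha, e⟩ := rel e
        simp [e, sqm x.2 (AB ha), hF.sq a ha, k1 ha x.2])
    let b₀ : Additive (B ⧸ V.subgroupOf B) → Additive (B ⧸ V.subgroupOf B) → Additive V := fun w w' =>
      Quotient.liftOn₂' w.toMul w'.toMul (fun x y => Additive.ofMul ⟨⁅(y : X), x⁆, kV y.2 x.2⟩) fun x y x' y' e e' =>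
        Subtype.ext (by
          obtain ⟨a, ha, e⟩ := rel e
          obtain ⟨a', ha', e'⟩ := rel e'
          simp [e, e', kl y.2 (AB ha') (mul_mem x.2 (AB ha)), kr y.2 x.2 (AB ha), k1 ha' (mul_mem x.2 (AB ha)), k1' ha y.2])
    have ind : ∀ {P : Additive (B ⧸ V.subgroupOf B) → Prop}, (∀ x : B, P (Additive.ofMul x)) → ∀ w, P w :=
      fun {P} h w => QuotientGroup.induction_on (C := fun z => P (Additive.ofMul z)) w.toMul h
    let b := LinearMap.mk₂ (ZMod 2) b₀ (ind fun x => ind fun y => ind fun z => Subtype.ext (kr z.2 x.2 y.2))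
      (fun c => ind fun x => ind fun y => by
        rcases z2 c with rfl | rfl
        · rw [zero_smul, zero_smul]; exact Subtype.ext (commutatorElement_one_right _)
        · rw [one_smul, one_smul])
      (ind fun x => ind fun y => ind fun z => Subtype.ext (kl y.2 z.2 x.2)) (fun c => ind fun x => ind fun y => by
        rcases z2 c with rfl | rfl
        · rw [zero_smul, zero_smul]; exact Subtype.ext (commutatorElement_one_left _)
        · rw [one_smul, one_smul])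
    have := h X _ _ (lin.toMonoidHom.comp ρ) (lin.toMonoidHom.comp MulAut.conjNormal) q b hF.card
      (lin.surjective.comp fun α => let ⟨m, _, hm⟩ := hF.aut α; ⟨m, MulEquiv.ext fun x => Subtype.ext (hm x)⟩)
      (ind fun x => ind fun y => Subtype.ext (sqm x.2 y.2))
      (ind fun x e => (QuotientGroup.eq_one_iff x).2 (inV x.2 (congrArg Subtype.val e)))
      fun γ => ind fun x => Subtype.ext (show γ * x * γ⁻¹ * (γ * x * γ⁻¹) = γ * (x * x) * γ⁻¹ by group)
    exact fun x hx y hy => congrArg Subtype.val (this (Additive.ofMul (⟨y, hy⟩ : B)) (Additive.ofMul (⟨x, hx⟩ : B)))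
  have ex : ∃ n, ∀ y ∈ A, y ^ 2 ^ (n + 1) = 1 := by
    obtain ⟨k, hk⟩ := hp.exists_card_eq
    exact ⟨k, fun y hy => by rw [pow_succ, pow_mul, ← hk, show y ^ _ = 1 from congrArg Subtype.val
      (pow_card_eq_one' (x := (⟨y, AB hy⟩ : B))), one_pow]⟩
  classical
  obtain ⟨n, hn⟩ := Nat.exists_eq_succ_of_ne_zero fun e : Nat.find ex = 0 => hAV fun y hy => inV (AB hy) (by
    simpa [e, sq] using Nat.find_spec ex y hy)
  have h1 := hn ▸ Nat.find_spec ex
  obtain ⟨t, ht, h2⟩ : ∃ t ∈ A, t ^ 2 ^ (n + 1) ≠ 1 := by simpa using Nat.find_min ex (m := n) (by omega)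
  let _ : CommGroup A := { (inferInstance : Group A) with mul_comm := fun x y => Subtype.ext (cA (AB y.2) x.2) }
  have h3 : ∀ y ∈ A, y ^ 2 ^ (n + 1) ∈ V := fun y hy => inV (pow_mem (AB hy) _) (by
    rw [← sq, ← pow_mul, ← pow_succ, h1 y hy])
  have h4 : (powMonoidHom 2 : A →* A).ker = V.subgroupOf A := Subgroup.ext fun y =>
    ⟨fun e => inV (AB y.2) ((sq _).symm.trans (congrArg Subtype.val e)), fun e => Subtype.ext ((sq _).trans (hF.sq _ e))⟩
  have h5 : (powMonoidHom (2 ^ (n + 1)) : A →* A).range = V.subgroupOf A := by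
    refine le_antisymm (by rintro _ ⟨y, rfl⟩; exact h3 y y.2) ((comap_mono ?_).trans (comap_map_eq_self_of_injective A.subtype_injective _).le)
    have : ((powMonoidHom (2 ^ (n + 1)) : A →* A).range.map A.subtype).Normal := ⟨by
      rintro _ ⟨_, ⟨y, rfl⟩, rfl⟩ g
      exact ⟨_, ⟨⟨_, hA.conj_mem _ y.2 g⟩, rfl⟩, conj_pow⟩⟩
    exact le_of_normal hF (h3 t ht) h2 ⟨_, ⟨⟨t, ht⟩, rfl⟩, rfl⟩
  have h6 : (powMonoidHom 2 : A →* A).range = (powMonoidHom (2 ^ (n + 1)) : A →* A).ker := by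
    refine eq_of_le_of_card_ge ?_ (Nat.eq_of_mul_eq_mul_left (Nat.card_pos (α := V.subgroupOf A)) ?_).le
    · rintro _ ⟨y, rfl⟩
      exact Subtype.ext ((pow_mul _ _ _).symm.trans (by rw [← pow_succ']; exact h1 y y.2))
    · conv_lhs => rw [← h5, ← index_ker, index_mul_card]
      rw [← h4, ← index_ker, card_mul_index]
  have lam : ∀ {x y}, x ∈ B → y ∈ B → (x * y) ^ 2 ^ (n + 2) = x ^ 2 ^ (n + 2) * y ^ 2 ^ (n + 2) := fun {x y} hx hy => by
    simp only [pow_succ' 2 (n + 1), pow_mul, sq]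
    rw [sqm hx hy, (cA (AB (kA hy hx)) (mul_mem (sqA x hx) (sqA y hy))).mul_pow, (cA (AB (sqA y hy)) (sqA x hx)).mul_pow,
      pow_succ' 2 n, pow_mul ⁅y, x⁆, sq ⁅y, x⁆, hF.sq _ (kV hy hx), one_pow, mul_one]
  have lV : ∀ {x}, x ∈ B → x ^ 2 ^ (n + 2) ∈ V := fun {x} hx => by
    simpa only [pow_succ' 2 (n + 1), pow_mul, sq] using h3 _ (sqA x hx)
  have ker : ∀ {x y}, x ∈ B → y ∈ B → x ^ 2 ^ (n + 2) = y ^ 2 ^ (n + 2) → ∃ a ∈ A, x = y * a := fun {x y} hx hy e => by
    have h7 := mul_mem (inv_mem hy) hx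
    obtain ⟨c, hc⟩ := h6.ge (x := ⟨_, sqA _ h7⟩) (Subtype.ext (show (_ * _) ^ _ = 1 by
      rw [← sq, ← pow_mul, ← pow_succ', lam (inv_mem hy) hx, e, inv_pow, inv_mul_cancel]))
    refine ⟨_, (mul_mem_cancel_right (inv_mem c.2)).1 (VA (inV (mul_mem h7 (inv_mem (AB c.2))) ?_)), by simp⟩
    rw [← sq, (cA h7 (inv_mem c.2)).symm.mul_pow, inv_pow, show (c : X) ^ 2 = _ from congrArg Subtype.val hc, sq,
      mul_inv_cancel]
  have key : ∀ {x y}, x ∈ B → y ∈ B → ⁅x, y⁆ ≠ 1 → ⁅x, y⁆ = x ^ 2 ^ (n + 2) := fun {x y} hx hy e => by_contra fun e' => by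
    obtain ⟨m, a, b, c⟩ := exists_tv hF (lV hx) (kV hx hy) e e'
    obtain ⟨r, hr, h7⟩ := ker (hB.conj_mem x hx m) hx (by rwa [conj_pow])
    have h8 : m * ⁅x, y⁆ * m⁻¹ = ⁅x, m * y * m⁻¹⁆ := by
      rw [conjugate_commutatorElement, h7, kl hx (AB hr) (hB.conj_mem y hy m), k1 hr (hB.conj_mem y hy m), mul_one]
    have h9 : ⁅x, m * y * m⁻¹⁆ = ⁅x, y⁆ := by
      rcases c _ (lV hy) with c | c
      · obtain ⟨s, hs, h9⟩ := ker (hB.conj_mem y hy m) hy (by rwa [conj_pow])
        rw [h9, kr hx hy (AB hs), k1' hs hx, mul_one]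
      · obtain ⟨s, hs, h9⟩ := ker (hB.conj_mem y hy m) (mul_mem hy hx) (by rwa [conj_pow, lam hy hx])
        rw [h9, kr hx (mul_mem hy hx) (AB hs), k1' hs hx, mul_one, kr hx hy hx, commutatorElement_self, mul_one]
    obtain ⟨s, hs, h10⟩ := ker hx (one_mem B) (by rw [one_pow]; exact left_eq_mul.1 ((h8.trans h9).symm.trans b))
    exact e (k1 (by simpa [h10]) hy)
  refine fun x hx y hy => by_contra fun e => e ?_
  obtain ⟨s, hs, h7⟩ := ker hx hy (by
    rw [← key hx hy e, ← key hy hx (by rwa [← commutatorElement_inv, inv_ne_one]), ← commutatorElement_inv x,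
      inv_eq_of_mul_eq_one_right (hF.sq _ (kV hx hy))])
  rw [h7, kl hy (AB hs) hy, k1 hs hy, commutatorElement_self, mul_one]

end CL.ON3
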