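/-
helper60: job ON3-FR, coordinates on `V`.
-/
import Cfsg.Agent.ON3.Cls2
import Cfsg.Agent.Cls.SL2Dihedral

set_option autoImplicit false
open Cfsg Subgroup CL.Even

namespace CL.ON3.FrJ

abbrev W := ZMod 2 × ZMod 2 × ZMod 2
abbrev z : W := (1, 0, 0)
abbrev u : W := (0, 1, 0)
abbrev v : W := (0, 0, 1)
/-- the linear map with `z ↦ a`, `u ↦ b`, `v ↦ c` -/
def L (a b c : W) (w : W) : W := w.1 • a + w.2.1 • b + w.2.2 • c
abbrev Ti := L z u (v + z)
abbrev Tj := L z (u + z) v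
abbrev Tk := L z (u + z) (v + z)
abbrev R := L z v (u + v)
abbrev X := L z u (v + u)

variable {G : Type*} [Group G] {V : Subgroup G} {ι : W → G}

/-- `m` acts on `V` as `T` -/
def Ac (ι : W → G) (m : G) (T : W → W) : Prop := ∀ w, m * ι w = ι (T w) * m

structure Co (V : Subgroup G) (ι : W → G) : Prop where
  add : ∀ a b, ι (a + b) = ι a * ι b
  inj : Function.Injective ι
  mem : ∀ g, g ∈ V ↔ ∃ w, ι w = g
  cV : 𝒞(V) ≤ V
  move : ∀ a b c, Function.Injective (L a b c) → ∃ m, Ac ι m (L a b c)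

theorem exists_co (h : Full V) (cV : 𝒞(V) ≤ V) : ∃ ι, Co V ι := by
  have : Finite V := Nat.finite_of_card_ne_zero (by rw [h.card]; decide)
  let _ : CommGroup V := { (inferInstance : Group V) with mul_comm := fun x y => Subtype.ext (Cls2.comm_of_sq h.sq x.2 y.2) }
  let _ : Module (ZMod 2) (Additive V) := AddCommGroup.zmodModule fun x => (two_nsmul x).trans (Subtype.ext (h.sq _ x.2))
  have : Module.Finite (ZMod 2) (Additive V) := Module.Finite.of_finite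
  have h1 := Module.natCard_eq_pow_finrank (K := ZMod 2) (V := Additive V)
  rw [Nat.card_zmod] at h1
  let φ : W ≃ₗ[ZMod 2] Additive V := .ofFinrankEq _ _ (by
    rw [← Nat.pow_right_injective le_rfl ((show 2 ^ 3 = _ from h.card.symm).trans h1)]; simp)
  refine ⟨fun w => (φ w).toMul, fun a b => by simp, fun a b e => φ.injective (Subtype.ext e), fun g =>
    ⟨fun hg => ⟨φ.symm (Additive.ofMul ⟨g, hg⟩), by simp⟩, fun ⟨w, e⟩ => e ▸ (φ w).toMul.2⟩, cV, fun a b c hi => ?_⟩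
  let T : W ≃+ W := .ofBijective (AddMonoidHom.mk' (L a b c) fun x y => by simp [L, add_smul]; abel)
    (Finite.injective_iff_bijective.1 hi)
  obtain ⟨m, -, hm⟩ := h.aut (MulEquiv.toAdditive.symm (φ.toAddEquiv.symm.trans (T.trans φ.toAddEquiv)))
  exact ⟨m, fun w => by rw [← mul_inv_eq_iff_eq_mul, hm]; exact congrArg (fun w => (φ (T w)).toMul.1) (φ.symm_apply_apply w)⟩

theorem Ac.mul {m m' : G} {T T' : W → W} (h : Ac ι m T) (h' : Ac ι m' T') : Ac ι (m * m') (T ∘ T') := fun w => by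
  rw [mul_assoc, h', ← mul_assoc, h, mul_assoc]; rfl

theorem Ac.pow {m : G} {T : W → W} (h : Ac ι m T) (n : ℕ) : Ac ι (m ^ n) T^[n] := by
  induction n with
  | zero => exact fun w => by simp
  | succ n ih => rw [pow_succ]; exact ih.mul h

theorem Ac.congr {m : G} {T T' : W → W} (h : Ac ι m T) (e : ∀ w, T w = T' w) : Ac ι m T' := fun w => e w ▸ h w

theorem Ac.cj {m : G} {T : W → W} (h : Ac ι m T) (w : W) : m * ι w * m⁻¹ = ι (T w) := by rw [h, mul_inv_cancel_right]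

theorem Ac.l {m : G} {T : W → W} (h : Ac ι m T) (w : W) (g : G) : m * (ι w * g) = ι (T w) * (m * g) := by
  rw [← mul_assoc, h, mul_assoc]

theorem Ac.conj {g m : G} {P T T' : W → W} (hg : Ac ι g P) (h : Ac ι m T)
    (e : ∀ w, ∃ w', P w' = w ∧ P (T w') = T' w) : Ac ι (g * m * g⁻¹) T' := fun w => by
  obtain ⟨w, rfl, e⟩ := e w
  rw [← e, ← hg.cj, ← hg.cj, ← h.cj]; group

namespace Co

variable (h : Co V ι)
include h

theorem zero : ι 0 = 1 := by simpa using h.add 0 0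

theorem l (a b : W) (g : G) : ι a * (ι b * g) = ι (a + b) * g := by rw [h.add, mul_assoc]

theorem sq (a : W) : ι a * ι a = 1 := by rw [← h.add, show a + a = 0 by revert a; decide, h.zero]

theorem inv (a : W) : (ι a)⁻¹ = ι a := inv_eq_of_mul_eq_one_right (h.sq a)

theorem memV (a : W) : ι a ∈ V := (h.mem _).2 ⟨a, rfl⟩

theorem ac (a : W) : Ac ι (ι a) id := fun w => by rw [← h.add, ← h.add, add_comm]; rfl

theorem ac_mul (a : W) {m : G} {T : W → W} (hm : Ac ι m T) : Ac ι (ι a * m) T := (h.ac a).mul hm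

theorem nsmul (n : ℕ) (a : W) : ι (n • a) = ι a ^ n := by
  induction n with
  | zero => simp [h.zero]
  | succ n ih => rw [succ_nsmul, h.add, ih, pow_succ]

theorem diff {m m' : G} {T T' : W → W} (hm : Ac ι m T) (hm' : Ac ι m' T') (e : ∀ w, T w = T' w) : ∃ w, m = ι w * m' := by
  have h1 : m'⁻¹ * m ∈ V := h.cV (mem_centralizer_iff.2 fun g hg => by
    obtain ⟨w, rfl⟩ := (h.mem g).1 hg
    rw [mul_assoc, hm, e, ← hm'.cj]; group)
  obtain ⟨w, e⟩ := (h.mem _).1 h1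
  exact ⟨T' w, by rw [← hm', e, mul_inv_cancel_left]⟩

theorem triv {m : G} {T : W → W} (hm : Ac ι m T) (e : ∀ w, T w = w) : ∃ w, m = ι w := by
  simpa using h.diff hm (m' := 1) (T' := id) (fun w => by simp) e

theorem norm [Finite G] {m : G} {T : W → W} (hm : Ac ι m T) : m ∈ 𝒩(V) := mem_norm_of_cj_le (by
  rintro _ ⟨g, hg, rfl⟩
  obtain ⟨w, rfl⟩ := (h.mem g).1 hg
  exact (h.mem _).2 ⟨_, (hm.cj w).symm⟩)

theorem exists_ac {m : G} (hm : m ∈ 𝒩(V)) : ∃ a b c, Function.Injective (L a b c) ∧ Ac ι m (L a b c) := by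
  choose T hT using fun w => (h.mem _).1 (conj_mem hm (h.memV w))
  have h1 : ∀ a b, T (a + b) = T a + T b := fun a b => h.inj (by rw [h.add, hT, hT, hT, h.add]; group)
  have h2 : T 0 = 0 := by simpa using h1 0 0
  have h3 : ∀ w, T w = L (T z) (T u) (T v) w := fun w => by
    have h4 : ∀ (c : ZMod 2) a, T (c • a) = c • T a := fun c a => by rcases Cls2.z2 c with rfl | rfl <;> simp [h2]
    rw [L, ← h4, ← h4, ← h4, ← h1, ← h1]
    exact congrArg T (by revert w; decide)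
  exact ⟨T z, T u, T v, fun a b e => h.inj (by simpa using (by rw [← hT, ← hT, h3 a, h3 b, e] :
    m * ι a * m⁻¹ = m * ι b * m⁻¹)), fun w => by rw [← h3, hT, inv_mul_cancel_right]⟩

theorem sq_mul {m : G} {T : W → W} (hm : Ac ι m T) {c : W} (hc : m * m = ι c) (w : W) :
    ι w * m * (ι w * m) = ι (w + T w + c) := by rw [mul_assoc, hm.l, h.l, hc, ← h.add]

theorem exists_rho : ∃ ρ, Ac ι ρ R ∧ ρ ^ 3 = 1 := by
  obtain ⟨ρ, h1⟩ := h.move z v (u + v) (by decide)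
  obtain ⟨s, h2⟩ := h.triv (h1.pow 3) (by decide)
  exact ⟨ρ ^ 4, (h1.pow 4).congr (by decide), by rw [← pow_mul, mul_comm, pow_mul, h2, show 4 = 2 * 2 from rfl, pow_mul,
    pow_two (ι s), h.sq, one_pow]⟩

theorem exists_i {ρ : G} (hρ : Ac ι ρ R) (h3 : ρ ^ 3 = 1) :
    ∃ i, Ac ι i Ti ∧ i * i = ι z ∧ i * (ρ * i * ρ⁻¹) = ρ * (ρ * i * ρ⁻¹) * ρ⁻¹ := by
  obtain ⟨e, he, h1⟩ : ∃ e, Ac ι e Ti ∧ e * e = ι z := by
    obtain ⟨e, he⟩ := h.move z u (v + z) (by decide)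
    obtain ⟨c, hc⟩ := h.triv (he.mul he) (by decide)
    have hj : Ac ι (ρ * e * ρ⁻¹) Tj := hρ.conj he (by decide)
    have hk : Ac ι (ρ * (ρ * e * ρ⁻¹) * ρ⁻¹) Tk := hρ.conj hj (by decide)
    have jj : ρ * e * ρ⁻¹ * (ρ * e * ρ⁻¹) = ι (R c) := by rw [← hρ.cj, ← hc]; group
    have kk : ρ * (ρ * e * ρ⁻¹) * ρ⁻¹ * (ρ * (ρ * e * ρ⁻¹) * ρ⁻¹) = ι (R (R c)) := by rw [← hρ.cj, ← jj]; group
    generalize ρ * (ρ * e * ρ⁻¹) * ρ⁻¹ = k at hk kk
    generalize ρ * e * ρ⁻¹ = j at hj jj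
    obtain ⟨a, ha⟩ := h.diff (he.mul hj) hk (by decide)
    obtain ⟨b, hb⟩ := h.diff (hj.mul he) (he.mul hj) (by decide)
    have h4 : a + Tk a + R (R c) = Ti b + (c + R c) := h.inj (by
      rw [← h.sq_mul hk kk, ← ha, h.add, h.add, ← hc, ← jj, mul_assoc, ← mul_assoc j, hb, mul_assoc, he.l]; group)
    have h5 : Tj c = b + Ti b + c := h.inj (mul_right_cancel (b := j) (by
      rw [← hj, ← h.sq_mul he hc, ← hc, ← mul_assoc, hb, mul_assoc, mul_assoc, hb]; group))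
    have h6 : Ti c = c := h.inj (mul_right_cancel (b := e) (by rw [← he, ← hc, mul_assoc]))
    obtain rfl | rfl : c = 0 ∨ c = z := by clear hc kk jj ha hb; revert a b c; decide +kernel
    · exact ⟨_, h.ac_mul v he, h.sq_mul he hc v⟩
    · exact ⟨e, he, hc⟩
  have hj : Ac ι (ρ * e * ρ⁻¹) Tj := hρ.conj he (by decide)
  have hk : Ac ι (ρ * (ρ * e * ρ⁻¹) * ρ⁻¹) Tk := hρ.conj hj (by decide)
  have kk : ρ * (ρ * e * ρ⁻¹) * ρ⁻¹ * (ρ * (ρ * e * ρ⁻¹) * ρ⁻¹) = ι z :=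
    (by group : _ = ρ * (ρ * (e * e) * ρ⁻¹) * ρ⁻¹).trans (by rw [h1, hρ.cj, hρ.cj]; rfl)
  obtain ⟨s, hs⟩ := h.triv ((he.mul hj).mul hk) (by decide)
  have h4 : Ti (R s) = s := h.inj (mul_right_cancel (b := e) (by
    rw [← he, ← hρ.cj, ← hs]
    calc _ = e * (ρ * e * ρ⁻¹) * (ρ * (ρ * e * ρ⁻¹) * ρ⁻¹) * (ρ ^ 3 * e * (ρ ^ 3)⁻¹) := by group
      _ = _ := by simp [h3]))
  obtain rfl | rfl : s = 0 ∨ s = z := by clear hs; revert s; decide
  · refine ⟨_, h.ac_mul z he, h.sq_mul he h1 z, ?_⟩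
    have h5 : ρ * (ι z * e) * ρ⁻¹ = ι z * (ρ * e * ρ⁻¹) := by rw [hρ.l]; exact mul_assoc _ _ _
    rw [h5, mul_assoc, he.l, h.l, hρ.l, mul_assoc (ι (R z))]
    exact mul_right_cancel (b := ρ * (ρ * e * ρ⁻¹) * ρ⁻¹) (by rw [mul_assoc, hs, mul_assoc (ι (R z)), kk, ← h.add, ← h.add]; rfl)
  · exact ⟨e, he, h1, mul_right_cancel (hs.trans kk.symm)⟩

end Co

end CL.ON3.FrJ
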