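/-
helper60: job ON3-FR.
-/
import Cfsg.Agent.ON3.Fr1

set_option autoImplicit false
open Cfsg Subgroup CL.Even

namespace CL.ON3

universe u

namespace FrJ

variable {G : Type*} [Group G] {V : Subgroup G} {ι : W → G}

theorem rank_le (hr : PRankLE 2 3 G) {S : Set G} (hc : ∀ a ∈ S, ∀ b ∈ S, a * b = b * a) (hs : ∀ a ∈ S, a * a = 1) :
    Nat.card (closure S) ≤ 8 := by
  have := isMulCommutative_closure hc
  refine hr _ this fun a ha => closure_induction (fun a ha => (sq a).trans (hs a ha)) (one_pow _)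
    (fun a b ha hb e e' => ?_) (fun a _ e => by rw [inv_pow, e, inv_one]) ha
  rw [(show Commute a b from congrArg Subtype.val (this.is_comm.comm (⟨a, ha⟩ : closure S) ⟨b, hb⟩)).mul_pow, e, e', mul_one]

theorem Co.uniq (h : Co V ι) {m : G} {T T' : W → W} (h1 : Ac ι m T) (h2 : Ac ι m T') (w : W) : T w = T' w :=
  h.inj ((h1.cj w).symm.trans (h2.cj w))

theorem Co.no16 [Finite G] (h : Co V ι) (hr : PRankLE 2 3 G) {a b : G} (ha : Ac ι a Ti) (hb : Ac ι b X) (aa : a * a = 1)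
    (bb : b * b = 1) (ab : a * b = b * a) : False := by
  have h1 := rank_le hr (S := {ι z, ι u, a, b}) (by
    have := ha z; have := ha u; have := hb z; have := hb u; have := h.ac z u
    simp_all [L]) (by simp [h.sq, aa, bb])
  let F : (ZMod 2 × ZMod 2) × Fin 2 × Fin 2 → closure {ι z, ι u, a, b} := fun p => ⟨ι (p.1.1, p.1.2, 0) * (a ^ p.2.1.val *
    b ^ p.2.2.val), mul_mem (by
      rw [show (p.1.1, p.1.2, 0) = p.1.1.val • z + p.1.2.val • u by revert p; decide, h.add, h.nsmul, h.nsmul]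
      exact mul_mem (pow_mem (subset_closure (by simp)) _) (pow_mem (subset_closure (by simp)) _))
      (mul_mem (pow_mem (subset_closure (by simp)) _) (pow_mem (subset_closure (by simp)) _))⟩
  have h2 := Nat.card_le_card_of_injective F fun p q e => by
    replace e : ι (p.1.1, p.1.2, 0) * (a ^ p.2.1.val * b ^ p.2.2.val) = ι (q.1.1, q.1.2, 0) * (a ^ q.2.1.val * b ^ q.2.2.val) :=
      congrArg Subtype.val e
    have h3 : p.2 = q.2 := by
      have := h.uniq (h.ac_mul _ ((ha.pow p.2.1).mul (hb.pow p.2.2))) (e ▸ h.ac_mul _ ((ha.pow q.2.1).mul (hb.pow q.2.2))) v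
      clear e; revert p q; decide +kernel
    have := h.inj (mul_right_cancel (h3 ▸ e :))
    exact Prod.ext (by simpa [Prod.ext_iff] using this) h3
  simp at h2
  omega

theorem Co.exists_x [Finite G] (h : Co V ι) (hr : PRankLE 2 3 G) {i j : G} (hi : Ac ι i Ti) (hj : Ac ι j Tj)
    (ii : i * i = ι z) (jj : j * j = ι z) (kk : i * j * (i * j) = ι z) (ij : i * j * i⁻¹ = ι z * j) :
    ∃ x, Ac ι x X ∧ x * x = ι u ∧ x * i * x⁻¹ = i ∧ x * j * x⁻¹ = i * j := by
  obtain ⟨g, hg⟩ := h.move u z v (by decide)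
  obtain ⟨g', hg'⟩ := h.move (z + u) u v (by decide)
  have hx : Ac ι (g * i * g⁻¹) X := hg.conj hi (by decide)
  have hy : Ac ι (g' * i * g'⁻¹) (L z u (v + z + u)) := hg'.conj hi (by decide)
  have xx : g * i * g⁻¹ * (g * i * g⁻¹) = ι u := (by group : _ = g * (i * i) * g⁻¹).trans (by rw [ii, hg.cj]; rfl)
  have yy : g' * i * g'⁻¹ * (g' * i * g'⁻¹) = ι (z + u) := (by group : _ = g' * (i * i) * g'⁻¹).trans (by rw [ii, hg'.cj]; rfl)
  generalize g * i * g⁻¹ = x at hx xx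
  generalize g' * i * g'⁻¹ = y at hy yy
  have aa : ι v * i * (ι v * i) = 1 := (h.sq_mul hi ii v).trans h.zero
  have bb : ι v * x * (ι v * x) = 1 := (h.sq_mul hx xx v).trans h.zero
  obtain ⟨w, hw⟩ := h.diff ((h.ac_mul v hi).mul (h.ac_mul v hx)) hy (by decide)
  have h1 := h.sq_mul hy yy w
  rw [← hw] at h1
  have xi : x * i * x⁻¹ = i := by
    rcases (by clear hw h1; revert w; decide : w + L z u (v + z + u) w + (z + u) = 0 ∨
      w + L z u (v + z + u) w + (z + u) = z + u) with e | e <;> rw [e] at h1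
    · exact (h.no16 hr (h.ac_mul v hi) (h.ac_mul v hx) aa bb (by
        rw [← inv_eq_of_mul_eq_one_right (h1.trans h.zero), mul_inv_rev, inv_eq_of_mul_eq_one_right aa,
          inv_eq_of_mul_eq_one_right bb])).elim
    · simp only [mul_assoc, hi.l, hx.l, h.l] at h1
      have h2 : i * (x * (i * x)) = ι (z + u) := by rw [← h1]; exact ((congrArg (· * _) h.zero).trans (one_mul _)).symm
      rw [mul_inv_eq_iff_eq_mul]
      refine mul_left_cancel (a := i) (mul_right_cancel (b := x) ?_)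
      rw [mul_assoc, mul_assoc, h2, ← mul_assoc i i, ii, mul_assoc, xx, h.add]
  have hk : Ac ι (i * j) Tk := (hi.mul hj).congr (by decide)
  obtain ⟨w, hw⟩ := h.diff (hx.conj (T' := Tk) hj (by decide)) hk fun _ => rfl
  have h2 : w + Tk w + z = z := h.inj (by
    rw [← h.sq_mul hk kk, ← hw]; exact (by group : _ = x * (j * j) * x⁻¹).trans (by rw [jj, hx.cj]; rfl))
  have h3 : Ti w + z = z + w := h.inj (mul_right_cancel (b := i * j) (by
    calc _ = i * (ι w * (i * j)) * i⁻¹ := by rw [hi.l, mul_assoc, mul_assoc i, ij, hi.l, h.l]; rfl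
      _ = x * (i * j * i⁻¹) * x⁻¹ := by rw [← hw]; conv_lhs => rw [← xi]
                                        group
      _ = _ := by rw [ij, hx.l, mul_assoc, hw, h.l]; rfl))
  obtain rfl | rfl : w = 0 ∨ w = z := by clear hw; revert w; decide
  · exact ⟨x, hx, xx, xi, by rw [hw, h.zero, one_mul]⟩
  · refine ⟨_, h.ac_mul u hx, h.sq_mul hx xx u, ?_, ?_⟩
    · rw [mul_inv_rev, h.inv, mul_assoc, mul_assoc, ← mul_assoc i, ← mul_assoc x, ← mul_assoc x, xi, hi, h.l]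
      exact (congrArg (· * _) h.zero).trans (one_mul _)
    · rw [mul_inv_rev, h.inv, mul_assoc, mul_assoc, ← mul_assoc j, ← mul_assoc x, ← mul_assoc x, hw, mul_assoc, hk, h.l, h.l]
      exact (congrArg (· * _) h.zero).trans (one_mul _)

/-- the action of `Q₈` on `V` -/
def Tq : Q8 → W → W
  | .a n => Ti^[n.val]
  | .xa n => Tj ∘ Ti^[n.val]

/-- the diagonal -/
def gq : Q8 → W
  | .a n => n.val • u
  | .xa n => v + n.val • u

theorem map_q8 (f : Q8 →* G) (a b c : Q8) : f (Transfer.q8Fun a b c) = Transfer.q8Fun (f a) (f b) c := by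
  cases c <;> simp only [Transfer.q8Fun, map_mul, map_pow]

theorem Co.exists_f (h : Co V ι) {i j x ρ : G} (hi : Ac ι i Ti) (hj : Ac ι j Tj) (ii : i * i = ι z)
    (r1 : ρ * i * ρ⁻¹ = j) (r2 : ρ * j * ρ⁻¹ = i * j) (jj : j * j = ι z) (ij : i * j * i⁻¹ = ι z * j) (x1 : x * i * x⁻¹ = i)
    (x2 : x * j * x⁻¹ = i * j) : ∃ f : Q8 →* G, f qi = i ∧ f qj = j ∧ f qm = ι z ∧ (∀ a, Ac ι (f a) (Tq a)) ∧
      Function.Injective f ∧ (∀ a, ρ * f a * ρ⁻¹ = f (th a)) ∧ ∀ a, x * f a * x⁻¹ = f (xi a) := by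
  let f : Q8 →* G := SL2.quaternionHom (n := 2) i j (by rw [pow_mul, pow_two i, ii, pow_two, h.sq]) (by rw [pow_two, ii, jj]) (by
    rw [mul_inv_eq_iff_eq_mul, eq_inv_mul_iff_mul_eq, ← mul_assoc, mul_inv_eq_iff_eq_mul.1 ij, mul_assoc, mul_assoc, ii, hj,
      h.l]
    exact (congrArg (· * _) h.zero).trans (one_mul _))
  have f1 : f qi = i := pow_one i
  have f2 : f qj = j := (congrArg (j * ·) (pow_zero i)).trans (mul_one j)
  have f3 : f qm = ι z := (pow_two i).trans ii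
  have f4 : ∀ a, Ac ι (f a) (Tq a) := by
    rintro (n | n)
    exacts [hi.pow _, hj.mul (hi.pow _)]
  refine ⟨f, f1, f2, f3, f4, (injective_iff_map_eq_one f).2 fun a e => ?_, fun a => ?_, fun a => ?_⟩
  · have h1 := h.uniq (f4 a) (T' := id) (e ▸ fun w => by simp)
    obtain rfl | rfl : a = 1 ∨ a = qm := by clear e; revert a; decide
    · rfl
    · exact absurd (h.inj ((f3.symm.trans e).trans h.zero.symm)) (by decide)
  · rw [th, map_q8, qk, map_mul, f1, f2]
    exact (Transfer.map_q8Fun ((MulAut.conj ρ).toMonoidHom.comp f) a).trans (congrArg₂ (Transfer.q8Fun · · a)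
      (show ρ * f qi * ρ⁻¹ = _ by rw [f1, r1]) (show ρ * f qj * ρ⁻¹ = _ by rw [f2, r2]))
  · rw [xi, map_q8, qk, map_mul, f1, f2]
    exact (Transfer.map_q8Fun ((MulAut.conj x).toMonoidHom.comp f) a).trans (congrArg₂ (Transfer.q8Fun · · a)
      (show x * f qi * x⁻¹ = _ by rw [f1, x1]) (show x * f qj * x⁻¹ = _ by rw [f2, x2]))

end FrJ

open FrJ

set_option synthInstance.maxSize 2000 in
theorem frThm : FrThm.{u} := fun G _ _ V hr hF cV => by
  obtain ⟨ι, h⟩ := exists_co hF cV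
  obtain ⟨ρ, hρ, ρ3⟩ := h.exists_rho
  obtain ⟨i, hi, ii, r2⟩ := h.exists_i hρ ρ3
  obtain ⟨j, r1⟩ : ∃ j, ρ * i * ρ⁻¹ = j := ⟨_, rfl⟩
  have hj : Ac ι j Tj := r1 ▸ hρ.conj hi (by decide)
  have jj : j * j = ι z := by rw [← r1]; exact (by group : _ = ρ * (i * i) * ρ⁻¹).trans (by rw [ii, hρ.cj]; rfl)
  rw [r1] at r2
  have kk : i * j * (i * j) = ι z := by rw [r2]; exact (by group : _ = ρ * (j * j) * ρ⁻¹).trans (by rw [jj, hρ.cj]; rfl)
  have ij : i * j * i⁻¹ = ι z * j := by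
    refine mul_right_cancel (b := i * (i * j)) ?_
    rw [mul_assoc, inv_mul_cancel_left, kk, ← mul_assoc i i, ii, mul_assoc, hj.l, jj, h.l, ← h.add]; rfl
  obtain ⟨x, hx, xx, x1, x2⟩ := h.exists_x hr hi hj ii jj kk ij
  have cjj : ∀ {g m : G} {T : W → W}, Ac ι g T → ∀ w, g * (ι w * m) * g⁻¹ = ι (T w) * (g * m * g⁻¹) := fun hg w => by
    rw [hg.l, mul_assoc]
  have k2 : ι (u + z) * i * (ι (v + z) * j) = ι (u + v + z) * (i * j) := by rw [mul_assoc, hi.l, h.l]; rfl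
  obtain ⟨f, f1, f2, f3, f4, f5, f6, f7⟩ := h.exists_f hi hj ii r1 r2.symm jj ij x1 x2
  obtain ⟨g, g1, g2, g3, g4, g5, g6, g7⟩ := h.exists_f (x := x) (ρ := ρ) (h.ac_mul (u + z) hi) (h.ac_mul (v + z) hj)
    (h.sq_mul hi ii _) (by rw [cjj hρ, r1]; rfl) (by rw [cjj hρ, ← r2, k2]; rfl) (h.sq_mul hj jj _) (by
      rw [k2, mul_inv_rev, h.inv, ← mul_assoc, mul_assoc (ι _), ij, h.l, mul_assoc, hj, h.l, h.l]; rfl)
    (by rw [cjj hx, x1]; rfl) (by rw [cjj hx, x2, k2]; rfl)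
  have ji : j * i = ι z * (i * j) := by rw [mul_inv_eq_iff_eq_mul.1 ij, ← mul_assoc, ← mul_assoc, h.sq, one_mul]
  have c1 : Commute i (g qi) := by rw [g1]; exact (hi.l _ _).trans (mul_assoc _ _ _).symm
  have c2 : Commute i (g qj) := by rw [g2]; exact (hi.l _ _).trans (by rw [mul_assoc, ji, h.l]; rfl)
  have c3 : Commute j (g qi) := by rw [g1]; exact (hj.l _ _).trans (by rw [mul_assoc, ji, h.l]; rfl)
  have c4 : Commute j (g qj) := by rw [g2]; exact (hj.l _ _).trans (mul_assoc _ _ _).symm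
  have gen : ∀ (f : Q8 →* G) {t}, Commute t (f qi) → Commute t (f qj) → ∀ a, Commute t (f a) := fun f t a b c => by
    rw [Transfer.map_q8Fun]
    cases c
    exacts [a.pow_right _, b.mul_right (a.pow_right _)]
  have comm : ∀ a b, Commute (f a) (g b) := fun a b =>
    (gen f (f1 ▸ gen g c1 c2 b).symm (f2 ▸ gen g c3 c4 b).symm a).symm
  have d1 : f qi * g qi = ι u := by rw [f1, g1, hi.l, ii, ← h.add]; rfl
  have d2 : f qj * g qj = ι v := by rw [f2, g2, hj.l, jj, ← h.add]; rfl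
  have dg : ∀ a, f a * g a = ι (gq a) := fun a => by
    have := Transfer.map_q8Fun (MonoidHom.noncommCoprod f g comm |>.comp (MonoidHom.prod (.id _) (.id _))) a
    cases a
    · exact this.trans (by rw [gq, h.nsmul, ← d1]; rfl)
    · exact this.trans (by rw [gq, h.add, h.nsmul, ← d1, ← d2]; rfl)
  have memV : ∀ t, t ∈ V ↔ ∃ a, t = f a * g a ∨ t = f a * g a * f qm := fun t => by
    simp only [dg, f3, ← h.add, h.mem]
    refine ⟨?_, fun ⟨a, e⟩ => e.elim (⟨_, ·.symm⟩) (⟨_, ·.symm⟩)⟩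
    rintro ⟨w, rfl⟩
    obtain ⟨a, e⟩ : ∃ a, w = gq a ∨ w = gq a + z := by revert w; decide
    exact ⟨a, e.imp (congrArg ι) (congrArg ι)⟩
  have fQ : ∀ a, f a ∈ QQ ![f, g] := fun a => mem_sup_left ⟨a, rfl⟩
  have VQ : ∀ w, ι w ∈ QQ ![f, g] := fun w => by
    obtain ⟨a, e | e⟩ := (memV _).1 (h.memV w) <;> rw [e]
    exacts [mul_mem_sup ⟨a, rfl⟩ ⟨a, rfl⟩, mul_mem (mul_mem_sup ⟨a, rfl⟩ ⟨a, rfl⟩) (fQ _)]
  refine ⟨![f, g], x, ρ, hF, cV, Fin.forall_fin_two.2 ⟨f5, g5⟩, comm, g3.trans f3.symm, fun a b e => ?_, memV,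
    fun t ht => ?_, Fin.forall_fin_two.2 ⟨f6, g6⟩, ρ3, Fin.forall_fin_two.2 ⟨f7, g7⟩, xx.trans d1.symm, fun y hy => ?_,
    fun t ht tt => ?_, fun t ht t1 => ?_⟩
  · have h1 : ∀ c, c * a = a * c := fun c => f5 (by rw [map_mul, map_mul, show f a = g b from e, (comm c b).eq])
    clear e; revert a; decide
  · obtain ⟨w, rfl⟩ := (h.mem t).1 (cV (mem_centralizer_iff.2 fun s hs => by
      obtain ⟨w, rfl⟩ := (h.mem s).1 hs
      exact mem_centralizer_iff.1 ht _ (VQ w)))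
    have h1 := h.inj (mul_right_cancel ((f4 qi w).symm.trans (mem_centralizer_iff.1 ht _ (fQ qi))))
    have h2 := h.inj (mul_right_cancel ((f4 qj w).symm.trans (mem_centralizer_iff.1 ht _ (fQ qj))))
    obtain rfl | rfl : w = 0 ∨ w = z := by clear ht; revert w; decide
    exacts [.inl h.zero, .inr f3.symm]
  · obtain ⟨a, b, c, h1, h2⟩ := h.exists_ac hy.1
    have h3 : L a b c z = z := h.inj (mul_right_cancel ((h2 z).symm.trans (f3 ▸ mem_centralizer_singleton_iff.1 hy.2 :)))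
    obtain ⟨q, n, m, e⟩ : ∃ (q : Q8) (n : Fin 3) (m : Fin 2), ∀ w, L a b c w = (Tq q ∘ R^[n] ∘ X^[m]) w := by
      clear h2; revert a b c; decide +kernel
    obtain ⟨w, rfl⟩ := h.diff h2 ((f4 q).mul ((hρ.pow n).mul (hx.pow m))) e
    exact mul_mem (mem_sup_left (VQ w)) (mul_mem_sup (fQ q)
      (mul_mem (pow_mem (subset_closure (by simp)) _) (pow_mem (subset_closure (by simp)) _)))
  · obtain ⟨a, b, c, -, h2⟩ := h.exists_ac ht
    have h3 := h.uniq (h2.mul h2) (T' := id) (tt ▸ fun w => by simp)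
    obtain ⟨s, hs⟩ := h.move u v (z + u) (by decide)
    obtain ⟨n, q, e⟩ : ∃ (n : Fin 7) (q : Q8), ∀ w, ∃ w', (L u v (z + u))^[n] w' = w ∧
        (L u v (z + u))^[n] (L a b c w') = Tq q w := by
      clear h2; revert a b c; decide +kernel
    obtain ⟨w, e⟩ := h.diff ((hs.pow n).conj h2 e) (f4 q) fun _ => rfl
    exact ⟨_, h.norm (hs.pow n), e ▸ mul_mem (VQ w) (fQ q)⟩
  · obtain ⟨w, rfl⟩ := (h.mem t).1 ht
    obtain ⟨s, hs⟩ := h.move u v (z + u) (by decide)
    obtain ⟨n, e⟩ : ∃ n : Fin 7, (L u v (z + u))^[n] w = z := by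
      have : w ≠ 0 := fun e => t1 (e ▸ h.zero)
      clear ht t1; revert w; decide
    exact ⟨_, h.norm (hs.pow n), by rw [(hs.pow n).cj, e]; exact f3.symm⟩

end CL.ON3
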