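/-
ON3-HOM: the centralizer of `V ≅ 2³` is homocyclic.
-/
import Cfsg.Agent.ON3.Defs
import Cfsg.Agent.Fgs.TransInv
import Cfsg.Agent.Grp.PGroupBasic
import Cfsg.Agent.S0056

set_option autoImplicit false
set_option linter.unusedSectionVars false
open Cfsg Subgroup CL.Even
open scoped commutatorElement IsMulCommutative

namespace CL.ON3

universe u

namespace Homj

section Mat
open Matrix

abbrev M3 := Matrix (Fin 3) (Fin 3) (ZMod 2)

/-- nine matrices of order 7 that span the matrix algebra -/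
def sing : List M3 := [!![0, 0, 1; 0, 1, 1; 1, 1, 0], !![0, 0, 1; 0, 1, 1; 1, 1, 1], !![0, 0, 1; 1, 0, 0; 0, 1, 1],
  !![0, 0, 1; 1, 0, 0; 1, 1, 0], !![0, 0, 1; 1, 0, 1; 0, 1, 0], !![0, 0, 1; 1, 1, 0; 0, 1, 0],
  !![0, 1, 0; 0, 0, 1; 1, 0, 1], !![0, 1, 0; 0, 0, 1; 1, 1, 0], !![1, 0, 1; 0, 0, 1; 1, 1, 0]]

set_option maxRecDepth 100000 in
theorem sing_spec : ∀ s ∈ sing, s ^ 7 = 1 ∧ ∀ v : Fin 3 → ZMod 2, s *ᵥ v = v → v = 0 := by decide +kernel

set_option maxRecDepth 100000 in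
theorem sing_span : ∀ a b c d e f g h i : ZMod 2,
    (∀ s ∈ sing, trace (!![a, b, c; d, e, f; g, h, i] * s) = 0) → !![a, b, c; d, e, f; g, h, i] = (0 : M3) := by
  decide +kernel

set_option maxRecDepth 100000 in
theorem sing_trans : ∀ v w : Fin 3 → ZMod 2, v ≠ 0 → w ≠ 0 →
    ∃ i : Fin 7, ((!![0, 0, 1; 0, 1, 1; 1, 1, 0] : M3) ^ i.val) *ᵥ v = w := by decide +kernel

theorem eq_zero_of_sum {m : M3} (h : ∀ s ∈ sing, ∑ i ∈ Finset.range 7, s ^ i * m * s ^ (7 - i) = 0) : m = 0 := by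
  rw [eta_fin_three m]
  refine sing_span _ _ _ _ _ _ _ _ _ fun s hs => ?_
  rw [← eta_fin_three m]
  have h1 := congrArg (fun x => trace (x * s)) (h s hs)
  simp only [Finset.sum_mul, trace_sum, zero_mul, trace_zero] at h1
  rw [Finset.sum_congr rfl (g := fun _ => trace (m * s)) fun i hi => ?_, Finset.sum_const, Finset.card_range,
    nsmul_eq_mul, show ((7 : ℕ) : ZMod 2) = 1 from rfl, one_mul] at h1
  · exact h1
  · rw [mul_assoc, mul_assoc, trace_mul_comm, mul_assoc, mul_assoc, ← pow_succ', ← pow_add,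
      show 7 - i + (i + 1) = 7 + 1 by have := Finset.mem_range.1 hi; omega, pow_succ, (sing_spec s hs).1, one_mul]

/-- The two facts on `GL₃(2)` that are used. -/
theorem lin {Q : Type*} [CommGroup Q] [Finite Q] (h : ∀ x : Q, x ^ 2 = 1) (hc : Nat.card Q = 8) :
    (∀ v w : Q, v ≠ 1 → w ≠ 1 → ∃ α : MulAut Q, α v = w) ∧ ∀ β : Q →* Q,
      (∀ s : MulAut Q, s ^ 7 = 1 → (∀ v, s v = v → v = 1) →
        ∀ v, ∏ i ∈ Finset.range 7, (s ^ i) (β ((s ^ i)⁻¹ v)) = 1) → β = 1 := by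
  classical
  let _ : Module (ZMod 2) (Additive Q) := AddCommGroup.zmodModule (n := 2) fun x => h x.toMul
  have : Module.Finite (ZMod 2) (Additive Q) := Module.Finite.of_finite
  have hV : Module.finrank (ZMod 2) (Additive Q) = 3 := by
    have h1 := Module.natCard_eq_pow_finrank (K := ZMod 2) (V := Additive Q)
    rw [Nat.card_zmod] at h1
    exact (Nat.pow_right_injective le_rfl ((show 2 ^ 3 = Nat.card Q from hc.symm).trans h1)).symm
  let e := (Module.finBasisOfFinrankEq (ZMod 2) (Additive Q) hV).equivFun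
  let c : Q → Fin 3 → ZMod 2 := fun x => e (Additive.ofMul x)
  have hc1 : ∀ x y, c x = c y → x = y := fun x y hxy => e.injective hxy
  have hcm : ∀ x y, c (x * y) = c x + c y := fun x y => e.map_add _ _
  have hc0 : c 1 = 0 := e.map_zero
  -- the automorphism given by a matrix of order 7
  have aut : ∀ s : M3, s ^ 7 = 1 → ∃ α : MulAut Q, ∀ i x, c ((α ^ i) x) = (s ^ i) *ᵥ c x := by
    intro s hs
    let f : Q →* Q := MonoidHom.mk' (fun x => (e.symm (s *ᵥ c x)).toMul) fun x y => by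
      rw [hcm, mulVec_add, map_add]; rfl
    have hf : ∀ x, c (f x) = s *ᵥ c x := fun x => e.apply_symm_apply _
    have hi : Function.Injective f := fun x y hxy => hc1 _ _ (by
      have := congrArg (fun z => s ^ 6 *ᵥ c z) hxy
      simpa only [hf, mulVec_mulVec, ← pow_succ, hs, one_mulVec] using this)
    refine ⟨MulEquiv.ofBijective f (Finite.injective_iff_bijective.1 hi), fun i => ?_⟩
    induction i with
    | zero => simp
    | succ i ih => intro x; rw [pow_succ, MulAut.mul_apply, ih, pow_succ, ← mulVec_mulVec]; congr 1; exact hf x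
  refine ⟨fun v w hv hw => ?_, fun β hβ => ?_⟩
  · obtain ⟨i, hi⟩ := sing_trans (c v) (c w) (fun e => hv (hc1 _ _ (e.trans hc0.symm)))
      fun e => hw (hc1 _ _ (e.trans hc0.symm))
    obtain ⟨α, hα⟩ := aut _ (sing_spec _ List.mem_cons_self).1
    exact ⟨α ^ i.val, hc1 _ _ ((hα _ _).trans hi)⟩
  · let b : Additive Q →ₗ[ZMod 2] Additive Q := (MonoidHom.toAdditive β).toZModLinearMap 2
    let m : M3 := LinearMap.toMatrix' (e.toLinearMap ∘ₗ b ∘ₗ e.symm.toLinearMap)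
    have hm : ∀ x, c (β x) = m *ᵥ c x := fun x => by
      rw [← toLin'_apply, toLin'_toMatrix']
      simp [c, b]
    have hm0 : m = 0 := eq_zero_of_sum fun s hs => by
      obtain ⟨s7, hs1⟩ := sing_spec s hs
      obtain ⟨α, hα⟩ := aut s s7
      have α7 : α ^ 7 = 1 := MulEquiv.ext fun x => hc1 _ _ (by rw [hα, s7, one_mulVec]; rfl)
      have h1 := hβ α α7 fun v hv => hc1 _ _ ((hs1 _ (by rw [← pow_one s, ← hα, pow_one, hv])).trans hc0.symm)
      refine ext_of_mulVec_single fun j => ?_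
      obtain ⟨v, hv⟩ : ∃ v, c v = Pi.single j 1 := ⟨(e.symm (Pi.single j 1)).toMul, e.apply_symm_apply _⟩
      have h2 : c (∏ i ∈ Finset.range 7, (α ^ i) (β ((α ^ i)⁻¹ v))) =
          ∑ i ∈ Finset.range 7, c ((α ^ i) (β ((α ^ i)⁻¹ v))) :=
        map_prod (MonoidHom.mk' (fun x => Multiplicative.ofAdd (c x)) hcm) _ _
      rw [h1, hc0] at h2
      rw [zero_mulVec, h2, sum_mulVec, ← hv]
      refine Finset.sum_congr rfl fun i hi => ?_
      have h3 : (α ^ i)⁻¹ = α ^ (7 - i) := inv_eq_of_mul_eq_one_right (by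
        rw [← pow_add, Nat.add_sub_cancel' (Finset.mem_range.1 hi).le, α7])
      rw [hα, hm, h3, hα, mulVec_mulVec, mulVec_mulVec]
    exact MonoidHom.ext fun x => hc1 _ _ (by rw [hm, hm0, zero_mulVec]; exact hc0.symm)

end Mat

/-- Fixed points of a fixed-point-free automorphism on a quotient. -/
theorem fpf {B Q : Type*} [Group B] [Finite B] [CommGroup Q] (c : MulAut B) (hc : ∀ x, c x = x → x = 1)
    (D : B →* Q →* Q) (s : MulAut Q) (s7 : s ^ 7 = 1) (h : ∀ x v, D (c x) v = s (D x (s⁻¹ v))) (x : B) (v : Q) :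
    ∏ i ∈ Finset.range 7, (s ^ i) (D x ((s ^ i)⁻¹ v)) = 1 := by
  have h1 : ∀ i v, D ((c ^ i) x) v = (s ^ i) (D x ((s ^ i)⁻¹ v)) := by
    intro i
    induction i with
    | zero => simp
    | succ i ih => intro v; rw [pow_succ', MulAut.mul_apply, h, ih, pow_succ', mul_inv_rev]; rfl
  have h2 : ∀ n, ∃ z, ∀ v, D z v = ∏ i ∈ Finset.range n, (s ^ i) (D x ((s ^ i)⁻¹ v)) := by
    intro n
    induction n with
    | zero => exact ⟨1, by simp⟩
    | succ n ih =>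
      obtain ⟨z, hz⟩ := ih
      exact ⟨z * (c ^ n) x, fun v => by rw [map_mul, MonoidHom.mul_apply, hz, h1, Finset.prod_range_succ]⟩
  obtain ⟨z, hz⟩ := h2 7
  have h3 : D (c z) = D z := MonoidHom.ext fun v => by
    have e1 := Finset.prod_range_succ (fun i => (s ^ i) (D x ((s ^ i)⁻¹ v))) 7
    have e2 := Finset.prod_range_succ' (fun i => (s ^ i) (D x ((s ^ i)⁻¹ v))) 7
    rw [s7] at e1
    rw [pow_zero, e1, mul_left_inj] at e2
    rw [h, hz, hz, e2, map_prod]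
    refine Finset.prod_congr rfl fun i _ => ?_
    rw [pow_succ', mul_inv_rev]; rfl
  have hi : ∀ a b : B, a⁻¹ * c a = b⁻¹ * c b → a = b := fun a b e => by
    have : c (a * b⁻¹) = a * b⁻¹ := by
      rw [map_mul, map_inv, mul_inv_eq_iff_eq_mul, mul_assoc, ← e, mul_inv_cancel_left]
    exact mul_inv_eq_one.1 (hc _ this)
  let f : D.ker → D.ker := fun k => ⟨(k : B)⁻¹ * c k, mul_mem (inv_mem k.2) (MonoidHom.ext fun v => by
    rw [h, show D k = 1 from k.2]; simp)⟩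
  obtain ⟨k, hk⟩ := Finite.surjective_of_injective (f := f)
    (fun a b e => Subtype.ext (hi _ _ (congrArg Subtype.val e))) ⟨z⁻¹ * c z, by
      rw [MonoidHom.mem_ker, map_mul, map_inv, h3, inv_mul_cancel]⟩
  have h4 : (k : B) = z := hi _ _ (congrArg Subtype.val hk)
  rw [← hz, ← h4, show D k = 1 from k.2]
  rfl

theorem root {A : Type*} [CommGroup A] {a : ℕ} (h : ∀ v : A, v ^ 2 = 1 → ∃ w, w ^ 2 ^ a = v) :
    ∀ j k, j + k = a + 1 → ∀ y : A, y ^ 2 ^ j = 1 → ∃ w, w ^ 2 ^ k = y := by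
  intro j
  induction j with
  | zero => intro k _ y hy; exact ⟨1, by simpa using hy.symm⟩
  | succ j ih =>
    intro k hk y hy
    obtain ⟨w, hw⟩ := h (y ^ 2 ^ j) (by rw [← pow_mul, ← pow_succ, hy])
    obtain ⟨u, hu⟩ := ih (k + 1) (by omega) (y * (w ^ 2 ^ k)⁻¹) (by
      rw [mul_pow, inv_pow, ← pow_mul, ← pow_add, show k + j = a by omega, hw, mul_inv_cancel])
    exact ⟨u ^ 2 * w, by rw [mul_pow, ← pow_mul, ← pow_succ', hu, inv_mul_cancel_right]⟩

theorem exists_min {P : ℕ → Prop} (h : ∃ n, P n) (h0 : ¬ P 0) : ∃ n, P (n + 1) ∧ ¬ P n := by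
  classical
  obtain ⟨n, hn⟩ := Nat.exists_eq_succ_of_ne_zero (n := Nat.find h) fun e => h0 (e ▸ Nat.find_spec h)
  exact ⟨n, (show n + 1 = Nat.find h from hn.symm) ▸ Nat.find_spec h, Nat.find_min h (by omega)⟩

variable {X : Type u} [Group X] [Finite X] {V : Subgroup X}

theorem ab (hF : Full V) : V ≤ 𝒞(V) := fun x hx => mem_centralizer_iff.2 fun y hy => by
  have h1 := hF.sq _ (mul_mem hy hx)
  rw [← inv_eq_of_mul_eq_one_right h1, mul_inv_rev, inv_eq_of_mul_eq_one_right (hF.sq _ hx),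
    inv_eq_of_mul_eq_one_right (hF.sq _ hy)]

theorem memV (hr : PRankLE 2 3 X) (hF : Full V) {x : X} (hx : x ∈ 𝒞(V)) (h : x * x = 1) : x ∈ V := by
  have h1 : IsElementaryAbelian 2 (V ⊔ zpowers x : Subgroup X) :=
    elem_sup (elem_iff.2 ⟨ab hF, fun a ha => by rw [sq, hF.sq a ha]⟩)
      (elem_iff.2 ⟨le_centralizer _, by
        rintro _ ⟨k, rfl⟩
        rw [← zpow_natCast, ← zpow_mul, mul_comm, zpow_mul, zpow_natCast, sq, h, one_zpow]⟩)
      (le_centralizer_iff.1 (zpowers_le.2 hx))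
  have h2 := hr _ (le_centralizer_iff_isMulCommutative.1 (elem_iff.1 h1).1) (elem_iff.1 h1).2
  rw [eq_of_le_of_card_ge (le_sup_left : V ≤ V ⊔ zpowers x) (by rw [hF.card]; exact h2)]
  exact mem_sup_right (mem_zpowers x)

theorem trans (hF : Full V) {v w : X} (hv : v ∈ V) (hw : w ∈ V) (v1 : v ≠ 1) (w1 : w ≠ 1) :
    ∃ m : X, m * v * m⁻¹ = w := by
  have := le_centralizer_iff_isMulCommutative.1 (ab hF)
  obtain ⟨α, hα⟩ := (lin (Q := V) (fun x => Subtype.ext (by rw [sq]; exact hF.sq x x.2)) hF.card).1 ⟨v, hv⟩ ⟨w, hw⟩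
    (fun e => v1 (congrArg Subtype.val e)) fun e => w1 (congrArg Subtype.val e)
  obtain ⟨m, -, hm⟩ := hF.aut α
  exact ⟨m, (hm ⟨v, hv⟩).trans (congrArg Subtype.val hα)⟩

theorem ne_bot (hF : Full V) : V ≠ ⊥ := fun e => by
  have := hF.card
  rw [e, card_bot] at this
  omega

theorem core_le [V.Normal] (hF : Full V) : pCore 2 X ≤ 𝒞(V) := by
  have hV : V ≤ pCore 2 X := le_pCore_of ‹_› (IsPGroup.of_card (n := 3) hF.card)
  have := (pCore_isP (p := 2) (G := X)).isNilpotent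
  obtain ⟨⟨v, hv, hz⟩, v1⟩ := ne_bot_iff_exists_ne_one.1 (CL.Grp.inf_center_ne_bot (N := V.subgroupOf (pCore 2 X))
    fun e => ne_bot hF (by rw [subgroupOf_eq_bot] at e; exact e.eq_bot_of_le hV))
  have v1' : (v : X) ≠ 1 := fun e => v1 (Subtype.ext (Subtype.ext e))
  refine fun x hx => mem_centralizer_iff.2 fun w hw => ?_
  by_cases w1 : w = 1
  · simp [w1]
  obtain ⟨m, rfl⟩ := trans hF hv hw v1' w1
  have h1 : m⁻¹ * x * m * v = v * (m⁻¹ * x * m) :=
    congrArg Subtype.val (mem_center_iff.1 hz ⟨_, (inferInstance : (pCore 2 X).Normal).conj_mem' x hx m⟩)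
  calc m * v * m⁻¹ * x = m * (v * (m⁻¹ * x * m)) * m⁻¹ := by group
    _ = x * (m * v * m⁻¹) := by rw [← h1]; group

/-- the preimage of `Ω₁ Z(C/A)` -/
theorem step {A C : Subgroup X} [A.Normal] [C.Normal] (hC : IsPGroup 2 C) (hAC : A ≤ C) (h : ¬ C ≤ A) :
    ∃ B : Subgroup X, B.Normal ∧ A ≤ B ∧ B ≤ C ∧ ¬ B ≤ A ∧ (∀ x ∈ B, x * x ∈ A) ∧ ⁅B, B⁆ ≤ A := by
  let π := QuotientGroup.mk' A
  have hπ : ∀ x, π x = 1 ↔ x ∈ A := fun x => QuotientGroup.eq_one_iff x
  have hn : (C.map π).Normal := Normal.map ‹_› _ (QuotientGroup.mk'_surjective A)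
  have hz : (omegaOneCenter 2 (C.map π)).Normal :=
    normal_iff_top_le.2 (le_norm_ozc (normal_iff_top_le.1 hn))
  refine ⟨C ⊓ (omegaOneCenter 2 (C.map π)).comap π, inferInstance, fun x hx => ⟨hAC hx, ?_⟩, inf_le_left,
    fun hB => ?_, fun x hx => ?_, commutator_le.2 fun x hx y hy => ?_⟩
  · change π x ∈ omegaOneCenter 2 (C.map π)
    rw [(hπ x).2 hx]; exact one_mem _
  · refine ozc_ne_bot (hC.map π) (fun e => h fun x hx => (hπ x).1 (mem_bot.1 (e ▸ mem_map_of_mem π hx)))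
      ((eq_bot_iff_forall _).2 fun y hy => ?_)
    obtain ⟨x, hx, rfl⟩ := ozc_le _ hy
    exact (hπ x).2 (hB ⟨hx, hy⟩)
  · rw [← hπ, map_mul, ← sq]
    exact (mem_ozc.1 hx.2).2.2
  · rw [← hπ, map_commutatorElement, commutatorElement_eq_one_iff_mul_comm]
    exact (comm_of_mem (mem_ozc.1 hx.2).2.1 (mem_map_of_mem π hy.1)).symm

section
variable {A : Subgroup X} [A.Normal] [IsMulCommutative A]

theorem pw (hr : PRankLE 2 3 X) (hF : Full V) (hA : A ≤ 𝒞(V)) (x y : A) (x1 : x ≠ 1) (hx : x ^ 2 = 1)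
    (hy : y ^ 2 = 1) (n : ℕ) : (∃ w, w ^ n = x) → ∃ w, w ^ n = y := by
  rintro ⟨w, rfl⟩
  by_cases y1 : y = 1
  · exact ⟨1, by rw [y1, one_pow]⟩
  obtain ⟨m, hm⟩ := trans hF (memV hr hF (hA (w ^ n).2) (by rw [← sq]; exact congrArg Subtype.val hx))
    (memV hr hF (hA y.2) (by rw [← sq]; exact congrArg Subtype.val hy)) (fun e => x1 (Subtype.ext e))
    fun e => y1 (Subtype.ext e)
  exact ⟨MulAut.conjNormal m w, by rw [← map_pow]; exact Subtype.ext hm⟩

/-- A normal 2-subgroup of `C(V)` centralizes the abelian normal subgroup `A ≥ V`. -/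
theorem cent [V.Normal] (hr : PRankLE 2 3 X) (hF : Full V) (hVA : V ≤ A) {B : Subgroup X} [B.Normal]
    (hB : IsPGroup 2 B) (hAB : A ≤ B) (hBV : B ≤ 𝒞(V)) : B ≤ 𝒞(A) := by
  have := le_centralizer_iff_isMulCommutative.1 (ab hF)
  have hA := hAB.trans hBV
  obtain ⟨N, hN⟩ := IsPGroup.iff_card.1 (hB.to_le hAB)
  have hpow : ∀ y : A, y ^ 2 ^ N = 1 := fun y => by rw [← hN, pow_card_eq_one']
  have hV : ∀ y : A, y ^ 2 = 1 → (y : X) ∈ V := fun y hy =>
    memV hr hF (hA y.2) (by rw [← sq]; exact congrArg Subtype.val hy)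
  obtain ⟨a, ha, ha'⟩ := exists_min (P := fun n => ∀ y : A, y ^ 2 ^ n = 1) ⟨N, hpow⟩ fun h =>
    ne_bot hF ((eq_bot_iff_forall _).2 fun v hv => by simpa using h ⟨v, hVA hv⟩)
  obtain ⟨y0, hy0⟩ := not_forall.1 ha'
  have surj : ∀ v : A, v ^ 2 = 1 → ∃ w, w ^ 2 ^ a = v := fun v hv =>
    pw hr hF hA _ v hy0 (by rw [← pow_mul, ← pow_succ, ha]) hv _ ⟨y0, rfl⟩
  let δ : X → A →* A := fun x => (MulAut.conjNormal x : MulAut A).toMonoidHom / MonoidHom.id A
  have hδ : ∀ x y, δ x y = MulAut.conjNormal x y / y := fun _ _ => rfl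
  by_contra hne
  obtain ⟨m, hm, hm'⟩ := exists_min (P := fun n => ∀ x ∈ B, ∀ y, δ x y ^ 2 ^ n = 1) ⟨N, fun x _ y => hpow _⟩
    fun h => hne fun x hx => mem_centralizer_iff.2 fun y hy => by
      have h1 := h x hx ⟨y, hy⟩
      rw [pow_zero, pow_one, hδ, div_eq_one] at h1
      exact (mul_inv_eq_iff_eq_mul.1 (congrArg Subtype.val h1)).symm
  have d2 : ∀ x ∈ B, ∀ y, (δ x y ^ 2 ^ m) ^ 2 = 1 := fun x hx y => by rw [← pow_mul, ← pow_succ, hm x hx]
  have d3 : ∀ x ∈ B, ∀ x' ∈ B, ∀ y, δ (x * x') y ^ 2 ^ m = δ x y ^ 2 ^ m * δ x' y ^ 2 ^ m := by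
    intro x hx x' hx' y
    have h1 : δ (x * x') y = δ x y * MulAut.conjNormal x (δ x' y) := by
      rw [hδ, hδ, hδ, map_mul, MulAut.mul_apply, map_div, mul_comm, div_mul_div_cancel]
    rw [h1, mul_pow, ← map_pow (MulAut.conjNormal x : MulAut A)]
    congr 1
    exact Subtype.ext (conj_eq_of_mem (hBV hx) (hV _ (d2 x' hx' y)))
  have d6 : ∀ x ∈ B, ∀ y y' : A, y ^ 2 ^ a = y' ^ 2 ^ a → δ x y ^ 2 ^ m = δ x y' ^ 2 ^ m := by
    intro x hx y y' e
    obtain ⟨w, hw⟩ := root surj a 1 rfl (y / y') (by rw [div_pow, e, div_self'])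
    rw [← div_eq_one, ← div_pow, ← map_div, ← hw, map_pow, pow_one, ← pow_mul, mul_comm, pow_mul, d2 x hx]
  have hr' : ∀ v : V, ∃ w : A, w ^ 2 ^ a = ⟨v, hVA v.2⟩ := fun v =>
    surj _ (Subtype.ext (by rw [sq]; exact hF.sq v v.2))
  choose r hr' using hr'
  let D : B →* V →* V := MonoidHom.mk' (fun x => MonoidHom.mk'
    (fun v => ⟨(δ x (r v) ^ 2 ^ m : A), hV _ (d2 x x.2 _)⟩) fun v v' => Subtype.ext (by
      have := d6 x x.2 (r (v * v')) (r v * r v') (by rw [mul_pow, hr', hr', hr']; rfl)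
      rw [map_mul, mul_pow] at this
      exact congrArg A.subtype this)) fun x x' => MonoidHom.ext fun v => Subtype.ext
        (congrArg A.subtype (d3 x x.2 x' x'.2 (r v)))
  have hD : ∀ (x : B) v, (D x v : X) = (δ x (r v) ^ 2 ^ m : A) := fun _ _ => rfl
  refine hm' fun x hx y => ?_
  have h1 : D ⟨x, hx⟩ = 1 := by
    refine (lin (Q := V) (fun x => Subtype.ext (by rw [sq]; exact hF.sq x x.2)) hF.card).2 _ fun s s7 hs => ?_
    obtain ⟨σ, -, hσ⟩ := hF.aut s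
    refine fpf (MulAut.conjNormal σ) (fun z hz => ?_) D s s7 (fun z v => Subtype.ext ?_) _
    · by_contra z1
      have hz' : σ * z * σ⁻¹ = z := congrArg Subtype.val hz
      obtain ⟨t, ht, t1, tt⟩ := exists_mem_pow_eq_one (p := 2) (U := zpowers (z : X))
        (hB.to_le (zpowers_le.2 z.2)) fun e => z1 (Subtype.ext (zpowers_eq_bot.1 e))
      have tV := memV hr hF (hBV (zpowers_le.2 z.2 ht)) (by rw [← sq, tt])
      refine t1 (congrArg Subtype.val (hs ⟨t, tV⟩ (Subtype.ext ((hσ _).symm.trans ?_))))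
      obtain ⟨k, rfl⟩ := ht
      change σ * (z : X) ^ k * σ⁻¹ = (z : X) ^ k
      rw [← conj_zpow, hz']
    · rw [← hσ, hD, hD, d6 _ (MulAut.conjNormal σ z).2 (r v) (MulAut.conjNormal σ (r (s⁻¹ v))) (by
        rw [← map_pow, hr', hr']
        exact Subtype.ext ((hσ _).trans (by simp)).symm)]
      change _ = ((MulAut.conjNormal σ (δ z (r (s⁻¹ v)) ^ 2 ^ m) : A) : X)
      rw [map_pow, hδ, hδ, map_div]
      congr 3
      exact Subtype.ext (by simp [mul_assoc])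
  have h2 := hD ⟨x, hx⟩ ⟨(y ^ 2 ^ a : A), hV _ (by rw [← pow_mul, ← pow_succ, ha])⟩
  rw [h1, d6 x hx _ y (hr' _)] at h2
  exact Subtype.ext h2.symm

/-- rank and exponent of the homocyclic group -/
theorem homo (hr : PRankLE 2 3 X) (hF : Full V) (hVA : V ≤ A) (hA : A ≤ 𝒞(V)) (h2 : IsPGroup 2 A) :
    ∃ n, 1 ≤ n ∧ Nonempty (A ≃* (Fin 3 → Multiplicative (ZMod (2 ^ n)))) := by
  obtain ⟨n, k, ⟨e⟩⟩ := CL.Fgs.homocyclic_of_pow h2 (pw hr hF hA)
  have h1 : Nat.card {x : A // x ^ 2 = 1} = 8 := by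
    rw [← hF.card]
    exact Nat.card_congr ⟨fun x => ⟨x.1, memV hr hF (hA x.1.2) (by rw [← sq]; exact congrArg Subtype.val x.2)⟩,
      fun v => ⟨⟨v, hVA v.2⟩, Subtype.ext (by rw [sq]; exact hF.sq v v.2)⟩, fun _ => rfl, fun _ => rfl⟩
  have h3 : Nat.card {x : Multiplicative (ZMod (2 ^ n)) // x ^ 2 = 1} = (2 ^ n).gcd 2 := by
    have := IsCyclic.card_powMonoidHom_ker (Multiplicative (ZMod (2 ^ n))) 2
    rw [Nat.card_congr Multiplicative.toAdd, Nat.card_zmod] at this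
    exact this
  rw [Nat.card_congr (e.toEquiv.subtypeEquiv (q := fun f => ∀ i, f i ^ 2 = 1) fun x => by
      rw [← e.map_eq_one_iff, map_pow, funext_iff]; rfl),
    Nat.card_congr (Equiv.subtypePiEquivPi (p := fun _ z => z ^ 2 = 1)), Nat.card_pi, Finset.prod_const, h3,
    Finset.card_univ, Fintype.card_fin] at h1
  rcases n with _ | n
  · simp at h1
  · rw [Nat.gcd_eq_right (dvd_pow_self 2 n.succ_ne_zero)] at h1
    obtain rfl : k = 3 := Nat.pow_right_injective le_rfl h1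
    exact ⟨n + 1, by omega, ⟨e⟩⟩

end

end Homj

open Homj in
theorem homThm_of (h : Cls2Thm.{u}) : HomThm.{u} := by
  intro X _ _ V hc hr hV hF
  have hP := pCore_isP (p := 2) (G := X)
  have hPV := core_le hF
  obtain ⟨A, ⟨hn, hVA, hAP, hab⟩, hmax⟩ := (Set.toFinite
    {A : Subgroup X | A.Normal ∧ V ≤ A ∧ A ≤ pCore 2 X ∧ A ≤ 𝒞(A)}).exists_maximal
    ⟨V, hV, le_rfl, le_pCore_of hV (IsPGroup.of_card (n := 3) hF.card), ab hF⟩
  have := le_centralizer_iff_isMulCommutative.1 hab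
  have h1 : pCore 2 X ⊓ 𝒞(A) ≤ A := by
    by_contra hne
    obtain ⟨B, b1, b2, b3, b4, b5, b6⟩ := step (hP.to_le inf_le_left) (le_inf hAP hab) hne
    exact b4 (hmax ⟨b1, hVA.trans b2, b3.trans inf_le_left, h X V A B hr hV hF hn b1
      (hP.to_le (b3.trans inf_le_left)) hVA b2 (b3.trans inf_le_right) b5 b6⟩ b2)
  have h2 : pCore 2 X ≤ A := (le_inf le_rfl (cent hr hF hVA hP hAP hPV)).trans h1
  have h3 : 𝒞(V) ≤ pCore 2 X := by
    refine le_pCore_of inferInstance (isPGroup_of_coprime fun x hx ho => eq_one_of_coprime_of_mem hP ho (hc ?_))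
    obtain ⟨k, hk⟩ := IsPGroup.iff_card.1 (hP.to_le hAP)
    refine cent_mono h2 (Cfsg.Agent.S0056.result (zpowers x) A le_normalizer_of_normal
      (by rw [Nat.card_zpowers, hk]; exact ho.pow_right k) (fun v hv hp a ha => ?_) (mem_zpowers x))
    have h4 : orderOf v = 2 := (Nat.prime_dvd_prime_iff_eq hp Nat.prime_two).1
      (hp.dvd_of_dvd_pow (hk ▸ A.orderOf_dvd_natCard hv))
    exact (comm_of_mem (zpowers_le.2 hx ha) (memV hr hF (hPV (hAP hv))
      (by rw [← sq, ← h4, pow_orderOf_eq_one]))).symm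
  rw [le_antisymm (h3.trans h2) (hAP.trans hPV)]
  exact homo hr hF hVA (hAP.trans hPV) (hP.to_le hAP)

end CL.ON3
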