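/-
helper60: job ON3-A5.
-/
import Cfsg.Agent.ON3.LS0
import Cfsg.Agent.Perm.SL25Pres

set_option autoImplicit false
open Cfsg Subgroup

namespace CL.ON3

universe u

theorem a5Thm : A5Thm.{u} := fun Γ V Z _ _ _ _ _ _ _ _ ρ q b g h w hw h0 h1 => by
  have hw0 : w ≠ 0 := by rintro rfl; simp at h0
  have uniq : ∀ {i j : Fin 5} {x : V}, (∀ u, b (x - ρ (g ^ i.val) w) u = 0) → (∀ u, b (x - ρ (g ^ j.val) w) u = 0) →
      i = j := fun {i j x} a c => h.orb_inj hw hw0 (sub_eq_zero.1 (h.eq_zero_of_rad hw h0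
        (sub_mem (pow_mem_cmt hw i) (pow_mem_cmt hw j)) fun u => by simpa using congrArg₂ (· - ·) (c u) (a u)))
  choose f hf using h1
  let p : Γ → Fin 5 → Fin 5 := fun γ i => f (γ * g ^ i.val)
  have hp : ∀ γ (i : Fin 5) u, b (ρ γ (ρ (g ^ i.val) w) - ρ (g ^ (p γ i).val) w) u = 0 := fun γ i u => by
    rw [rho_mul]; exact hf _ u
  have p1 : ∀ i, p 1 i = i := fun i => uniq (hp 1 i) (by simp)
  have pm : ∀ γ δ i, p (γ * δ) i = p γ (p δ i) := fun γ δ i => uniq (hp _ i) fun u => by
    simpa [← rho_mul] using congrArg₂ (· + ·) (h.rad_inv (hp δ i) γ u) (hp γ (p δ i) u)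
  let π : Γ →* Equiv.Perm (Fin 5) := MonoidHom.toHomPerm
    { toFun := p, map_one' := funext p1, map_mul' := fun γ δ => funext (pm γ δ) }
  have hker : ∀ γ, π γ = 1 → ρ γ = 1 := fun γ e => h.faith γ fun v => by
    have h2 : cmt (ρ g) ≤ LinearMap.ker (b ∘ₗ ((ρ γ).toLinearMap - LinearMap.id)) := by
      rw [← h.span_orb hw hw0, Submodule.span_le]
      rintro _ ⟨i, rfl⟩
      have := hp γ i
      rw [show p γ i = i from Equiv.congr_fun e i] at this
      exact LinearMap.ext this
    have h3 : cmt (ρ g) ⊔ LinearMap.ker b = ⊤ := h.eq_top (fun δ z hz => by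
      obtain ⟨x, hx, y, hy, rfl⟩ := Submodule.mem_sup.1 hz
      rw [map_add]
      refine add_mem ?_ (Submodule.mem_sup_right (LinearMap.ext (h.rad_inv (LinearMap.congr_fun hy) δ)))
      refine (?_ : cmt (ρ g) ≤ (cmt (ρ g) ⊔ LinearMap.ker b).comap (ρ δ).toLinearMap) hx
      conv_lhs => rw [← h.span_orb hw hw0]
      rw [Submodule.span_le]
      rintro _ ⟨i, rfl⟩
      exact Submodule.mem_sup.2 ⟨_, pow_mem_cmt hw (p δ i), _, LinearMap.ext (hp δ i), by simp⟩) le_sup_left
    obtain ⟨x, hx, y, hy, rfl⟩ := Submodule.mem_sup.1 (h3.ge (Submodule.mem_top (x := v)))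
    intro u
    simpa [add_sub_add_comm, LinearMap.congr_fun hy u, h.rad_inv (LinearMap.congr_fun hy) γ u] using
      LinearMap.congr_fun (h2 hx) u
  refine ⟨π, (eq_of_le_of_card_ge ?_ (not_lt.1 fun e => h.nsol ?_)).symm, hker, hp⟩
  · rw [MonoidHom.range_eq_map, ← h.gen, map_le_iff_le_comap]
    refine normalClosure_le_normal ?_
    rintro _ rfl
    have := congrArg (fun x => Equiv.Perm.sign (π x)) h.g5
    simp only [map_pow, map_one] at this
    exact Equiv.Perm.mem_alternatingGroup.2 ((Int.units_eq_one_or _).resolve_right fun e => by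
      rw [e] at this; exact absurd this (by decide))
  · have : Group.IsSolvable π.range := CL.Perm.isSolvable_of_card_dvd_120
      ((card_subgroup_dvd_card _).trans (by simp [Fintype.card_perm, Nat.factorial])) (by
        rwa [nat_card_alternatingGroup, Nat.card_fin] at e)
    exact Group.isSolvable_of_surjective (f := π.rangeRestrict.liftOfSurjective π.rangeRestrict_surjective
      ⟨ρ.rangeRestrict, fun γ e => Subtype.ext (hker γ (congrArg Subtype.val e))⟩) (by
        rintro ⟨_, γ, rfl⟩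
        exact ⟨π.rangeRestrict γ, Subtype.ext (by simp)⟩)

end CL.ON3
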