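/-
Project ON3, job ON3-CS: a critical subgroup of `O₂(X)`, or a normal `2³` with automizer `L₃(2)`.
-/
import Cfsg.Agent.ON3.Defs
import Cfsg.Agent.Inv.LenA
import Cfsg.Agent.Grp.ThompsonNPC
import Cfsg.Agent.Grp.PGroupCritical

set_option autoImplicit false
open Cfsg Subgroup CL.Even
open scoped commutatorElement

namespace CL.ON3

universe u

namespace CSj

theorem card_aut_comm {Q : Type*} [CommGroup Q] [Finite Q] {r : ℕ} (h : ∀ x : Q, x ^ 2 = 1)
    (hc : Nat.card Q = 2 ^ r) : Nat.card (MulAut Q) = ∏ i ∈ Finset.range r, (2 ^ r - 2 ^ i) := by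
  classical
  let _ : Module (ZMod 2) (Additive Q) := AddCommGroup.zmodModule (n := 2) fun x => h x.toMul
  let φ : MulAut Q →* Module.End (ZMod 2) (Additive Q) :=
    { toFun := fun α => (MonoidHom.toAdditive α.toMonoidHom).toZModLinearMap 2
      map_one' := by ext x; simp
      map_mul' := fun α β => by ext x; simp }
  have : Module.Finite (ZMod 2) (Additive Q) := Module.Finite.of_finite
  have hV : Module.finrank (ZMod 2) (Additive Q) = r := by
    have h1 := Module.natCard_eq_pow_finrank (K := ZMod 2) (V := Additive Q)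
    rw [Nat.card_zmod] at h1
    exact (Nat.pow_right_injective le_rfl (hc.symm.trans h1)).symm
  let b := Module.finBasisOfFinrankEq (ZMod 2) (Additive Q) hV
  have hb : Function.Bijective φ.toHomUnits := ⟨fun α β e => MulEquiv.ext fun x =>
    LinearMap.congr_fun (congrArg Units.val e) (Additive.ofMul x), fun v =>
      ⟨⟨⟨fun x => (v.1 (Additive.ofMul x)).toMul, fun x => (v.2 (Additive.ofMul x)).toMul,
        fun x => LinearMap.congr_fun v.4 (Additive.ofMul x), fun x => LinearMap.congr_fun v.3 (Additive.ofMul x)⟩,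
        fun x y => v.1.map_add (Additive.ofMul x) (Additive.ofMul y)⟩, Units.ext (LinearMap.ext fun _ => rfl)⟩⟩
  rw [Nat.card_congr (Equiv.ofBijective _ hb), ← Nat.card_congr (Matrix.GeneralLinearGroup.toLin' b).toEquiv,
    Matrix.card_GL_field, ZMod.card, Finset.prod_range]

theorem card_aut {G : Type*} [Group G] {V : Subgroup G} {r : ℕ} (sq : ∀ v ∈ V, v * v = 1)
    (hc : Nat.card V = 2 ^ r) : Nat.card (MulAut V) = ∏ i ∈ Finset.range r, (2 ^ r - 2 ^ i) := by
  have : Finite V := Nat.finite_of_card_ne_zero (by rw [hc]; positivity)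
  have h : ∀ x : V, x * x = 1 := fun x => Subtype.ext (sq x x.2)
  let _ : CommGroup V := { (inferInstance : Group V) with
    mul_comm := fun a b => by
      rw [← inv_eq_of_mul_eq_one_left (h (a * b)), mul_inv_rev, inv_eq_of_mul_eq_one_left (h a),
        inv_eq_of_mul_eq_one_left (h b)] }
  exact card_aut_comm (fun x => (pow_two x).trans (h x)) hc

theorem exists_perf (Y : Type*) [Group Y] [Finite Y] (hY : ¬ Group.IsSolvable Y) :
    ∃ K : Subgroup Y, K.Normal ∧ K ≠ ⊥ ∧ ⁅K, K⁆ = K := by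
  obtain ⟨n, hn⟩ : ∃ n, derivedSeries Y (n + 1) = derivedSeries Y n := by
    by_contra hc
    push Not at hc
    have : StrictAnti (derivedSeries Y) := strictAnti_nat_of_succ_lt fun n =>
      lt_of_le_of_ne (by rw [derivedSeries_succ]; exact commutator_le_left _ _) (hc n)
    exact (Finite.of_injective _ this.injective).false
  exact ⟨derivedSeries Y n, inferInstance, fun h => hY ⟨⟨n, h⟩⟩, hn⟩

theorem le_ker_of_solv {X Y : Type*} [Group X] [Group Y] (f : X →* Y) {L : Subgroup X} (hL : ⁅L, L⁆ = L)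
    (hs : Group.IsSolvable (L.map f)) : L ≤ f.ker := by
  rw [← Subgroup.map_eq_bot_iff]
  by_contra h
  have := (nontrivial_iff_ne_bot _).2 h
  refine (Group.IsSolvable.commutator_lt_top_of_nontrivial (L.map f)).ne
    (map_injective (subtype_injective _) ?_)
  rw [map_subtype_commutator, ← map_commutator, hL, ← MonoidHom.range_eq_map, range_subtype]

theorem eq_top_of_nsol {Y : Type*} [Group Y] (hY : Nat.card Y = 168) {H : Subgroup Y}
    (hH : ¬ Group.IsSolvable H) : H = ⊤ := by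
  have : Finite Y := Nat.finite_of_card_ne_zero (by omega)
  have h1 := H.card_mul_index
  rw [hY] at h1
  rw [← index_eq_one]
  by_contra h2
  by_cases h3 : 2 ∣ H.index
  · obtain ⟨m, hm⟩ := h3
    exact hH (Inv.Len.isSolvable_of_card_dvd_84 ⟨m, by rw [hm] at h1; linarith⟩)
  · have h4 : H.index ∣ 168 := Dvd.intro_left _ h1
    have h5 := Nat.le_of_dvd (by norm_num) h4
    have h6 : H.index = 3 ∨ H.index = 7 ∨ H.index = 21 := by
      generalize H.index = n at *
      interval_cases n <;> omega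
    rcases h6 with e | e | e <;> rw [e] at h1
    · exact hH (Char.isSolvable_of_card_eq_pow_mul_pow (a := 3) (b := 1) Nat.prime_two (by norm_num : Nat.Prime 7)
        (by omega))
    · exact hH (Char.isSolvable_of_card_eq_pow_mul_pow (a := 3) (b := 1) Nat.prime_two Nat.prime_three (by omega))
    · exact hH (Char.isSolvable_of_card_eq_pow_mul_pow (a := 3) (b := 0) Nat.prime_two Nat.prime_three (by omega))

end CSj

open CSj

theorem card_aut_e8 {G : Type*} [Group G] {V : Subgroup G} (sq : ∀ v ∈ V, v * v = 1) (card : Nat.card V = 8) :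
    Nat.card (MulAut V) = 168 := (card_aut (r := 3) sq card).trans (by decide)

theorem csThm : CSThm.{u} := fun X _ _ c2 rk hX => by
  have : Fact (Nat.Prime 2) := ⟨Nat.prime_two⟩
  obtain ⟨L, Ln, L0, Lp⟩ := exists_perf X hX
  have hQ : IsPGroup 2 (pCore 2 X) := Grp.pCore_isPGroup 2 X
  obtain ⟨H, h1, h2, h3, h4⟩ := Grp.exists_critical_subgroup hQ
  let C := H.map (pCore 2 X).subtype
  have Cn : C.Normal := inferInstance
  have CQ : C ≤ pCore 2 X := map_subtype_le _
  have hc : ∀ x : pCore 2 X, x ∈ 𝒞(H) ↔ (x : X) ∈ 𝒞(C) := fun x =>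
    ⟨fun h _ ⟨y, hy, e⟩ => e ▸ congrArg Subtype.val (h y hy), fun h y hy => Subtype.ext (h y ⟨y, hy, rfl⟩)⟩
  have ab : C ⊓ 𝒞(C) ≤ 𝒞(C ⊓ 𝒞(C)) := fun x hx y hy => hx.2 y hy.1
  have Zp : IsPGroup 2 (C ⊓ 𝒞(C) : Subgroup X) := hQ.to_le (inf_le_left.trans CQ)
  have An := Loc.omegaOne_normal (p := 2) (C ⊓ 𝒞(C))
  have Ae : IsElementaryAbelian 2 (omegaOne 2 (C ⊓ 𝒞(C))) := Loc.ea_omegaOne ab
  by_cases hL : L ≤ 𝒞(omegaOne 2 (C ⊓ 𝒞(C)))
  · refine .inr ⟨L, C, c2, rk, Ln, L0, Lp.ge, Cn, CQ, ?_, ?_, fun x hx => ?_, ?_⟩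
    · rintro _ ⟨x, hx, rfl⟩
      exact (hc (x * x)).1 (sq x ▸ h2 x hx)
    · refine commutator_le.2 ?_
      rintro _ ⟨x, hx, rfl⟩ y hy
      have := h3 (commutator_mem_commutator hx (mem_top (⟨y, hy⟩ : pCore 2 X)))
      exact ⟨⟨_, this.1, rfl⟩, (hc _).1 this.2⟩
    · exact ⟨⟨x, hx.1⟩, h4 ((hc ⟨x, hx.1⟩).2 hx.2), rfl⟩
    · have hp : IsPGroup 2 (L.map (QuotientGroup.mk' 𝒞(C ⊓ 𝒞(C)))) := by
        rintro ⟨_, x, hx, rfl⟩
        obtain ⟨k, hk⟩ := exists_pow_coprime (p := 2) x
        exact ⟨k, Subtype.ext ((QuotientGroup.eq_one_iff (x ^ 2 ^ k)).2 (Grp.mem_centralizer_of_omegaOne_of_abelian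
          Zp ab (normalizer_eq_top (C ⊓ 𝒞(C)) ▸ mem_top _) hk (hL (pow_mem hx _))))⟩
      have := hp.isNilpotent
      exact (le_ker_of_solv _ Lp inferInstance).trans (QuotientGroup.ker_mk' _).le
  · generalize omegaOne 2 (C ⊓ 𝒞(C)) = A at An Ae hL
    have sq : ∀ v ∈ A, v * v = 1 := fun v hv => (pow_two v).symm.trans (Ae.2 v hv)
    let f : X →* MulAut A := MulAut.conjNormal
    have ns : ¬ Group.IsSolvable f.range := fun h => hL fun x hx y hy => by
      have := le_ker_of_solv f Lp (Group.isSolvable_of_isSolvable_injective (inclusion_injective (map_le_range f L))) hx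
      have e : x * y * x⁻¹ = y := congrArg Subtype.val (DFunLike.congr_fun (show f x = 1 from this) (⟨y, hy⟩ : A))
      exact (mul_inv_eq_iff_eq_mul.1 e).symm
    obtain ⟨r, hr⟩ := (isPGroup_iff_forall.2 fun x hx => ⟨1, by rw [pow_one, Ae.2 x hx]⟩ : IsPGroup 2 A).exists_card_eq
    have h8 := rk A Ae.1 Ae.2
    rw [hr, Nat.pow_le_pow_iff_right one_lt_two] at h8
    have ha := card_aut sq hr
    have h84 : Nat.card (MulAut A) ∣ 84 → False := fun h =>
      ns (Inv.Len.isSolvable_of_card_dvd_84 ((card_subgroup_dvd_card _).trans h))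
    interval_cases r
    · exact (h84 (ha ▸ by decide)).elim
    · exact (h84 (ha ▸ by decide)).elim
    · exact (h84 (ha ▸ by decide)).elim
    · refine .inl ⟨A, An, sq, hr, fun α => ?_⟩
      obtain ⟨m, rfl⟩ := (eq_top_of_nsol (card_aut_e8 sq hr) ns).ge (mem_top α)
      exact ⟨m, normalizer_eq_top A ▸ mem_top _, fun _ => rfl⟩

end CL.ON3
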