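/-
ON3: strengthened interface between the jobs ON3-GS and ON3-LOC.
-/
import Cfsg.Agent.ON3.Defs

set_option autoImplicit false
open Cfsg Subgroup CL.Even

namespace CL.ON3

universe u

/-- `GS` together with: `⟨g⟩` is a Sylow 5-subgroup of `L`, and `L` centralizes `Z(D)` -/
structure GS2 {X : Type*} [Group X] (D L : Subgroup X) (g : X) : Prop extends GS D L g where
  syl : ∀ x : X, ∃ l ∈ L, ∃ k : ℕ, x * g * x⁻¹ = l * g ^ k * l⁻¹
  ZL : D ⊓ 𝒞(D) ≤ 𝒞(L)

/-- job ON3-GS -/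
def GSThm2 : Prop :=
  ∀ (X : Type u) [Group X] [Finite X] (L C : Subgroup X), CS L C → ∃ (D L' : Subgroup X) (g : X), GS2 D L' g

/-- job ON3-LOC -/
def LocThm2 : Prop :=
  ∀ (X : Type u) [Group X] [Finite X] (D L : Subgroup X) (g : X), GS2 D L g →
    ∃ z : X, (∀ x, x * z = z * x) ∧ SD z D ∧ Typ z D

end CL.ON3
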