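/-
ON3-GS, part 1: the subgroup `P = O₂(X) ∩ C(Z(C))` and the action of an element of prime order on it.
-/
import Cfsg.Agent.ON3.Defs2
import Cfsg.Agent.Suz.HigmanBasic

set_option autoImplicit false
open Cfsg Subgroup CL.Even CL.Higman
open scoped commutatorElement

namespace CL.ON3.GSx

universe u

variable {X : Type u} [Group X]

theorem gam_eq {g x y : X} : gam g x = gam g y ↔ y * x⁻¹ * g = g * (y * x⁻¹) := by
  unfold gam
  constructor <;> intro h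
  · calc y * x⁻¹ * g = y * (x⁻¹ * (g * x * g⁻¹)) * g * x⁻¹ := by group
      _ = _ := by rw [h]; group
  · calc x⁻¹ * (g * x * g⁻¹) = y⁻¹ * (y * x⁻¹ * g) * x * g⁻¹ := by group
      _ = _ := by rw [h]; group

theorem gam_one {g x : X} : gam g x = 1 ↔ x * g = g * x := by
  unfold gam
  rw [inv_mul_eq_one, eq_mul_inv_iff_mul_eq]

theorem gam_mul (g x y : X) : gam g (x * y) = y⁻¹ * gam g x * y * gam g y := by unfold gam; group

theorem gam_mem {U : Subgroup X} {g x : X} (hg : g ∈ 𝒩(U)) (hx : x ∈ U) : gam g x ∈ U :=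
  mul_mem (inv_mem hx) (conj_mem hg hx)

theorem gam_mem' {U : Subgroup X} [hU : U.Normal] {g : X} (hg : g ∈ U) (x : X) : gam g x ∈ U := by
  have := mul_mem (hU.conj_mem' g hg x) (inv_mem hg)
  simpa only [gam, mul_assoc] using this

theorem gam_comm (g x : X) : gam g x = ⁅x⁻¹, g⁆ := by rw [commutatorElement_def]; unfold gam; group

theorem gam_triv {g y : X} {p k : ℕ} (hp : Odd p) (hg : g ^ p = 1) (hc : gam g y * g = g * gam g y)
    (h2 : gam g y ^ 2 ^ k = 1) : gam g y = 1 := by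
  have e : y⁻¹ * g * y⁻¹⁻¹ = gam g y * g := by unfold gam; group
  have h1 : (gam g y * g) ^ p = 1 := by rw [← e, conj_pow, hg]; group
  rw [Commute.mul_pow hc, hg, mul_one] at h1
  exact (pow_eq_one_iff_of_coprime (Nat.coprime_two_right.2 hp |>.pow_right k)).1 ⟨h1, h2⟩

theorem gam_triv' {g y : X} {p : ℕ} (hp : Odd p) (hg : g ^ p = 1) (hy : y ∈ pCore 2 X)
    (hc : gam g y * g = g * gam g y) : gam g y = 1 := by
  obtain ⟨k, hk⟩ := isPGroup_iff_forall.1 (pCore_isP (p := 2) (G := X)) _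
    (gam_mem (g := g) (le_normalizer_of_normal (mem_top g)) hy)
  exact gam_triv hp hg hc hk

theorem comm_le {N : Subgroup X} [N.Normal] {g : X} {p : ℕ} (hp : Odd p) (hg : g ^ p = 1)
    (h : ∀ y ∈ pCore 2 X, gam g (gam g y) ∈ N) : ⁅pCore 2 X, normalClosure {g}⁆ ≤ N := by
  let π := QuotientGroup.mk' N
  have hπ : ∀ a b, π (gam a b) = gam (π a) (π b) := fun a b => by simp only [gam, map_mul, map_inv]
  have h1 : ∀ y ∈ pCore 2 X, π y * π g = π g * π y := fun y hy => by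
    obtain ⟨k, hk⟩ := isPGroup_iff_forall.1 (pCore_isP (p := 2) (G := X)) _
      (gam_mem (g := g) (le_normalizer_of_normal (mem_top g)) hy)
    refine gam_one.1 (gam_triv (k := k) hp (by rw [← map_pow, hg, map_one]) (gam_one.1 ?_) ?_)
    · rw [← hπ, ← hπ]; exact (QuotientGroup.eq_one_iff _).2 (h y hy)
    · rw [← hπ, ← map_pow, hk, map_one]
  have : ((pCore 2 X).map π).Normal := Normal.map inferInstance _ (QuotientGroup.mk'_surjective N)
  have h2 : normalClosure {g} ≤ (𝒞((pCore 2 X).map π)).comap π := normalClosure_le_normal (by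
    rintro _ rfl _ ⟨y, hy, rfl⟩
    exact h1 y hy)
  refine commutator_le.2 fun y hy l hl => (QuotientGroup.eq_one_iff _).1 ?_
  change π _ = 1
  rw [map_commutatorElement, commutatorElement_eq_one_iff_mul_comm]
  exact h2 hl _ ⟨y, hy, rfl⟩

theorem rk8 (h : PRankLE 2 3 X) {A : Subgroup X} (hA : ∀ a ∈ A, a * a = 1) : Nat.card A ≤ 8 :=
  h A ⟨⟨fun a b => Subtype.ext (comm_of_sq hA a.2 b.2)⟩⟩ fun a ha => by rw [pow_two, hA a ha]

/-- `Z(C)` -/
abbrev Z0 (C : Subgroup X) : Subgroup X := C ⊓ 𝒞(C)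

/-- `O₂(X) ∩ C(Z(C))` -/
abbrev PP (C : Subgroup X) : Subgroup X := pCore 2 X ⊓ 𝒞(Z0 C)

/-- `Ω₁Z(C)` -/
def Z1 (C : Subgroup X) : Subgroup X where
  carrier := {z | z ∈ Z0 C ∧ z * z = 1}
  one_mem' := ⟨one_mem _, one_mul _⟩
  mul_mem' := fun {a b} ha hb => ⟨mul_mem ha.1 hb.1, by
    rw [mul_assoc, ← mul_assoc b, comm_of_mem ha.1.2 hb.1.1, mul_assoc, hb.2, mul_one, ha.2]⟩
  inv_mem' := fun {a} ha => ⟨inv_mem ha.1, by rw [← mul_inv_rev, ha.2, inv_one]⟩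

variable {L C : Subgroup X} (h : CS L C)
include h

theorem Pn : (PP C).Normal := by have := h.Cn; infer_instance

theorem CP : C ≤ PP C := fun _ hc => ⟨h.CQ hc, fun _ hz => (comm_of_mem hz.2 hc).symm⟩

theorem QLP : ⁅pCore 2 X, L⁆ ≤ PP C := by
  have := h.Cn
  exact le_inf (commutator_le_left _ _) ((commutator_mono le_rfl h.LZ).trans (commutator_le_right _ _))

theorem gamP {g y : X} (hg : g ∈ L) (hy : y ∈ pCore 2 X) : gam g y ∈ PP C := by
  rw [gam_comm]; exact QLP h (commutator_mem_commutator (inv_mem hy) hg)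

theorem act {x c : X} (hx : x ∈ pCore 2 X) (hc : c ∈ C) : ∃ z ∈ Z0 C, x * c = c * z * x :=
  ⟨⁅c⁻¹, x⁆, h.cm (commutator_mem_commutator (inv_mem hc) hx), by rw [commutatorElement_def]; group⟩

theorem sqP {x : X} (hx : x ∈ PP C) : x * x ∈ Z0 C := by
  have hc : x * x ∈ 𝒞(C) := fun c hc => by
    obtain ⟨z, hz, e⟩ := act h hx.1 hc
    have e1 := comm_of_mem hx.2 hz
    have e2 := comm_of_mem hz.2 hc
    have e3 : x * (c * c) = c * c * (z * z) * x := by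
      rw [← mul_assoc, e, mul_assoc _ x, e]
      calc c * z * (c * z * x) = c * (z * c) * z * x := by group
        _ = _ := by rw [← e2]; group
    rw [← comm_of_mem hx.2 ⟨mul_mem hc hc, h.sq c hc⟩, mul_left_inj, left_eq_mul] at e3
    calc c * (x * x) = c * (z * z) * x * x := by rw [e3]; group
      _ = c * z * (z * x) * x := by group
      _ = (c * z * x) * z * x := by rw [e1]; group
      _ = x * c * z * x := by rw [e]
      _ = x * (c * z * x) := by group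
      _ = _ := by rw [← e]; group
  exact ⟨h.sc ⟨mul_mem hx.1 hx.1, hc⟩, hc⟩

theorem cmP {x y : X} (hx : x ∈ PP C) (hy : y ∈ PP C) : ⁅x, y⁆ ∈ Z1 C := by
  have h1 : ⁅x, y⁆ ∈ Z0 C := commutator_mem_of_sq (fun _ => sqP h) hx hy
  refine ⟨h1, ?_⟩
  have e1 := comm_of_mem hx.2 h1
  have e2 := comm_of_mem hy.2 (sqP h hx)
  calc ⁅x, y⁆ * ⁅x, y⁆ = x⁻¹ * (x * ⁅x, y⁆) * ⁅x, y⁆ := by group
    _ = x⁻¹ * (⁅x, y⁆ * x) * ⁅x, y⁆ := by rw [e1]
    _ = x⁻¹ * ⁅x, y⁆ * (x * x * y) * x⁻¹ * y⁻¹ := by simp only [commutatorElement_def, mul_assoc]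
    _ = x⁻¹ * (⁅x, y⁆ * y * x) * y⁻¹ := by rw [e2]; group
    _ = 1 := by rw [commutatorElement_def]; group

theorem cm_mul {x x' y : X} (hx : x ∈ PP C) (hx' : x' ∈ PP C) (hy : y ∈ PP C) :
    ⁅x * x', y⁆ = ⁅x, y⁆ * ⁅x', y⁆ := by
  have e1 := comm_of_mem hx.2 (cmP h hx' hy).1
  have e2 := comm_of_mem (cmP h hx' hy).1.2 (cmP h hx hy).1.1
  calc ⁅x * x', y⁆ = x * ⁅x', y⁆ * x⁻¹ * ⁅x, y⁆ := by simp only [commutatorElement_def]; group
    _ = _ := by rw [← e1, e2]; group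

theorem cm_symm {x y : X} (hx : x ∈ PP C) (hy : y ∈ PP C) : ⁅x, y⁆ = ⁅y, x⁆ := by
  rw [← commutatorElement_inv x y, eq_inv_iff_mul_eq_one, (cmP h hx hy).2]

theorem sq_mul {x y : X} (hx : x ∈ PP C) (hy : y ∈ PP C) :
    x * y * (x * y) = x * x * (y * y) * ⁅x, y⁆ := by
  have e1 := comm_of_mem (mul_mem hx (mul_mem hy hy)).2 (cmP h hy hx).1
  calc x * y * (x * y) = x * (⁅y, x⁆ * (x * (y * y))) := by rw [commutatorElement_def]; group
    _ = _ := by rw [e1, cm_symm h hx hy]; group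

theorem gam_sq {g x : X} (hg : g ∈ L) (hx : x ∈ PP C) : gam g x * gam g x = ⁅x⁻¹, g * x * g⁻¹⁆ := by
  have e := conj_eq_of_mem (h.LZ hg) (sqP h hx)
  rw [gam, sq_mul h (inv_mem hx) ((Pn h).conj_mem _ hx g), conj_mul, e]
  group

theorem gam_inj {g a b : X} {p : ℕ} (hp : Odd p) (hgp : g ^ p = 1) (hg : g ∈ L) (ha : a ∈ pCore 2 X)
    (hb : b ∈ pCore 2 X) (hz : gam g a * (gam g b)⁻¹ ∈ Z0 C) : gam g a = gam g b := by
  have := h.Cn
  have e : gam g (a * b⁻¹) = b * (gam g a * (gam g b)⁻¹) * b⁻¹ := by unfold gam; group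
  have := gam_triv' hp hgp (mul_mem ha (inv_mem hb))
    (comm_of_mem (h.LZ hg) (e ▸ Normal.conj_mem inferInstance _ hz b))
  rwa [e, conj_eq_one_iff, mul_inv_eq_one] at this

theorem not_cent {g : X} {p : ℕ} (hp : Odd p) (hgp : g ^ p = 1) (hg : g ∈ L) (g1 : g ≠ 1) :
    ∃ c ∈ C, gam g c ≠ 1 := by
  have := h.Cn
  by_contra! hc
  have h1 : g ∈ 𝒞(C) := fun c hc' => gam_one.1 (hc c hc')
  have h2 : g ∈ 𝒞(pCore 2 X) := fun y hy => gam_one.1 (gam_triv' hp hgp hy (comm_of_mem (h.LZ hg)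
    ⟨h.sc ⟨(gamP h hg hy).1, gam_mem' h1 y⟩, gam_mem' h1 y⟩))
  obtain ⟨k, hk⟩ := isPGroup_iff_forall.1 (pCore_isP (p := 2) (G := X)) _ (h.c2 h2)
  exact g1 ((pow_eq_one_iff_of_coprime (Nat.coprime_two_right.2 hp |>.pow_right k)).1 ⟨hgp, hk⟩)

theorem exZ1 {u : X} (hu : u ∈ pCore 2 X) (u1 : u ≠ 1) : ∃ z ∈ Z1 C, z ≠ 1 := by
  have h1 : ∃ z ∈ Z0 C, z ≠ 1 := by
    by_contra! hz
    have : u ∈ 𝒞(C) := fun c hc => by
      obtain ⟨z, hz', e⟩ := act h hu hc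
      rw [e, hz z hz', mul_one]
    exact u1 (hz u ⟨h.sc ⟨hu, this⟩, this⟩)
  obtain ⟨z, hz, z1⟩ := h1
  obtain ⟨k, hk⟩ := isPGroup_iff_forall.1 (pCore_isP (p := 2) (G := X)) _ (h.CQ hz.1)
  induction k generalizing z with
  | zero => exact absurd (by simpa using hk) z1
  | succ k ih =>
    by_cases h2 : z * z = 1
    · exact ⟨z, ⟨hz, h2⟩, z1⟩
    · exact ih _ (mul_mem hz hz) h2 (by rw [← pow_two, ← pow_mul, ← pow_succ', hk])

theorem key [Finite X] (hP : PrimeThm.{u}) {U : Subgroup X} (hU : U ≤ PP C) {g : X} (hg : g ∈ L)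
    (hn : g ∈ 𝒩(U)) {p : ℕ} (hp : p.Prime) (h5 : 5 ≤ p) (hgp : g ^ p = 1) (hne : ∃ u ∈ U, gam g u ≠ 1) :
    p = 5 ∧ (gam g '' U).ncard = 16 := by
  have po : Odd p := hp.odd_of_ne_two (by omega)
  obtain ⟨W, _, _, π, hπ, hk, hs⟩ := exists_lin (X := U) (Y := U ⊓ cen g) inf_le_left fun a ha =>
    ⟨mul_mem ha ha, mem_centralizer_singleton_iff.2 (comm_of_mem (h.LZ hg) (sqP h (hU ha)))⟩
  obtain ⟨Z, _, _, ζ, hζ, hk', hs'⟩ := exists_lin (X := Z1 C) (Y := ⊥) bot_le fun a ha => ha.2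
  have : Finite W := Finite.of_surjective π fun w => let ⟨a, _, e⟩ := hs w; ⟨a, e⟩
  have : Finite Z := Finite.of_surjective ζ fun w => let ⟨a, _, e⟩ := hs' w; ⟨a, e⟩
  choose t ht ht' using hs
  choose r hr hr' using hs'
  have eqv : ∀ a ∈ U, ∀ b ∈ U, π a = π b ↔ gam g a = gam g b := fun a ha b hb => by
    rw [gam_eq, ← mem_centralizer_singleton_iff, eq_comm, ← sub_eq_zero, sub_eq_add_neg, ← hπ.inv ha,
      ← hπ _ hb _ (inv_mem ha), hk _ (mul_mem hb (inv_mem ha))]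
    exact ⟨fun h => h.2, fun h => ⟨U.mul_mem hb (U.inv_mem ha), h⟩⟩
  have g1 : gam g 1 = 1 := by simp [gam]
  obtain ⟨s, hs0⟩ : ∃ s : W → X, ∀ w, s w = gam g (t w) := ⟨_, fun _ => rfl⟩
  have hs : ∀ a ∈ U, s (π a) = gam g a := fun a ha => by rw [hs0]; exact (eqv _ (ht _) _ ha).1 (ht' _)
  have sP : ∀ w, s w ∈ PP C := fun w => hs0 w ▸ gamP h hg (hU (ht w)).1
  have sinj : ∀ v w, s v * (s w)⁻¹ ∈ Z0 C → v = w := fun v w e => by
    rw [hs0, hs0] at e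
    rw [← ht' v, ← ht' w, eqv _ (ht _) _ (ht _)]
    exact gam_inj h po hgp hg (hU (ht _)).1 (hU (ht _)).1 e
  have ssq : ∀ w, s w * s w ∈ Z1 C := fun w => by
    rw [hs0, gam_sq h hg (hU (ht w))]
    exact cmP h (inv_mem (hU (ht w))) ((Pn h).conj_mem _ (hU (ht w)) g)
  have sadd : ∀ v w, ∃ c ∈ Z1 C, s (v + w) = c * (s v * s w) := fun v w =>
    ⟨⁅(t w)⁻¹, s v⁆, cmP h (inv_mem (hU (ht w))) (sP v), by
      conv_lhs => rw [← ht' v, ← ht' w, ← hπ _ (ht v) _ (ht w), hs _ (mul_mem (ht v) (ht w)), gam_mul]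
      rw [← hs0, ← hs0, commutatorElement_def]; group⟩
  have zP : ∀ {c}, c ∈ Z1 C → c ∈ PP C := fun hc => CP h hc.1.1
  have B1 : ∀ w v v', ζ ⁅s (v + v'), s w⁆ = ζ ⁅s v, s w⁆ + ζ ⁅s v', s w⁆ := fun w v v' => by
    obtain ⟨c, hc, e⟩ := sadd v v'
    rw [e, cm_mul h (zP hc) (mul_mem (sP _) (sP _)) (sP _), cm_mul h (sP _) (sP _) (sP _),
      commutatorElement_eq_one_iff_mul_comm.2 (comm_of_mem (sP w).2 hc.1), one_mul,
      hζ _ (cmP h (sP _) (sP _)) _ (cmP h (sP _) (sP _))]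
  have B2 : ∀ w v v', ζ ⁅s w, s (v + v')⁆ = ζ ⁅s w, s v⁆ + ζ ⁅s w, s v'⁆ := fun w v v' => by
    simp only [cm_symm h (sP w) (sP _), B1]
  let b : W →ₗ[ZMod 2] W →ₗ[ZMod 2] Z := LinearMap.mk₂ (ZMod 2) (fun v w => ζ ⁅s v, s w⁆)
    (fun v v' w => B1 w v v')
    (fun c v w => ZMod.map_smul (AddMonoidHom.mk' (fun v => ζ ⁅s v, s w⁆) (B1 w)) c v) B2
    fun c v w => ZMod.map_smul (AddMonoidHom.mk' (fun w => ζ ⁅s v, s w⁆) (B2 v)) c w
  have cg : ∀ a, gam g (g * a * g⁻¹) = g * gam g a * g⁻¹ := fun a => by unfold gam; group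
  have hσ : ∀ a ∈ U, π (g * t (π a) * g⁻¹) = π (g * a * g⁻¹) := fun a ha => by
    rw [eqv _ (conj_mem hn (ht _)) _ (conj_mem hn ha), cg, cg, ← hs0, hs a ha]
  let σ0 : W →+ W := AddMonoidHom.mk' (fun w => π (g * t w * g⁻¹)) fun v w => by
    conv_lhs => rw [← ht' v, ← ht' w, ← hπ _ (ht v) _ (ht w), hσ _ (mul_mem (ht v) (ht w)), ← conj_mul]
    exact hπ _ (conj_mem hn (ht _)) _ (conj_mem hn (ht _))
  have sσ : ∀ w, s (σ0 w) = g * s w * g⁻¹ := fun w => by rw [hs0 w, ← cg]; exact hs _ (conj_mem hn (ht _))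
  have σi : Function.Injective σ0 := fun v w e => sinj v w (by
    have := congrArg s e
    rw [sσ, sσ, mul_left_inj, mul_right_inj] at this
    rw [this, mul_inv_cancel]; exact one_mem _)
  let σ : W ≃ₗ[ZMod 2] W :=
    LinearEquiv.ofBijective (σ0.toZModLinearMap 2) ⟨σi, Finite.injective_iff_surjective.1 σi⟩
  have σp : ∀ n w, s ((σ ^ n) w) = g ^ n * s w * (g ^ n)⁻¹ := fun n w => by
    induction n with
    | zero => simp
    | succ n ih =>
      rw [pow_succ', LinearEquiv.mul_apply]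
      refine (sσ _).trans ?_
      rw [ih]; group
  have s0 : s 0 = 1 := by rw [← hπ.one, hs _ (one_mem _), g1]
  obtain ⟨u, hu, hu1⟩ := hne
  have key := hP W Z (fun w => ζ (s w * s w)) b σ p ⟨fun v w => ?_, fun S hS => ?_⟩ hp h5
    (LinearEquiv.ext fun w => sinj _ _ ?_) (fun w e => sinj _ _ ?_) (fun w => ?_)
    ⟨π u, 0, fun e => hu1 (by rw [← hs u hu, e, s0])⟩ ?_
  · refine ⟨key.1, ?_⟩
    have e : gam g '' U = Set.range s := Set.ext fun x =>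
      ⟨fun ⟨a, ha, e⟩ => ⟨π a, (hs a ha).trans e⟩, fun ⟨w, e⟩ => ⟨t w, ht w, (hs0 w).symm.trans e⟩⟩
    rw [e, Set.ncard_range_of_injective fun v w e => sinj v w (by rw [e, mul_inv_cancel]; exact one_mem _),
      key.2]
  · obtain ⟨c, hc, e⟩ := sadd v w
    have hx := mul_mem (sP v) (sP w)
    rw [e, sq_mul h (zP hc) hx, hc.2, commutatorElement_eq_one_iff_mul_comm.2 (comm_of_mem hx.2 hc.1), one_mul,
      mul_one, sq_mul h (sP v) (sP w), hζ _ (mul_mem (ssq v) (ssq w)) _ (cmP h (sP _) (sP _)),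
      hζ _ (ssq v) _ (ssq w)]
    rfl
  · have sq : ∀ w ∈ S, ∀ z ∈ Z1 C, z * s w * (z * s w) = 1 := fun w hw z hz => by
      rw [sq_mul h (zP hz) (sP w), hz.2, (hk' _ (ssq w)).1 (hS w hw),
        commutatorElement_eq_one_iff_mul_comm.2 (comm_of_mem (sP w).2 hz.1), one_mul, one_mul]
    let T : Subgroup X :=
      { carrier := {y | ∃ w ∈ S, ∃ z ∈ Z1 C, z * s w = y}
        one_mem' := ⟨0, zero_mem _, 1, one_mem _, by rw [s0, one_mul]⟩
        mul_mem' := by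
          rintro _ _ ⟨v, hv, y, hy, rfl⟩ ⟨w, hw, z, hz, rfl⟩
          obtain ⟨c, hc, e⟩ := sadd v w
          refine ⟨v + w, add_mem hv hw, y * z * c⁻¹, mul_mem (mul_mem hy hz) (inv_mem hc), ?_⟩
          rw [e, mul_assoc, inv_mul_cancel_left, mul_assoc y z, ← mul_assoc z, comm_of_mem (sP v).2 hz.1]
          group
        inv_mem' := by
          rintro _ ⟨w, hw, z, hz, rfl⟩
          exact ⟨w, hw, z, hz, eq_inv_of_mul_eq_one_left (sq w hw z hz)⟩ }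
    refine le_trans ?_ (rk8 h.rk (A := T) (by rintro _ ⟨w, hw, z, hz, rfl⟩; exact sq w hw z hz))
    rw [← Nat.card_prod]
    refine Nat.card_le_card_of_injective (fun x => ⟨r x.2 * s x.1, x.1, x.1.2, _, hr _, rfl⟩) ?_
    rintro ⟨v, y⟩ ⟨w, z⟩ e
    have e : r y * s v = r z * s w := congrArg Subtype.val e
    have : v = w := Subtype.ext (sinj _ _ (by
      rw [show s v * (s w)⁻¹ = (r y)⁻¹ * r z by rw [eq_inv_mul_iff_mul_eq, ← mul_assoc, e]; group]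
      exact mul_mem (inv_mem (hr y).1) (hr z).1))
    subst this
    rw [← hr' y, mul_right_cancel e, hr']
  · rw [σp, hgp, one_mul, inv_one, mul_one, LinearEquiv.coe_one, id, mul_inv_cancel]; exact one_mem _
  · have e : s (σ0 w) = s w := congrArg s e
    rw [sσ, mul_inv_eq_iff_eq_mul, hs0] at e
    rw [hs0, gam_triv' po hgp (hU (ht w)).1 e.symm, s0, inv_one, one_mul]; exact one_mem _
  · change ζ (s (σ0 w) * s (σ0 w)) = _
    rw [sσ, conj_mul, conj_eq_of_mem (h.LZ hg) (ssq w).1]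
  · obtain ⟨z, hz, z1⟩ := exZ1 h (gamP h hg (hU hu).1).1 hu1
    exact ⟨ζ z, 0, fun e => z1 ((hk' z hz).1 e)⟩

end CL.ON3.GSx
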