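/-
ON3-GS, part 2: `D = [Q, L']` for the normal closure `L'` of an element of order 5.
-/
import Cfsg.Agent.ON3.GS0
import Cfsg.Agent.Grp.HallConverse
import Cfsg.Agent.Perm.PrimJordan

set_option autoImplicit false
open Cfsg Subgroup CL.Even CL.Higman
open scoped commutatorElement

namespace CL.ON3

universe u

namespace GSx

variable {X : Type u} [Group X]

theorem nrm (U : Subgroup X) [U.Normal] (g : X) : g ∈ 𝒩(U) := le_normalizer_of_normal (mem_top g)

theorem nsol {K : Subgroup X} (h : K ≤ ⁅K, K⁆) (hK : K ≠ ⊥) : ¬ Group.IsSolvable K := fun _ => by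
  have : Nontrivial K := (nontrivial_iff_ne_bot K).2 hK
  have h2 : (commutator K).map K.subtype < (⊤ : Subgroup K).map K.subtype :=
    (map_lt_map_iff_of_injective K.subtype_injective).2 (Group.IsSolvable.commutator_lt_top_of_nontrivial K)
  rw [commutator_def, map_commutator, ← MonoidHom.range_eq_map, range_subtype] at h2
  exact h2.not_ge h

variable [Finite X] (hP : PrimeThm.{u}) {L C : Subgroup X} (h : CS L C)
include hP h

theorem gam_im {U : Subgroup X} (hU : U ≤ PP C) {g : X} (hg : g ∈ L) (hn : g ∈ 𝒩(U)) (g5 : g ^ 5 = 1)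
    (hne : ∃ u ∈ U, gam g u ≠ 1) {x : X} (hx : x ∈ PP C) : gam g x ∈ U := by
  have := Pn h
  obtain ⟨u, hu, e⟩ : gam g x ∈ gam g '' U := by
    rw [Set.eq_of_subset_of_ncard_le (Set.image_mono hU) (by
      rw [(key h hP hU hg hn Nat.prime_five le_rfl g5 hne).2,
        (key h hP le_rfl hg (nrm _ g) Nat.prime_five le_rfl g5 (hne.imp fun u hu => ⟨hU hu.1, hu.2⟩)).2])]
    exact ⟨x, hx, rfl⟩
  exact e ▸ gam_mem hn hu

theorem primes {r : ℕ} (hr : r.Prime) (hd : r ∣ Nat.card L) : r = 2 ∨ r = 3 ∨ r = 5 := by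
  have := Pn h
  by_cases h5 : 5 ≤ r
  · have := Fact.mk hr
    obtain ⟨g, hg⟩ := exists_prime_orderOf_dvd_card' r hd
    rw [← orderOf_coe] at hg
    have gp : (g : X) ^ r = 1 := hg ▸ pow_orderOf_eq_one _
    obtain ⟨c, hc, c1⟩ := not_cent h (hr.odd_of_ne_two (by omega)) gp g.2 fun e => by
      rw [e, orderOf_one] at hg; omega
    exact .inr (.inr (key h hP le_rfl g.2 (nrm _ _) hr h5 gp ⟨c, CP h hc, c1⟩).1)
  · have := hr.two_le
    have : r ≠ 4 := by rintro rfl; exact absurd hr (by decide)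
    omega

theorem no25 : ¬ 5 ^ 2 ∣ Nat.card L := fun hd => by
  have := Fact.mk Nat.prime_five
  have := Pn h
  have o5 : Odd 5 := by decide
  obtain ⟨K, hK⟩ := Sylow.exists_subgroup_card_pow_prime 5 hd
  let f : K →* X := L.subtype.comp K.subtype
  have fi : Function.Injective f := L.subtype_injective.comp K.subtype_injective
  have fc : ∀ a b, f a * f b = f b * f a := fun a b => by
    rw [← map_mul, (IsPGroup.isMulCommutative_of_card_eq_prime_sq hK).1.1 a b, map_mul]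
  have fL : ∀ a, f a ∈ L := fun a => a.1.2
  have ex : ∀ k : K, k ≠ 1 → ∃ n, f (k ^ n) ≠ 1 ∧ f (k ^ n) ^ 5 = 1 := fun k k1 => by
    by_cases h5 : k ^ 5 = 1
    · exact ⟨1, by rwa [pow_one, map_ne_one_iff f fi], by rw [pow_one, ← map_pow, h5, map_one]⟩
    · exact ⟨5, by rwa [map_ne_one_iff f fi], by
        rw [← map_pow, ← pow_mul, ← pow_two, ← hK, pow_card_eq_one', map_one]⟩
  have : Nontrivial K := Finite.one_lt_card_iff_nontrivial.1 (by rw [hK]; norm_num)
  obtain ⟨k, k1⟩ := exists_ne (1 : K)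
  obtain ⟨n, g1, g5⟩ := ex k k1
  generalize k ^ n = a at g1 g5
  obtain ⟨c, hc, c1⟩ := not_cent h o5 g5 (fL a) g1
  have hc := CP h hc
  have cg : ∀ b x, gam (f a) (f b * x * (f b)⁻¹) = f b * gam (f a) x * (f b)⁻¹ := fun b x => by
    unfold gam
    calc _ = f b * x⁻¹ * (f b)⁻¹ * (f a * f b) * x * (f a * f b)⁻¹ := by group
      _ = f b * x⁻¹ * (f b)⁻¹ * (f b * f a) * x * (f b * f a)⁻¹ := by rw [fc a b]
      _ = _ := by group
  have ni : ¬ Function.Injective fun b : K => (⟨f b * gam (f a) c * (f b)⁻¹, f b * c * (f b)⁻¹,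
      (Pn h).conj_mem _ hc _, cg b c⟩ : gam (f a) '' PP C) := fun hi => by
    have := Nat.card_le_card_of_injective _ hi
    rw [hK, Nat.card_coe_set_eq,
      (key h hP le_rfl (fL a) (nrm _ _) Nat.prime_five le_rfl g5 ⟨c, hc, c1⟩).2] at this
    omega
  obtain ⟨b, b', e, hb⟩ := Function.not_injective_iff.1 ni
  have e : f b * gam (f a) c * (f b)⁻¹ = f b' * gam (f a) c * (f b')⁻¹ := congrArg Subtype.val e
  obtain ⟨m, k1, k5⟩ := ex (b'⁻¹ * b) fun e => hb (inv_mul_eq_one.1 e).symm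
  have wk : gam (f a) c * f ((b'⁻¹ * b) ^ m) = f ((b'⁻¹ * b) ^ m) * gam (f a) c := by
    rw [map_pow]
    refine Commute.pow_right ?_ m
    change _ = _
    rw [map_mul, map_inv]
    calc _ = (f b')⁻¹ * (f b' * gam (f a) c * (f b')⁻¹) * f b := by group
      _ = _ := by rw [← e]; group
  generalize (b'⁻¹ * b) ^ m = k at k1 k5 wk
  have nU : ∀ b, f b ∈ 𝒩(PP C ⊓ cen (f k)) := fun b => le_norm_inf (L := zpowers (f b)) (fun _ _ => nrm _ _)
    (le_norm_of_le (zpowers_le_of_mem (mem_centralizer_singleton_iff.2 (fc b k)))) (mem_zpowers _)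
  have wU : gam (f a) c ∈ PP C ⊓ cen (f k) := ⟨gam_mem (nrm _ _) hc, mem_centralizer_singleton_iff.2 wk⟩
  have w1 : gam (f a) (gam (f a) c) ≠ 1 := fun e => c1 (gam_triv' o5 g5 hc.1 (gam_one.1 e))
  have gk : ∀ x, gam (f (a * k)) x = gam (f a) x * (f a * gam (f k) x * (f a)⁻¹) := fun x => by
    rw [map_mul]; unfold gam; group
  obtain ⟨x, hx, x1⟩ := not_cent h o5 k5 (fL k) k1
  have hx := CP h hx
  have h1 := (gam_im hP h inf_le_left (fL a) (nU a) g5 ⟨_, wU, w1⟩ hx).2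
  have h2 := (gam_im hP h inf_le_left (fL _) (nU (a * k))
    (by rw [map_mul, Commute.mul_pow (fc a k), g5, k5, one_mul])
    ⟨_, wU, by rwa [gk, gam_one.2 wk, mul_one, mul_inv_cancel, mul_one]⟩ hx).2
  have ha : f a ∈ cen (f k) := mem_centralizer_singleton_iff.2 (fc a k)
  have h3 := mul_mem (mul_mem (inv_mem ha) (mul_mem (inv_mem h1) h2)) ha
  rw [gk, inv_mul_cancel_left, mul_assoc (f a), inv_mul_cancel_left, inv_mul_cancel_right] at h3
  exact x1 (gam_triv' o5 k5 hx.1 (mem_centralizer_singleton_iff.1 h3))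

theorem main : ∃ (D L' : Subgroup X) (g : X), GS2 D L' g := by
  have := Fact.mk Nat.prime_five
  have := h.Ln
  have := h.Cn
  have o5 : Odd 5 := by decide
  have nsL := nsol h.perf h.L0
  have h5 : 5 ∣ Nat.card L := by_contra fun h5 =>
    nsL (CL.Grp.isSolvable_of_forall_prime_eq_or Nat.prime_two Nat.prime_three L fun r hr hd => by
      rcases primes hP h hr hd with e | e | e
      exacts [.inl e, .inr e, absurd (e ▸ hd) h5])
  obtain ⟨⟨g, gL⟩, og0⟩ := exists_prime_orderOf_dvd_card' 5 h5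
  have og : orderOf g = 5 := (orderOf_coe _).trans og0
  have g5 : g ^ 5 = 1 := og ▸ pow_orderOf_eq_one g
  obtain ⟨c, hc, c1⟩ := not_cent h o5 g5 gL fun e => by rw [e, orderOf_one] at og; omega
  obtain ⟨M, hM⟩ : ∃ M, M = normalClosure ({g} : Set X) := ⟨_, rfl⟩
  have : M.Normal := hM ▸ inferInstance
  have gM : g ∈ M := hM ▸ subset_normalClosure rfl
  have Mle : ∀ N : Subgroup X, N.Normal → g ∈ N → M ≤ N := fun N _ hg =>
    hM ▸ normalClosure_le_normal (Set.singleton_subset_iff.2 hg)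
  have ML := Mle L inferInstance gL
  obtain ⟨D, hD⟩ : ∃ D, D = ⁅pCore 2 X, M⁆ := ⟨_, rfl⟩
  have Dn : D.Normal := hD ▸ inferInstance
  have DP : D ≤ PP C := hD ▸ (commutator_mono le_rfl ML).trans (QLP h)
  have gD : ∀ l ∈ M, ∀ y ∈ pCore 2 X, gam l y ∈ D := fun l hl y hy => by
    rw [gam_comm, hD]; exact commutator_mem_commutator (inv_mem hy) hl
  have R : ∀ N : Subgroup X, N.Normal → (∀ d ∈ D, gam g d ∈ N) → D ≤ N := fun N _ hN => by
    rw [hD, hM]; exact comm_le o5 g5 fun y hy => hN _ (gD g gM y hy)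
  have DC : D ≤ C := R C inferInstance fun d hd => gam_im hP h (CP h) gL (nrm _ _) g5 ⟨c, hc, c1⟩ (DP hd)
  have DZ : ⁅D, D⁆ ≤ Z1 C := commutator_le.2 fun x hx y hy => cmP h (DP hx) (DP hy)
  refine ⟨D, M, g, ⟨h.c2, h.rk, Dn, DP.trans inf_le_left, g5, hM, fun hs => nsL ?_, R _ inferInstance fun d hd => ?_,
    hD.ge, fun x hx => ⟨fun d hd => (comm_of_mem (DP hd).2 (DZ hx).1).symm,
      fun l hl => (comm_of_mem (h.LZ (ML hl)) (DZ hx).1).symm⟩, fun x hx => (DZ hx).2, ?_, ?_, ?_⟩,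
    fun x => ?_, ?_⟩
  · have := CL.Grp.isSolvable_of_forall_prime_eq_or Nat.prime_two Nat.prime_three (L ⧸ M.subgroupOf L)
      fun r hr hd => by
        have e := (M.subgroupOf L).card_mul_index
        rcases primes hP h hr (e ▸ hd.mul_left _) with e' | e' | rfl
        exacts [.inl e', .inr e', absurd (e ▸ pow_two 5 ▸ mul_dvd_mul
          (og0 ▸ (M.subgroupOf L).orderOf_dvd_natCard gM) hd) (no25 hP h)]
    exact Group.isSolvable_of_ker_le_range (inclusion ML) (QuotientGroup.mk' (M.subgroupOf L))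
      (by rw [QuotientGroup.ker_mk', inclusion_range])
  · rw [gam_comm]; exact commutator_mem_commutator (inv_mem hd) gM
  · let N : Subgroup X :=
      { carrier := {x | x ∈ D ∧ x * x ∈ ⁅D, D⁆}
        one_mem' := ⟨one_mem _, by rw [one_mul]; exact one_mem _⟩
        mul_mem' := fun {a b} ha hb => ⟨mul_mem ha.1 hb.1, by
          rw [sq_mul h (DP ha.1) (DP hb.1)]
          exact mul_mem (mul_mem ha.2 hb.2) (commutator_mem_commutator ha.1 hb.1)⟩
        inv_mem' := fun {a} ha => ⟨inv_mem ha.1, by rw [← mul_inv_rev]; exact inv_mem ha.2⟩ }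
    refine fun x hx => (R N ⟨fun a ha y => ⟨Dn.conj_mem _ ha.1 y, ?_⟩⟩ (fun d hd => ⟨gam_mem (nrm _ _) hd, ?_⟩) hx).2
    · rw [conj_mul]; exact Normal.conj_mem inferInstance _ ha.2 y
    · rw [gam_sq h gL (DP hd)]; exact commutator_mem_commutator (inv_mem hd) (Dn.conj_mem _ hd g)
  · rw [commutator_comm]
    refine commutator_le_of_le_cmod (R _ (normalizer_eq_top_iff.1 (top_le_iff.1
      (le_norm_cmod le_normalizer_of_normal le_normalizer_of_normal))) fun d hd => ⟨nrm _ _, fun y hy => ?_⟩)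
    obtain ⟨z, hz, e⟩ := act h (Normal.conj_mem' inferInstance y hy g) (DC hd)
    have he := gD _ (inv_mem gM) y hy
    have hc : y * ⁅gam g⁻¹ y, d⁆ * y⁻¹ ∈ ⁅D, D⁆ :=
      Normal.conj_mem inferInstance _ (commutator_mem_commutator he hd) y
    have e1 : y * (g * d * g⁻¹) * y⁻¹ = g * d * g⁻¹ * z := by
      rw [← conj_eq_of_mem (h.LZ gL) hz]
      calc _ = g * (g⁻¹ * y * g * d) * (g⁻¹ * y⁻¹) := by group
        _ = _ := by rw [e]; group
    have e2 : y * d * y⁻¹ = (y * ⁅gam g⁻¹ y, d⁆ * y⁻¹)⁻¹ * (d * z) := by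
      rw [eq_inv_mul_iff_mul_eq, commutatorElement_def, gam]
      calc _ = g⁻¹ * y * g * d * (g⁻¹ * y * g)⁻¹ := by group
        _ = _ := by rw [e]; group
    generalize y * ⁅gam g⁻¹ y, d⁆ * y⁻¹ = k at hc e2
    have e3 := comm_of_mem (DP (mul_mem (mul_mem (inv_mem hd) (commutator_le_left D D hc))
      (Dn.conj_mem _ hd g))).2 hz
    have e4 : ⁅y, gam g d⁆ = d⁻¹ * k * d := by
      calc _ = (y * d * y⁻¹)⁻¹ * (y * (g * d * g⁻¹) * y⁻¹) * (gam g d)⁻¹ := by
            rw [commutatorElement_def, gam]; group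
        _ = z⁻¹ * (d⁻¹ * k * (g * d * g⁻¹) * z) * (gam g d)⁻¹ := by rw [e1, e2]; group
        _ = _ := by rw [← e3, gam]; group
    exact e4 ▸ Normal.conj_mem' inferInstance _ hc d
  · let π := QuotientGroup.mk' ⁅D, D⁆
    have π1 : ∀ x, π x = 1 ↔ x ∈ ⁅D, D⁆ := fun x => QuotientGroup.eq_one_iff x
    let φ : D →* X ⧸ ⁅D, D⁆ := MonoidHom.mk' (fun d => π (gam g d)) fun a b => by
      rw [coe_mul, gam_mul, show (b : X)⁻¹ * gam g a * b = ⁅(b : X)⁻¹, gam g a⁆ * gam g a by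
        rw [commutatorElement_def]; group, map_mul, map_mul,
        (π1 _).2 (commutator_mem_commutator (inv_mem b.2) (gam_mem (nrm _ _) a.2)), one_mul]
    have hn : ∀ n : ℕ, ∀ d ∈ D, π (gam (g ^ n) d) ∈ φ.range := fun n d hd => by
      induction n with
      | zero => rw [pow_zero, gam_one.2 (by simp), map_one]; exact one_mem _
      | succ n ih =>
        rw [show gam (g ^ (n + 1)) d = gam (g ^ n) d * gam g (g ^ n * d * (g ^ n)⁻¹) by unfold gam; group, map_mul]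
        exact mul_mem ih ⟨⟨_, Dn.conj_mem _ hd _⟩, rfl⟩
    have e : ((⁅D, zpowers g⁆ ⊔ ⁅D, D⁆).map π : Set (X ⧸ ⁅D, D⁆)) = π '' (gam g '' D) := by
      refine subset_antisymm (fun x hx => ?_) ?_
      · obtain ⟨d, rfl⟩ : x ∈ φ.range := map_le_iff_le_comap.2 (sup_le (commutator_le.2 fun d hd y hy => by
          obtain ⟨n, rfl⟩ := mem_powers_iff_mem_zpowers.2 hy
          have := hn n _ (inv_mem hd)
          rwa [gam_comm, inv_inv] at this) fun y hy => by
            rw [mem_comap, (π1 y).2 hy]; exact one_mem _) hx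
        exact ⟨_, ⟨d, d.2, rfl⟩, rfl⟩
      · rintro _ ⟨_, ⟨d, hd, rfl⟩, rfl⟩
        refine ⟨_, mem_sup_left ?_, rfl⟩
        rw [gam_comm]; exact commutator_mem_commutator (inv_mem hd) (mem_zpowers g)
    have e' := relIndex_ker (⁅D, zpowers g⁆ ⊔ ⁅D, D⁆) π
    rw [QuotientGroup.ker_mk'] at e'
    rw [e', ← SetLike.coe_sort_coe, e, Nat.card_coe_set_eq, Set.InjOn.ncard_image, (key h hP DP gL (nrm _ _)
      Nat.prime_five le_rfl g5 ⟨_, gD g gM c (h.CQ hc), fun e => c1 (gam_triv' o5 g5 (h.CQ hc) (gam_one.1 e))⟩).2]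
    rintro _ ⟨a, ha, rfl⟩ _ ⟨b, hb, rfl⟩ e
    exact gam_inj h o5 g5 gL (DP ha).1 (DP hb).1 (DZ ((π1 _).1 (by rw [map_mul, map_inv, e, mul_inv_cancel]))).1
  · obtain ⟨u, hu⟩ := CL.Perm.exists_conj_mem_zpowers_of_not_sq_dvd (K := M) Nat.prime_five
      (fun hd => no25 hP h (hd.trans (card_dvd_of_le ML))) (x := ⟨g, gM⟩)
      (y := ⟨x * g * x⁻¹, Normal.conj_mem inferInstance g gM x⟩) ((orderOf_coe _).symm.trans og)
      ((orderOf_coe _).symm.trans (((MulAut.conj x).orderOf_eq g).trans og))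
    obtain ⟨k, hk⟩ := mem_powers_iff_mem_zpowers.2 hu
    have hk : g ^ k = u * (x * g * x⁻¹) * (u : X)⁻¹ := congrArg Subtype.val hk
    exact ⟨(u : X)⁻¹, inv_mem u.2, k, by rw [hk]; group⟩
  · refine le_centralizer_iff.1 (Mle _ inferInstance fun u hu => gam_one.1 (by_contra fun u1 => ?_))
    have ab : D ⊓ 𝒞(D) ≤ 𝒞(D ⊓ 𝒞(D)) := inf_le_right.trans (cent_mono inf_le_left)
    have h1 := (key h hP (inf_le_left.trans DP) gL (nrm (D ⊓ 𝒞(D)) g) Nat.prime_five le_rfl g5 ⟨u, hu, u1⟩).2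
    have h2 := rk8 h.rk (A := omegaOne 2 (D ⊓ 𝒞(D))) fun a ha => by
      rw [← pow_two, ((mem_omegaOne_of_comm ab).1 ha).2]
    have h3 : gam g '' (D ⊓ 𝒞(D) : Subgroup X) ⊆ omegaOne 2 (D ⊓ 𝒞(D)) := by
      rintro _ ⟨a, ha, rfl⟩
      refine (mem_omegaOne_of_comm ab).2 ⟨gam_mem (nrm _ _) ha, ?_⟩
      rw [pow_two, gam_sq h gL (DP ha.1), commutatorElement_eq_one_iff_mul_comm]
      exact (comm_of_mem (inv_mem ha).2 (Dn.conj_mem _ ha.1 g)).symm
    have := Set.ncard_le_ncard h3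
    rw [h1, ← Nat.card_coe_set_eq, SetLike.coe_sort_coe] at this
    omega

end GSx

theorem gsThm_of (h : PrimeThm.{u}) : GSThm2.{u} := fun _ _ _ _ _ hC => GSx.main h hC

end CL.ON3
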