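/-
Project ON3: the target of the quadratic map has order two.
-/
import Cfsg.Agent.ON3.Defs

set_option autoImplicit false
set_option linter.unusedSectionVars false
open Cfsg Subgroup

namespace CL.ON3

universe u

namespace LinB

variable {Γ V Z : Type*} [Group Γ] [AddCommGroup V] [Module (ZMod 2) V] [AddCommGroup Z] [Module (ZMod 2) Z]
  {ρ : Γ →* (V ≃ₗ[ZMod 2] V)} {q : V → Z} {b : V →ₗ[ZMod 2] V →ₗ[ZMod 2] Z} {g : Γ}

theorem aa {M : Type*} [AddCommGroup M] [Module (ZMod 2) M] (x : M) : x + x = 0 := by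
  rw [← two_smul (ZMod 2), show (2 : ZMod 2) = 0 from rfl, zero_smul]

theorem ae {M : Type*} [AddCommGroup M] [Module (ZMod 2) M] {x y : M} : x + y = 0 ↔ x = y := by
  rw [add_eq_zero_iff_eq_neg, neg_eq_of_add_eq_zero_left (aa y)]

theorem aa' {M : Type*} [AddCommGroup M] [Module (ZMod 2) M] (x y : M) : x + (x + y) = y := by
  rw [← add_assoc, aa, zero_add]

/-- the orbit -/
abbrev xo (ρ : Γ →* (V ≃ₗ[ZMod 2] V)) (g : Γ) (w : V) (i : ℕ) : V := ρ (g ^ i) w

theorem xo_succ (w : V) (i : ℕ) : ρ g (xo ρ g w i) = xo ρ g w (i + 1) := by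
  rw [xo, xo, pow_succ', map_mul]; rfl

theorem xo_zero (w : V) : xo ρ g w 0 = w := by simp [xo]

theorem g_mem {w : V} (hw : w ∈ cmt (ρ g)) : ρ g w ∈ cmt (ρ g) := by
  obtain ⟨u, rfl⟩ := hw
  exact ⟨ρ g u, by simp⟩

theorem xo_mem {w : V} (hw : w ∈ cmt (ρ g)) (i : ℕ) : xo ρ g w i ∈ cmt (ρ g) := by
  induction i with
  | zero => rwa [xo_zero]
  | succ i ih => rw [← xo_succ]; exact g_mem ih

theorem sub_mem_cmt (v : V) (i : ℕ) : xo ρ g v i - v ∈ cmt (ρ g) := by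
  induction i with
  | zero => rw [xo_zero, sub_self]; exact zero_mem _
  | succ i ih =>
    rw [← sub_add_sub_cancel _ (xo ρ g v i), ← xo_succ]
    exact add_mem ⟨xo ρ g v i, rfl⟩ ih

variable (h : LS ρ q b g)
include h

theorem q0 : q 0 = 0 := by
  have := h.add 0 0
  rwa [add_zero, aa, map_zero, add_zero] at this

theorem bxx (x : V) : b x x = 0 := by
  have := h.add x x
  rw [aa, aa, zero_add, q0 h] at this
  exact this.symm

theorem bs (x y : V) : b x y = b y x := by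
  have h1 := h.add x y
  rw [add_comm x, h.add, add_comm (q y)] at h1
  exact (add_left_cancel h1).symm

theorem binv (γ : Γ) (x y : V) : b (ρ γ x) (ρ γ y) = b x y := by
  have h1 := h.add (ρ γ x) (ρ γ y)
  rw [← map_add, h.inv, h.inv, h.inv, h.add] at h1
  exact (add_left_cancel h1).symm

theorem binv' (γ : Γ) (x y : V) : b (ρ γ x) y = b x (ρ γ⁻¹ y) := by
  rw [← binv h γ x, ← LinearEquiv.mul_apply, ← map_mul, mul_inv_cancel, map_one]; rfl

theorem xo_five (w : V) : xo ρ g w 5 = w := by simp [xo, h.g5]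

theorem sum_eq {w : V} (hw : w ∈ cmt (ρ g)) :
    xo ρ g w 0 + xo ρ g w 1 + xo ρ g w 2 + xo ρ g w 3 + xo ρ g w 4 = 0 := by
  obtain ⟨u, rfl⟩ := hw
  have : ∀ i, xo ρ g (ρ g u - u) i = xo ρ g u (i + 1) - xo ρ g u i := fun i => by simp [xo, pow_succ]
  change xo ρ g (ρ g u - u) 0 + xo ρ g (ρ g u - u) 1 + xo ρ g (ρ g u - u) 2 + xo ρ g (ρ g u - u) 3 +
    xo ρ g (ρ g u - u) 4 = 0
  simp only [this, Nat.reduceAdd]
  rw [xo_five h, xo_zero]
  abel

theorem eq_zero {w : V} (hw : w ∈ cmt (ρ g)) (hf : ρ g w = w) : w = 0 := by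
  have h1 : ∀ i, xo ρ g w i = w := fun i => by
    induction i with
    | zero => exact xo_zero w
    | succ i ih => rw [← xo_succ, ih, hf]
  have := sum_eq h hw
  simp only [h1] at this
  rwa [aa, zero_add, aa, zero_add] at this

theorem decomp (v : V) : ∃ w ∈ cmt (ρ g), ∃ c, ρ g c = c ∧ v = w + c := by
  refine ⟨(xo ρ g v 1 - v) + (xo ρ g v 2 - v) + (xo ρ g v 3 - v) + (xo ρ g v 4 - v),
    add_mem (add_mem (add_mem (sub_mem_cmt _ _) (sub_mem_cmt _ _)) (sub_mem_cmt _ _)) (sub_mem_cmt _ _),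
    xo ρ g v 0 + xo ρ g v 1 + xo ρ g v 2 + xo ρ g v 3 + xo ρ g v 4, ?_, ?_⟩
  · simp only [map_add, xo_succ, Nat.reduceAdd]
    rw [xo_five h, xo_zero]
    abel
  · rw [xo_zero]
    have := aa (xo ρ g v 1 + xo ρ g v 2 + xo ρ g v 3 + xo ρ g v 4 - v - v)
    calc v = v + 0 := (add_zero v).symm
      _ = _ := by rw [← this]; abel

theorem b_fix {w c : V} (hw : w ∈ cmt (ρ g)) (hc : ρ g c = c) : b w c = 0 := by
  obtain ⟨u, rfl⟩ := hw
  have := binv h g u c
  rw [hc] at this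
  simp [this]

theorem all_of_g (P : Γ → Prop) (h1 : P 1) (hm : ∀ a c, P a → P c → P (a * c)) (hi : ∀ a, P a → P a⁻¹)
    (hc : ∀ a c, P a → P (c * a * c⁻¹)) (hg : P g) (γ : Γ) : P γ := by
  let K : Subgroup Γ := ⟨⟨⟨{a | P a}, fun {a c} => hm a c⟩, h1⟩, fun {a} => hi a⟩
  have : K.Normal := ⟨fun a ha c => hc a c ha⟩
  exact (normalClosure_le_normal (N := K) (Set.singleton_subset_iff.2 hg)) (h.gen.ge (mem_top γ))

theorem top_of (R : Submodule (ZMod 2) V) (hR : ∀ γ, ∀ v ∈ R, ρ γ v ∈ R) (hW : cmt (ρ g) ≤ R) (v : V) :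
    v ∈ R := by
  have h1 := all_of_g h (fun γ => ∀ v, ρ γ v - v ∈ R) (by simp) (fun a c ha hc v => by
      have := add_mem (ha (ρ c v)) (hc v)
      simpa using this)
    (fun a ha v => by
      have := neg_mem (ha (ρ a⁻¹ v))
      rwa [← LinearEquiv.mul_apply, ← map_mul, mul_inv_cancel, map_one, neg_sub] at this)
    (fun a c ha v => by
      have := hR c _ (ha (ρ c⁻¹ v))
      rwa [map_sub, ← LinearEquiv.mul_apply, ← LinearEquiv.mul_apply, ← LinearEquiv.mul_apply, ← map_mul,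
        ← map_mul, ← map_mul, mul_inv_cancel, map_one] at this) fun v => hW ⟨v, rfl⟩
  by_contra hv
  obtain ⟨l, l1, l2⟩ := Submodule.exists_dual_map_eq_bot_of_notMem hv inferInstance
  refine l1 (LinearMap.congr_fun (h.comm l fun γ u => ?_) v)
  rw [← sub_eq_zero, ← map_sub]
  exact l2.le ⟨_, h1 γ u, rfl⟩

theorem rad_of (R : Submodule (ZMod 2) V) (hR : ∀ γ, ∀ v ∈ R, ρ γ v ∈ R) (hg : ∀ v ∈ R, ρ g v = v) {v : V}
    (hv : v ∈ R) (u : V) : b v u = 0 := by
  have h1 := all_of_g h (fun γ => ∀ v ∈ R, ρ γ v = v) (by simp) (fun a c ha hc v hv => by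
      rw [map_mul, LinearEquiv.mul_apply, hc v hv, ha v hv])
    (fun a ha v hv => by
      conv_lhs => rw [← ha v hv, ← LinearEquiv.mul_apply, ← map_mul, inv_mul_cancel, map_one]
      rfl)
    (fun a c ha v hv => by
      rw [map_mul, map_mul, LinearEquiv.mul_apply, LinearEquiv.mul_apply, ha _ (hR _ v hv),
        ← LinearEquiv.mul_apply, ← map_mul, mul_inv_cancel, map_one]
      rfl) hg
  refine (Module.forall_dual_apply_eq_zero_iff (ZMod 2) _).1 fun l => ?_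
  have := h.comm (l ∘ₗ b v) fun γ u => by
    simp only [LinearMap.comp_apply]
    conv_lhs => rw [← h1 γ v hv, binv h]
  exact LinearMap.congr_fun this u

/-- A functional killing `q` on `W` vanishes. -/
theorem step1 (l : Z →ₗ[ZMod 2] ZMod 2) (hl : ∀ w ∈ cmt (ρ g), l (q w) = 0) : l = 0 := by
  let R : Submodule (ZMod 2) V :=
    { carrier := {v | l (q v) = 0 ∧ ∀ u, l (b v u) = 0}
      add_mem' := fun {x y} hx hy => ⟨by simp [h.add, hx.1, hy.1, hx.2], fun u => by simp [hx.2, hy.2]⟩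
      zero_mem' := ⟨by simp [q0 h], by simp⟩
      smul_mem' := fun c x hx => by
        have : c = 0 ∨ c = 1 := by revert c; decide
        rcases this with rfl | rfl
        · simp [q0 h]
        · simpa using hx }
  refine h.span l fun v => (top_of h R (fun γ v hv => ⟨by rw [h.inv]; exact hv.1, fun u => by
    rw [binv' h]; exact hv.2 _⟩) (fun w hw => ⟨hl w hw, fun u => ?_⟩) v).1
  obtain ⟨w', hw', c, hc, rfl⟩ := decomp h u
  have := congrArg l (h.add w w')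
  rw [hl _ (add_mem hw hw'), map_add, map_add, hl w hw, hl w' hw', zero_add, zero_add] at this
  rw [map_add, b_fix h hw hc, add_zero, ← this]

variable [Finite V]

theorem cover {w : V} (hw : w ∈ cmt (ρ g)) (h0 : w ≠ 0) {v : V} (hv : v ∈ cmt (ρ g)) :
    ∃ a : ZMod 2 × ZMod 2 × ZMod 2 × ZMod 2, v = a.1 • xo ρ g w 0 + a.2.1 • xo ρ g w 1 +
      a.2.2.1 • xo ρ g w 2 + a.2.2.2 • xo ρ g w 3 := by
  let e : (ZMod 2 × ZMod 2 × ZMod 2 × ZMod 2) →ₗ[ZMod 2] cmt (ρ g) :=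
    { toFun := fun a => a.1 • ⟨_, xo_mem hw 0⟩ + a.2.1 • ⟨_, xo_mem hw 1⟩ + a.2.2.1 • ⟨_, xo_mem hw 2⟩ +
        a.2.2.2 • ⟨_, xo_mem hw 3⟩
      map_add' := fun a c => by simp only [Prod.fst_add, Prod.snd_add, add_smul]; abel
      map_smul' := fun a c => by simp [mul_smul] }
  have he : ∀ a, (e a : V) = a.1 • xo ρ g w 0 + a.2.1 • xo ρ g w 1 + a.2.2.1 • xo ρ g w 2 +
    a.2.2.2 • xo ρ g w 3 := fun _ => rfl
  let s : (ZMod 2 × ZMod 2 × ZMod 2 × ZMod 2) → (ZMod 2 × ZMod 2 × ZMod 2 × ZMod 2) := fun a =>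
    (a.2.2.2, a.1 + a.2.2.2, a.2.1 + a.2.2.2, a.2.2.1 + a.2.2.2)
  have hs : ∀ a, e a = 0 → e (s a) = 0 := fun a ha => Subtype.ext (by
    have h1 := congrArg (fun x : cmt (ρ g) => ρ g x) ha
    simp only [he, map_add, map_smul, xo_succ, Nat.reduceAdd, ZeroMemClass.coe_zero, map_zero] at h1
    rw [← ae.1 (sum_eq h hw)] at h1
    rw [he, ZeroMemClass.coe_zero, ← h1]
    simp only [s, add_smul, smul_add]
    abel)
  have hi : Function.Injective e := (injective_iff_map_eq_zero e).2 fun a ha => by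
    by_contra hne
    have : ∀ a ≠ 0, ∃ k : ZMod 2 × ZMod 2 × ZMod 2 × ZMod 2,
        k.1 • a + k.2.1 • s a + k.2.2.1 • s (s a) + k.2.2.2 • s (s (s a)) = (1, 0, 0, 0) := by decide
    obtain ⟨k, hk⟩ := this a hne
    have h1 := congrArg (fun x => (e x : V)) hk
    simp only [map_add, map_smul, ha, hs _ ha, hs _ (hs _ ha), hs _ (hs _ (hs _ ha)), smul_zero, add_zero,
      he, ZeroMemClass.coe_zero, one_smul, zero_smul, xo_zero] at h1
    exact h0 h1.symm
  obtain ⟨a, ha⟩ := ((Nat.bijective_iff_injective_and_card e).2 ⟨hi, by rw [h.w16]; simp⟩).2 ⟨v, hv⟩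
  exact ⟨a, (congrArg Subtype.val ha).symm⟩

omit [Finite V] in
theorem table {w : V} (hw : w ∈ cmt (ρ g)) : ∃ c d : Z, (∀ i, q (xo ρ g w i) = c + d) ∧
    (b (xo ρ g w 0) (xo ρ g w 1) = c ∧ b (xo ρ g w 1) (xo ρ g w 2) = c ∧ b (xo ρ g w 2) (xo ρ g w 3) = c ∧
      b (xo ρ g w 0) (xo ρ g w 2) = d ∧ b (xo ρ g w 1) (xo ρ g w 3) = d ∧ b (xo ρ g w 0) (xo ρ g w 3) = d) := by
  have h1 : ∀ i j, b (xo ρ g w (i + 1)) (xo ρ g w (j + 1)) = b (xo ρ g w i) (xo ρ g w j) := fun i j => by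
    rw [← xo_succ, ← xo_succ, binv h]
  have h2 : b (xo ρ g w 0) (xo ρ g w 3) = b (xo ρ g w 0) (xo ρ g w 2) := by
    rw [← h1, ← h1, xo_five h, xo_zero, bs h]
  have h3 : ∀ i, q (xo ρ g w i) = q w := fun i => h.inv _ _
  refine ⟨_, _, fun i => ?_, rfl, h1 0 1, (h1 1 2).trans (h1 0 1), rfl, h1 0 2, h2⟩
  have h4 := h3 4
  rw [← ae.1 (sum_eq h hw)] at h4
  simp only [h.add, h3, map_add, LinearMap.add_apply, h2, h1 0 1, h1 0 2, h1 1 2] at h4
  rw [h3, ← h4]
  generalize b (xo ρ g w 0) (xo ρ g w 1) = c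
  generalize b (xo ρ g w 0) (xo ρ g w 2) = d
  have := aa (q w + q w + c + d)
  rw [← add_zero (c + d), ← this]
  abel

/-- the values of `q` on `W` -/
theorem vals {w : V} (hw : w ∈ cmt (ρ g)) (h0 : w ≠ 0) : ∃ c d : Z, q w = c + d ∧
    b (xo ρ g w 0) (xo ρ g w 1) = c ∧ b (xo ρ g w 0) (xo ρ g w 2) = d ∧
    (∀ v ∈ cmt (ρ g), v = 0 ∨ (∃ i : Fin 5, v = xo ρ g w i ∧ q v = c + d) ∨ q v = c ∨ q v = d) ∧
    (∀ z, z = 0 ∨ z = c ∨ z = d ∨ z = c + d) ∧
    ∃ T : Set V, (∀ t ∈ T, t ∈ cmt (ρ g)) ∧ (∀ z, ∃ t ∈ T, q t = z) ∧ ∀ t ∈ T, ∀ t' ∈ T, b t t' = 0 := by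
  obtain ⟨c, d, e0, e1, e2, e3, e4, e5, e6⟩ := table h hw
  have h1 : ∀ v ∈ cmt (ρ g), v = 0 ∨ (∃ i : Fin 5, v = xo ρ g w i ∧ q v = c + d) ∨ q v = c ∨ q v = d := by
    intro v hv
    obtain ⟨⟨a1, a2, a3, a4⟩, rfl⟩ := cover h hw h0 hv
    have : ∀ a : ZMod 2, a = 0 ∨ a = 1 := by decide
    rcases this a1 with rfl | rfl <;> rcases this a2 with rfl | rfl <;> rcases this a3 with rfl | rfl <;>
      rcases this a4 with rfl | rfl <;> simp only [zero_smul, one_smul, zero_add, add_zero]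
    · exact Or.inl trivial
    · exact Or.inr (Or.inl ⟨3, rfl, e0 _⟩)
    · exact Or.inr (Or.inl ⟨2, rfl, e0 _⟩)
    rotate_left
    · exact Or.inr (Or.inl ⟨1, rfl, e0 _⟩)
    rotate_left 3
    · exact Or.inr (Or.inl ⟨0, rfl, e0 _⟩)
    rotate_left 6
    · rw [ae.1 (sum_eq h hw)]
      exact Or.inr (Or.inl ⟨4, rfl, e0 _⟩)
    all_goals
      refine Or.inr (Or.inr ?_)
      simp only [h.add, e0, map_add, LinearMap.add_apply, e1, e2, e3, e4, e5, e6, aa, zero_add]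
      simp only [add_assoc, add_comm d, aa, aa', add_zero, zero_add, true_or, or_true]
  have h2 : ∀ z, z = 0 ∨ z = c ∨ z = d ∨ z = c + d := fun z => by
    have hz : z ∈ Submodule.span (ZMod 2) {c, d} := by
      by_contra hz
      obtain ⟨l, l1, l2⟩ := Submodule.exists_dual_map_eq_bot_of_notMem hz inferInstance
      have lc : l c = 0 := l2.le ⟨c, Submodule.subset_span (by simp), rfl⟩
      have ld : l d = 0 := l2.le ⟨d, Submodule.subset_span (by simp), rfl⟩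
      refine l1 (LinearMap.congr_fun (step1 h l fun v hv => ?_) z)
      rcases h1 v hv with e | ⟨_, _, e⟩ | e | e <;> simp [e, q0 h, lc, ld]
    obtain ⟨a1, a2, rfl⟩ := Submodule.mem_span_pair.1 hz
    have : ∀ a : ZMod 2, a = 0 ∨ a = 1 := by decide
    rcases this a1 with rfl | rfl <;> rcases this a2 with rfl | rfl <;> simp
  refine ⟨c, d, by rw [← e0 0, xo_zero], e1, e4, h1, h2,
    {0, xo ρ g w 0, xo ρ g w 2 + xo ρ g w 3, xo ρ g w 0 + (xo ρ g w 2 + xo ρ g w 3)}, ?_, fun z => ?_, ?_⟩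
  · rintro t (rfl | rfl | rfl | rfl)
    exacts [zero_mem _, xo_mem hw _, add_mem (xo_mem hw _) (xo_mem hw _),
      add_mem (xo_mem hw _) (add_mem (xo_mem hw _) (xo_mem hw _))]
  · rcases h2 z with rfl | rfl | rfl | rfl
    · exact ⟨0, by simp, q0 h⟩
    · exact ⟨_, Or.inr (Or.inr (Or.inl rfl)), by simp [h.add, e0, e3, aa]⟩
    · exact ⟨_, Or.inr (Or.inr (Or.inr rfl)), by
        simp only [h.add, e0, e3, e4, e6, map_add, aa, zero_add, add_zero]
        rw [add_comm c, add_assoc, aa, add_zero]⟩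
    · exact ⟨_, Or.inr (Or.inl rfl), e0 _⟩
  · have f1 : b (xo ρ g w 0) (xo ρ g w 2 + xo ρ g w 3) = 0 := by rw [map_add, e4, e6, aa]
    have f2 : b (xo ρ g w 2 + xo ρ g w 3) (xo ρ g w 0) = 0 := by rw [bs h, f1]
    generalize xo ρ g w 2 + xo ρ g w 3 = y at f1 f2
    rintro t (rfl | rfl | rfl | rfl) t' (rfl | rfl | rfl | rfl) <;> simp [bxx h, f1, f2]

variable [Finite Z]

theorem no_sing (h4 : 4 ≤ Nat.card Z) {x y : V} (hx : x ≠ 0) (hy : y ≠ 0) (hxy : x ≠ y) (qx : q x = 0)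
    (qy : q y = 0) (hb : b x y = 0) : False := by
  classical
  have h1 := h.rk (Submodule.span (ZMod 2) {x, y}) fun v hv => by
    obtain ⟨a1, a2, rfl⟩ := Submodule.mem_span_pair.1 hv
    have : ∀ a : ZMod 2, a = 0 ∨ a = 1 := by decide
    rcases this a1 with rfl | rfl <;> rcases this a2 with rfl | rfl <;> simp [q0 h, h.add, qx, qy, hb]
  have h2 : ({0, x, y} : Set V).ncard ≤ (Submodule.span (ZMod 2) {x, y} : Set V).ncard :=
    Set.ncard_le_ncard (by
      rintro t (rfl | rfl | rfl)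
      exacts [zero_mem _, Submodule.subset_span (by simp), Submodule.subset_span (by simp)])
  rw [Set.ncard_eq_three.2 ⟨0, x, y, hx.symm, hy.symm, hxy, rfl⟩] at h2
  have h3 : 3 ≤ Nat.card (Submodule.span (ZMod 2) {x, y}) := h2
  nlinarith

omit h [Finite V] in
theorem card_le {c : Z} (hz : ∀ z, z = 0 ∨ z = c) : Nat.card Z ≤ 2 := by
  have : (Set.univ : Set Z).ncard ≤ ({0, c} : Set Z).ncard := Set.ncard_le_ncard fun z _ => hz z
  rw [Set.ncard_univ] at this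
  exact this.trans ((Set.ncard_insert_le _ _).trans (by simp))

omit h [Finite V] in
theorem dist (h3 : 3 ≤ Nat.card Z) {c d : Z} (hz : ∀ z, z = 0 ∨ z = c ∨ z = d ∨ z = c + d) :
    c ≠ 0 ∧ d ≠ 0 ∧ c ≠ d := by
  refine ⟨?_, ?_, ?_⟩ <;> rintro rfl
  · have := card_le (c := d) fun z => by simpa using hz z
    omega
  · have := card_le (c := c) fun z => by
      rcases hz z with e | e | e | e <;> simp [e]
    omega
  · have := card_le (c := c) fun z => by
      rcases hz z with e | e | e | e <;> simp [e, aa]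
    omega

theorem exW : ∃ w ∈ cmt (ρ g), w ≠ 0 := by
  by_contra! h1
  have := h.w16
  rw [(Submodule.eq_bot_iff _).2 h1] at this
  simp at this

theorem four (h3 : 3 ≤ Nat.card Z) : 4 ≤ Nat.card Z := by
  have h1 : Nat.card Z = 2 ^ Module.finrank (ZMod 2) Z := by
    have := Module.Finite.of_finite (R := ZMod 2) (M := Z)
    rw [Module.natCard_eq_pow_finrank (K := ZMod 2), Nat.card_zmod]
  rw [h1] at h3 ⊢
  generalize Module.finrank (ZMod 2) Z = m at h3 ⊢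
  rcases m with _ | _ | n
  · simp at h3
  · simp at h3
  · rw [pow_add, pow_add]; have := Nat.one_le_two_pow (n := n); omega

/-- Orthogonal fixed vectors. -/
theorem no_orth (h3 : 3 ≤ Nat.card Z) {u v : V} (hu : ρ g u = u) (hv : ρ g v = v) (u0 : u ≠ 0) (v0 : v ≠ 0)
    (huv : u ≠ v) : b u v ≠ 0 := fun hb => by
  obtain ⟨w, hw, h0⟩ := exW h
  obtain ⟨-, -, -, -, -, -, -, T, T1, T2, T3⟩ := vals h hw h0
  obtain ⟨s, hs, e1⟩ := T2 (q u)
  obtain ⟨t, ht, e2⟩ := T2 (q v)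
  refine no_sing h (four h h3) (x := s + u) (y := t + v) (fun e => u0 (eq_zero h (ae.1 e ▸ T1 s hs) hu))
    (fun e => v0 (eq_zero h (ae.1 e ▸ T1 t ht) hv)) (fun e => huv (ae.1 (eq_zero h ?_ ?_))) ?_ ?_ ?_
  · have : u + v = s + t := by
      rw [← ae, show u + v + (s + t) = s + u + (t + v) by abel, e, aa]
    exact this ▸ add_mem (T1 s hs) (T1 t ht)
  · rw [map_add, hu, hv]
  · rw [h.add, e1, aa, b_fix h (T1 s hs) hu, add_zero]
  · rw [h.add, e2, aa, b_fix h (T1 t ht) hv, add_zero]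
  · simp [T3 s hs t ht, b_fix h (T1 s hs) hv, bs h u t, b_fix h (T1 t ht) hu, hb]

theorem step2 (l : Z →ₗ[ZMod 2] ZMod 2) (hl : l ≠ 0) {v : V} (hv : ∀ u, l (b v u) = 0) (u : V) :
    b v u = 0 := by
  let R : Submodule (ZMod 2) V :=
    { carrier := {v | ∀ u, l (b v u) = 0}
      add_mem' := fun {x y} hx hy u => by simp [hx u, hy u]
      zero_mem' := by simp
      smul_mem' := fun c x hx u => by simp [hx u] }
  have hR : ∀ γ, ∀ v ∈ R, ρ γ v ∈ R := fun γ v hv u => by rw [binv' h]; exact hv _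
  refine rad_of h R hR (fun x hx => ?_) hv u
  by_contra hne
  obtain ⟨c, d, -, e1, e2, -, hz, -⟩ := vals h (w := ρ g x - x) ⟨x, rfl⟩ (sub_ne_zero.2 hne)
  have h1 : ρ g x - x ∈ R := sub_mem (hR _ _ hx) hx
  rw [xo_zero] at e1 e2
  have lc : l c = 0 := e1 ▸ h1 _
  have ld : l d = 0 := e2 ▸ h1 _
  exact hl (LinearMap.ext fun z => by rcases hz z with e | e | e | e <;> simp [e, lc, ld])

theorem fix_rad (h3 : 3 ≤ Nat.card Z) {u : V} (hu : ρ g u = u) (v : V) : b u v = 0 := by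
  by_contra hne
  have h1 : ∀ z, ∃ c, ρ g c = c ∧ b u c = z := fun z => by
    by_contra hz
    have hz' : z ∉ (LinearMap.ker ((ρ g : V →ₗ[ZMod 2] V) - LinearMap.id)).map (b u) := fun ⟨c, hc, e⟩ =>
      hz ⟨c, by simpa [sub_eq_zero] using hc, e⟩
    obtain ⟨l, l1, l2⟩ := Submodule.exists_dual_map_eq_bot_of_notMem hz' inferInstance
    refine hne (step2 h l (fun e => l1 (by rw [e]; rfl)) (fun x => ?_) v)
    obtain ⟨w, hw, c, hc, rfl⟩ := decomp h x
    rw [map_add, bs h u w, b_fix h hw hu, zero_add]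
    exact l2.le ⟨_, ⟨c, by simpa [sub_eq_zero] using hc, rfl⟩, rfl⟩
  obtain ⟨w, hw, h0⟩ := exW h
  obtain ⟨c, d, -, -, -, -, hz, -⟩ := vals h hw h0
  obtain ⟨c0, d0, cd⟩ := dist h3 hz
  obtain ⟨x, hx, ex⟩ := h1 c
  obtain ⟨y, hy, ey⟩ := h1 d
  have key : ∀ x y, ρ g x = x → ρ g y = y → b u x = c → b u y = d → b x y ≠ 0 := fun x y hx hy ex ey =>
    no_orth h h3 hx hy (fun e => c0 (by rw [← ex, e, map_zero])) (fun e => d0 (by rw [← ey, e, map_zero]))
      fun e => cd (by rw [← ex, ← ey, e])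
  have hx' : ρ g (x + u) = x + u := by rw [map_add, hx, hu]
  have hy' : ρ g (y + u) = y + u := by rw [map_add, hy, hu]
  have ex' : b u (x + u) = c := by rw [map_add, ex, bxx h, add_zero]
  have ey' : b u (y + u) = d := by rw [map_add, ey, bxx h, add_zero]
  rcases hz (b x y) with e | e | e | e
  · exact key x y hx hy ex ey e
  · exact key x _ hx hy' ex ey' (by rw [map_add, e, bs h x u, ex, aa])
  · exact key _ y hx' hy ex' ey (by rw [map_add, LinearMap.add_apply, e, ey, aa])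
  · exact key _ _ hx' hy' ex' ey' (by
      rw [map_add b, LinearMap.add_apply, ey', map_add, e, bs h x u, ex, add_comm c, add_assoc d, aa, add_zero, aa])

end LinB

open LinB in
theorem linBThm_of (hA : A5Thm.{u}) : LinBThm.{u} := by
  intro Γ V Z _ _ _ _ _ _ _ _ ρ q b g h
  have h1 := h.rk (cmt (ρ g))
  rw [h.w16] at h1
  have h2 : Nat.card Z ≠ 1 := fun e => by
    have := (Nat.card_eq_one_iff_unique.1 e).1
    have := h1 fun v _ => Subsingleton.elim _ _
    omega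
  have h0 : 0 < Nat.card Z := Nat.card_pos
  by_contra h4
  have h3 : 3 ≤ Nat.card Z := by omega
  obtain ⟨w, hw, w0, hq⟩ : ∃ w ∈ cmt (ρ g), w ≠ 0 ∧ ∀ r, ρ g r = r → q r = 0 ∨ q r = q w := by
    obtain ⟨w, hw, w0⟩ := exW h
    by_cases e : ∃ r, ρ g r = r ∧ q r ≠ 0
    · obtain ⟨r, hr, r0⟩ := e
      obtain ⟨-, -, -, -, -, -, -, T, T1, T2, -⟩ := vals h hw w0
      obtain ⟨t, ht, e⟩ := T2 (q r)
      refine ⟨t, T1 t ht, fun e' => r0 (by rw [← e, e', q0 h]), fun s hs => ?_⟩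
      by_cases s0 : s = 0
      · exact Or.inl (s0 ▸ q0 h)
      · by_cases sr : s = r
        · exact Or.inr (by rw [sr, e])
        · exact absurd (fix_rad h h3 hs r) (no_orth h h3 hs hr s0 (fun e' => r0 (e' ▸ q0 h)) sr)
    · push Not at e
      exact ⟨w, hw, w0, fun r hr => Or.inl (e r hr)⟩
  obtain ⟨c, d, e0, e1, e2, hv, hz, -⟩ := vals h hw w0
  obtain ⟨c0, d0, cd⟩ := LinB.dist h3 hz
  obtain ⟨π, π1, -, π2⟩ := hA Γ V Z ρ q b g h w hw ⟨_, by rw [xo_zero] at e1; rw [e1]; exact c0⟩ fun γ => by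
    obtain ⟨w', hw', r, hr, e⟩ := decomp h (ρ γ w)
    have e3 : q w = q w' + q r := by rw [← h.inv γ w, e, h.add, b_fix h hw' hr, add_zero]
    have e4 : w' ≠ 0 := fun e' => c0 (by
      rw [← e1, xo_zero, ← binv h γ, e, e', zero_add, fix_rad h h3 hr])
    have e5 : q w' = c + d := by
      rcases hq r hr with f | f
      · rw [← e0, e3, f, add_zero]
      · rw [f, eq_comm, add_eq_right] at e3
        rcases hv w' hw' with f | ⟨_, _, f⟩ | f | f
        exacts [absurd f e4, f, absurd (f.symm.trans e3) c0, absurd (f.symm.trans e3) d0]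
    rcases hv w' hw' with f | ⟨i, f, _⟩ | f | f
    · exact absurd f e4
    · exact ⟨i, fun u => by rw [e, f, add_sub_cancel_left, fix_rad h h3 hr]⟩
    · exact absurd (left_eq_add.1 (f.symm.trans e5)) d0
    · exact absurd (right_eq_add.1 (f.symm.trans e5)) c0
  obtain ⟨γ, hγ⟩ := π1.le (show Equiv.swap 1 3 * Equiv.swap 1 2 ∈ alternatingGroup (Fin 5) by
    rw [Equiv.Perm.mem_alternatingGroup]; decide)
  have f0 := π2 γ 0
  have f1 := π2 γ 1
  rw [hγ] at f0 f1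
  simp only [map_sub, LinearMap.sub_apply, sub_eq_zero] at f0 f1
  refine cd ?_
  rw [← e1, ← e2, ← binv h γ]
  refine (f0 _).trans ?_
  rw [bs h]
  exact (f1 _).trans (bs h _ _)

end CL.ON3
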