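/-
Project ON3: the three shapes of the quadratic space when the values lie in a group of order two.
-/
import Cfsg.Agent.ON3.LS0

set_option autoImplicit false
set_option linter.unusedSectionVars false
open Cfsg Subgroup

namespace CL.ON3

universe u

namespace LinC

variable {Γ V Z : Type*} [Group Γ] [AddCommGroup V] [Module (ZMod 2) V] [AddCommGroup Z] [Module (ZMod 2) Z]
  {ρ : Γ →* (V ≃ₗ[ZMod 2] V)} {q : V → Z} {b : V →ₗ[ZMod 2] V →ₗ[ZMod 2] Z} {g : Γ} [Finite V]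

theorem z2 (a : ZMod 2) : a = 0 ∨ a = 1 := by revert a; decide

theorem eq2 (hZ : Nat.card Z = 2) {x y : Z} (hx : x ≠ 0) (hy : y ≠ 0) : x = y :=
  ((Nat.card_eq_two_iff' 0).1 hZ).unique hx hy

theorem add2 (hZ : Nat.card Z = 2) {x y : Z} (hx : x ≠ 0) (hy : y ≠ 0) : x + y = 0 := add_eq_zero2.2 (eq2 hZ hx hy)

theorem sing8 (h : QD q b) (hZ : Nat.card Z = 2) {x y z : V} (qx : q x = 0) (qy : q y = 0) (qz : q z = 0)
    (h1 : b x y = 0) (h2 : b x z = 0) (h3 : b y z = 0)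
    (hi : ∀ i j k : ZMod 2, i • x + j • y + k • z = 0 → i = 0 ∧ j = 0 ∧ k = 0) : False := by
  let f : ((ZMod 2 × ZMod 2) × ZMod 2) →ₗ[ZMod 2] V := ((LinearMap.toSpanSingleton _ _ x).coprod
    (LinearMap.toSpanSingleton _ _ y)).coprod (LinearMap.toSpanSingleton _ _ z)
  have hf : Function.Injective f := (injective_iff_map_eq_zero f).2 fun c hc =>
    have := hi c.1.1 c.1.2 c.2 hc
    Prod.ext (Prod.ext this.1 this.2.1) this.2.2
  have := h.rk (LinearMap.range f) (by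
    rintro _ ⟨⟨⟨i, j⟩, k⟩, rfl⟩
    change q (i • x + j • y + k • z) = 0
    rcases z2 i with rfl | rfl <;> rcases z2 j with rfl | rfl <;> rcases z2 k with rfl | rfl <;>
      simp [h.add, h.q0, qx, qy, qz, h1, h2, h3])
  rw [← Nat.card_congr (LinearEquiv.ofInjective f hf).toEquiv, hZ] at this
  simp at this

theorem shift (h : LS ρ q b g) (i k : Fin 5) (w : V) : ρ (g ^ i.val) (ρ (g ^ k.val) w) = ρ (g ^ (i + k).val) w := by
  rw [rho_mul, ← pow_add, Fin.val_add, ← pow_eq_pow_mod _ h.g5]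

theorem bsh (h : LS ρ q b g) (i j : Fin 5) (w : V) :
    b (ρ (g ^ i.val) w) (ρ (g ^ j.val) w) = b w (ρ (g ^ (j - i).val) w) := by
  rw [← h.binv (g ^ i.val) w, shift h, add_sub_cancel]

theorem rel (h : LS ρ q b g) {w : V} (hw : w ∈ cmt (ρ g)) :
    q w + b w (ρ (g ^ (1 : Fin 5).val) w) + b w (ρ (g ^ (2 : Fin 5).val) w) = 0 := by
  have h1 := congrArg q (h.tr_eq_zero hw)
  have h3 : b w (ρ (g ^ (3 : Fin 5).val) w) = b w (ρ (g ^ (2 : Fin 5).val) w) := by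
    rw [show (2 : Fin 5) = 0 - 3 from rfl, ← bsh h, h.symm]; simp
  have h4 : b w (ρ (g ^ (4 : Fin 5).val) w) = b w (ρ (g ^ (1 : Fin 5).val) w) := by
    rw [show (1 : Fin 5) = 0 - 4 from rfl, ← bsh h, h.symm]; simp
  simp only [Fin.sum_univ_five, h.add, map_add, LinearMap.add_apply, h.inv, bsh h, h.q0, Fin.reduceSub, h3, h4] at h1
  rw [← h1]
  generalize q w = c
  generalize b w (ρ (g ^ (1 : Fin 5).val) w) = x
  generalize b w (ρ (g ^ (2 : Fin 5).val) w) = y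
  rw [← add_zero (c + x + y), ← add_self2 (c + c + x + x + y + y)]
  abel

theorem wt (c : Fin 5 → ZMod 2) : ∃ e : ZMod 2, (∀ k, c k = e) ∨ ∃ i, (∀ k, c k = e + if k = i then 1 else 0) ∨
    (∀ k, c k = e + (if k = i then 1 else 0) + if k = i + 1 then 1 else 0) ∨
    ∀ k, c k = e + (if k = i then 1 else 0) + if k = i + 2 then 1 else 0 := by
  revert c; decide

theorem orbs (h : LS ρ q b g) {w v : V} (hw : w ∈ cmt (ρ g)) (h0 : w ≠ 0) (hv : v ∈ cmt (ρ g)) :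
    v = 0 ∨ ∃ i : Fin 5, v = ρ (g ^ i.val) w ∨ v = ρ (g ^ i.val) (w + ρ (g ^ (1 : Fin 5).val) w) ∨
      v = ρ (g ^ i.val) (w + ρ (g ^ (2 : Fin 5).val) w) := by
  rw [← h.span_orb hw h0, Submodule.mem_span_range_iff_exists_fun] at hv
  obtain ⟨c, rfl⟩ := hv
  obtain ⟨e, he⟩ := wt c
  refine he.imp (fun k => ?_) fun ⟨i, k⟩ => ⟨i, k.imp (fun k => ?_) (.imp (fun k => ?_) fun k => ?_)⟩
  all_goals simp only [k, add_smul, Finset.sum_add_distrib, ← Finset.smul_sum, h.tr_eq_zero hw, smul_zero, ite_smul,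
    one_smul, zero_smul, Finset.sum_ite_eq', Finset.mem_univ, if_true, zero_add, map_add, shift h]

/-- A singular vector of `[V, g]`. -/
structure Cf (ρ : Γ →* (V ≃ₗ[ZMod 2] V)) (q : V → Z) (b : V →ₗ[ZMod 2] V →ₗ[ZMod 2] Z) (g : Γ) (o : V) : Prop
    extends LS ρ q b g where
  two : Nat.card Z = 2
  mem : o ∈ cmt (ρ g)
  o0 : o ≠ 0
  qo : q o = 0
  b1 : b o (ρ (g ^ (1 : Fin 5).val) o) ≠ 0
  b2 : b o (ρ (g ^ (2 : Fin 5).val) o) ≠ 0

theorem q_add (h : LS ρ q b g) (γ : Γ) (w : V) : q (w + ρ γ w) = b w (ρ γ w) := by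
  rw [h.add, h.inv, add_self2, zero_add]

theorem exists_cf (h : LS ρ q b g) (hZ : Nat.card Z = 2) : ∃ o, Cf ρ q b g o := by
  obtain ⟨o, h1, h2, h3⟩ : ∃ o ∈ cmt (ρ g), o ≠ 0 ∧ q o = 0 := by
    have := (Finite.one_lt_card_iff_nontrivial (α := cmt (ρ g))).1 (by rw [h.w16]; norm_num)
    obtain ⟨⟨w, hw⟩, w0⟩ := exists_ne (0 : cmt (ρ g))
    replace w0 : w ≠ 0 := fun e => w0 (Subtype.ext e)
    have key : ∀ i : Fin 5, i ≠ 0 → b w (ρ (g ^ i.val) w) = 0 → ∃ o ∈ cmt (ρ g), o ≠ 0 ∧ q o = 0 := fun i hi e =>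
      ⟨_, add_mem hw (pow_mem_cmt hw i), fun k => hi (h.orb_inj hw w0 (by simpa using (add_eq_zero2.1 k).symm)),
        (q_add h _ w).trans e⟩
    by_contra k
    have := rel h hw
    rw [add_assoc, add2 hZ (fun e => k (key 1 (by decide) e)) fun e => k (key 2 (by decide) e), add_zero] at this
    exact k ⟨w, hw, w0, this⟩
  have h4 := rel h h1
  rw [h3, zero_add, add_eq_zero2] at h4
  have h5 : b o (ρ (g ^ (1 : Fin 5).val) o) ≠ 0 := fun e => by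
    have := h.rk _ fun v hv => by
      rcases orbs h h1 h2 hv with rfl | ⟨i, rfl | rfl | rfl⟩
      exacts [h.q0, by rw [h.inv, h3], by rw [h.inv, q_add h, e], by rw [h.inv, q_add h, ← h4, e]]
    rw [h.w16, hZ] at this
    omega
  exact ⟨o, h, hZ, h1, h2, h3, h5, h4 ▸ h5⟩

theorem sq2 : ∀ σ : Equiv.Perm (Fin 5), σ 0 = 0 → Equiv.Perm.sign σ = 1 → ∃ τ : Equiv.Perm (Fin 5),
    (τ 0 = 0 ∧ Equiv.Perm.sign τ = 1) ∧ ∃ υ : Equiv.Perm (Fin 5), (υ 0 = 0 ∧ Equiv.Perm.sign υ = 1) ∧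
      σ = τ * τ * (υ * υ) := by
  decide +kernel

/-- The conclusion of `A5Thm`. -/
def A5 (ρ : Γ →* (V ≃ₗ[ZMod 2] V)) (b : V →ₗ[ZMod 2] V →ₗ[ZMod 2] Z) (g : Γ) : Prop :=
  ∀ w ∈ cmt (ρ g), (∃ u, b w u ≠ 0) → (∀ γ, ∃ i : Fin 5, ∀ u, b (ρ γ w - ρ (g ^ i.val) w) u = 0) →
    ∃ π : Γ →* Equiv.Perm (Fin 5), alternatingGroup (Fin 5) = π.range ∧ (∀ γ, π γ = 1 → ρ γ = 1) ∧
      ∀ γ (i : Fin 5) u, b (ρ γ (ρ (g ^ i.val) w) - ρ (g ^ (π γ i).val) w) u = 0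

namespace Cf

variable {o : V} (h : Cf ρ q b g o) {s u v w : V}
include h

theorem bne {i j : Fin 5} (hij : i ≠ j) : b (ρ (g ^ i.val) o) (ρ (g ^ j.val) o) ≠ 0 := by
  have : j - i = 1 ∨ j - i = 2 ∨ i - j = 1 ∨ i - j = 2 := by revert i j; decide
  rcases this with e | e | e | e
  · rw [bsh h.toLS, e]; exact h.b1
  · rw [bsh h.toLS, e]; exact h.b2
  · rw [h.symm, bsh h.toLS, e]; exact h.b1
  · rw [h.symm, bsh h.toLS, e]; exact h.b2

theorem rad0 (hw : w ∈ cmt (ρ g)) (h1 : ∀ u, b w u = 0) : w = 0 := h.eq_zero_of_rad h.mem ⟨_, h.b1⟩ hw h1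

theorem sing (hw : w ∈ cmt (ρ g)) (h0 : w ≠ 0) (h1 : q w = 0) : ∃ i : Fin 5, w = ρ (g ^ i.val) o := by
  rcases orbs h.toLS h.mem h.o0 hw with e | ⟨i, e | rfl | rfl⟩
  exacts [absurd e h0, ⟨i, e⟩, absurd (by rwa [h.inv, q_add h.toLS] at h1) h.b1,
    absurd (by rwa [h.inv, q_add h.toLS] at h1) h.b2]

theorem b_fix (hu : ρ g u = u) (hw : w ∈ cmt (ρ g)) : b u w = 0 := by rw [h.symm, h.b_cmt_fix hw hu]

theorem rad_fix (h1 : ∀ u, b v u = 0) : ρ g v = v :=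
  sub_eq_zero.1 (h.rad0 (mem_cmt.2 ⟨v, rfl⟩) fun u => by rw [map_sub, LinearMap.sub_apply, h.rad_inv h1, h1, sub_zero])

theorem xy : ∃ x ∈ cmt (ρ g), ∃ y ∈ cmt (ρ g), q x ≠ 0 ∧ q y ≠ 0 ∧ b x y ≠ 0 ∧ b o x = 0 ∧ b o y = 0 := by
  have h0 : ∀ i : Fin 5, i ≠ 0 → b o (ρ (g ^ i.val) o) ≠ 0 := fun i hi => by simpa using h.bne hi.symm
  have h1 : ∀ i j : Fin 5, i ≠ j → q (ρ (g ^ i.val) o + ρ (g ^ j.val) o) ≠ 0 := fun i j hij => by
    rw [h.add, h.inv, h.inv, add_self2, zero_add]; exact h.bne hij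
  refine ⟨_, add_mem (pow_mem_cmt h.mem _) (pow_mem_cmt h.mem _), _,
    add_mem (pow_mem_cmt h.mem _) (pow_mem_cmt h.mem _), h1 1 2 (by decide), h1 1 3 (by decide), ?_, ?_, ?_⟩
  · simp only [map_add, LinearMap.add_apply]
    rw [h.alt, zero_add, add2 h.two (h.bne (i := 1) (j := 3) (by decide)) (h.bne (by decide)), add_zero]
    exact h.bne (by decide)
  all_goals rw [map_add, add2 h.two (h0 _ (by decide)) (h0 _ (by decide))]

theorem plane (hs : ρ g s = s) (hu : ρ g u = u) (h1 : q s = 0) (h2 : b s u = 0) (s0 : s ≠ 0) : u = 0 ∨ u = s := by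
  by_contra h3
  obtain ⟨x, hx, k1, k2⟩ : ∃ x ∈ cmt (ρ g), q (x + u) = 0 ∧ b o x = 0 := by
    by_cases k : q u = 0
    · exact ⟨0, zero_mem _, by rwa [zero_add], map_zero _⟩
    obtain ⟨x, hx, -, -, k1, -, -, k2, -⟩ := h.xy
    exact ⟨x, hx, by rw [h.add, h.b_cmt_fix hx hu, add_zero, add2 h.two k1 k], k2⟩
  refine sing8 h.toQD h.two h.qo h1 k1 (h.b_cmt_fix h.mem hs) (by rw [map_add, k2, h.b_cmt_fix h.mem hu, add_zero])
    (by rw [map_add, h.b_fix hs hx, h2, add_zero]) fun i j k e => ?_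
  have e1 : i • o + k • x = j • s + k • u := by rw [← add_eq_zero2, ← e, smul_add]; abel
  have e2 := h.eq_zero_of_fix (add_mem (Submodule.smul_mem _ i h.mem) (Submodule.smul_mem _ k hx))
    (by rw [e1, map_add, map_smul, map_smul, hs, hu])
  rw [e2] at e1
  obtain ⟨rfl, rfl⟩ : j = 0 ∧ k = 0 := by
    rcases z2 j with rfl | rfl <;> rcases z2 k with rfl | rfl
    · exact ⟨rfl, rfl⟩
    · exact absurd (.inl (by simpa using e1.symm)) h3
    · exact absurd (by simpa using e1.symm) s0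
    · exact absurd (.inr (add_eq_zero2.1 (by simpa using e1.symm)).symm) h3
  simpa [h.o0] using e2

theorem card_V : Nat.card V = 16 * Nat.card (LinearMap.ker ((ρ g : V →ₗ[ZMod 2] V) - LinearMap.id)) := by
  rw [← h.w16, ← Nat.card_congr (LinearMap.quotKerEquivRange _).toEquiv, mul_comm]
  exact Submodule.card_eq_card_quotient_mul_card _

omit h in
theorem mem_ker : v ∈ LinearMap.ker ((ρ g : V →ₗ[ZMod 2] V) - LinearMap.id) ↔ ρ g v = v := sub_eq_zero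

theorem third (hs : ρ g s = s) (hu : ρ g u = u) (h1 : q s = 0) (h2 : b s u ≠ 0) : LinOut ρ q b := by
  have key : ∀ v, ρ g v = v → b v s = 0 → b v u = 0 → v = 0 := fun v hv k1 k2 =>
    (h.plane hs hv h1 (h.symm _ _ ▸ k1) fun e => h2 (by simp [e])).resolve_right fun e => h2 (e ▸ k2)
  refine .inr (.inr ⟨?_, fun v hv => key v (h.rad_fix hv) (hv s) (hv u)⟩)
  let f := ((b.flip s).prod (b.flip u)).comp (LinearMap.ker ((ρ g : V →ₗ[ZMod 2] V) - LinearMap.id)).subtype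
  have h3 : ∀ c : Z, ∃ i : ZMod 2, c = i • b s u := fun c => by
    by_cases k : c = 0
    exacts [⟨0, by simp [k]⟩, ⟨1, by rw [one_smul, eq2 h.two k h2]⟩]
  rw [h.card_V, Nat.card_eq_of_bijective f ⟨(injective_iff_map_eq_zero f).2 fun v hv => Subtype.ext
    (key v (mem_ker.1 v.2) (congrArg Prod.fst hv) (congrArg Prod.snd hv)), fun c => ?_⟩, Nat.card_prod, h.two]
  obtain ⟨i, hi⟩ := h3 c.1
  obtain ⟨j, hj⟩ := h3 c.2
  refine ⟨⟨i • u + j • s, mem_ker.2 (by simp [hs, hu])⟩, Prod.ext ?_ ?_⟩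
  · simp [f, h.alt, hi, h.symm u s]
  · simp [f, h.alt, hj]

theorem nonrad (hu : ρ g u = u) (hv : b u v ≠ 0) : LinOut ρ q b := by
  obtain ⟨w, hw, s, hs, rfl⟩ := h.decomp v
  rw [map_add, h.b_fix hu hw, zero_add] at hv
  by_cases k1 : q u = 0
  · exact h.third hu hs k1 hv
  by_cases k2 : q s = 0
  · exact h.third hs hu k2 (h.symm _ _ ▸ hv)
  obtain ⟨x, hx, y, hy, l1, l2, l3, l4, l5⟩ := h.xy
  refine (sing8 h.toQD h.two (y := x + u) (z := y + s) h.qo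
    (by rw [h.add, h.b_cmt_fix hx hu, add_zero, add2 h.two l1 k1])
    (by rw [h.add, h.b_cmt_fix hy hs, add_zero, add2 h.two l2 k2])
    (by rw [map_add, l4, h.b_cmt_fix h.mem hu, add_zero]) (by rw [map_add, l5, h.b_cmt_fix h.mem hs, add_zero])
    (by simp [h.b_cmt_fix hx hs, h.b_fix hu hy, add2 h.two l3 hv]) fun i j k e => ?_).elim
  have e1 := congrArg (b · s) e
  have e2 := congrArg (b u) e
  simp only [map_add, map_smul, LinearMap.add_apply, LinearMap.smul_apply, h.b_cmt_fix h.mem hs, h.b_cmt_fix hx hs,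
    h.b_cmt_fix hy hs, h.alt, h.b_fix hu h.mem, h.b_fix hu hx, h.b_fix hu hy, smul_zero, zero_add, add_zero, map_zero,
    LinearMap.zero_apply, smul_eq_zero, hv, or_false] at e1 e2
  simpa [e1, e2, h.o0] using e

theorem fix_zero (hw : w ∈ cmt (ρ g)) (h0 : w ≠ 0) (h1 : ∀ γ, ρ γ w ∈ cmt (ρ g)) (hu : ρ g u = u) : u = 0 := by
  let R := Submodule.span (ZMod 2) (Set.range fun γ => ρ γ w)
  have h2 : R ≤ cmt (ρ g) := Submodule.span_le.2 (by rintro _ ⟨γ, rfl⟩; exact h1 γ)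
  have h3 := h.eq_top (R := R) (fun γ v hv => Submodule.span_induction
    (fun _ ⟨δ, e⟩ => Submodule.subset_span ⟨γ * δ, by rw [← e, rho_mul]⟩) (by simp)
    (fun x y _ _ a c => by simpa using add_mem a c) (fun c x _ a => by simpa using Submodule.smul_mem _ c a) hv)
    (h.span_orb hw h0 ▸ Submodule.span_mono (by rintro _ ⟨i, rfl⟩; exact ⟨_, rfl⟩))
  exact h.eq_zero_of_fix (h2 (h3.ge trivial)) hu

variable (hA : A5 ρ b g) (hR : ∀ u, ρ g u = u → ∀ v, b u v = 0)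
include hA hR

theorem aniso (hu : ρ g u = u) (h1 : q u = 0) : u = 0 := by
  by_contra u0
  have h2 : ∀ {v}, (∀ x, b v x = 0) → v = 0 ∨ v = u := fun hv => h.plane hu (h.rad_fix hv) h1 (hR u hu _) u0
  have h3 : ∀ γ, ρ γ u = u := fun γ => (h2 (h.rad_inv (hR u hu) γ)).resolve_left (by simpa using u0)
  obtain ⟨π, p1, p2, p3⟩ := hA o h.mem ⟨_, h.b1⟩ fun γ => by
    obtain ⟨w, hw, c, hc, e⟩ := h.decomp (ρ γ o)
    have h4 := h.inv γ o
    rw [e, h.add, h.b_cmt_fix hw hc, h.qo, show q c = 0 from (h2 (hR c hc)).elim (· ▸ h.q0) (· ▸ h1), add_zero,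
      add_zero] at h4
    obtain ⟨i, rfl⟩ := h.sing hw (fun k => h.b1 (by rw [← h.binv γ, e, k, zero_add, hR c hc])) h4
    exact ⟨i, fun x => by rw [e, add_sub_cancel_left, hR c hc]⟩
  have h4 : ∀ γ, π γ 0 = 0 → ρ (γ * γ) o = o := fun γ e => by
    have := h2 (p3 γ 0)
    simp only [e, Fin.val_zero, pow_zero, map_one, LinearEquiv.coe_one, id, sub_eq_iff_eq_add, zero_add] at this
    rcases this with k | k
    · rw [← rho_mul, k, k]
    · rw [← rho_mul, k, map_add, k, h3, ← add_assoc, add_self2, zero_add]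
  have h5 : ∀ γ, π γ 0 = 0 → ρ γ o = o := fun γ e => by
    obtain ⟨τ, ⟨k1, k2⟩, υ, ⟨k3, k4⟩, k5⟩ := sq2 _ e (Equiv.Perm.mem_alternatingGroup.1 (p1.ge ⟨γ, rfl⟩))
    obtain ⟨a, rfl⟩ := p1.le (Equiv.Perm.mem_alternatingGroup.2 k2)
    obtain ⟨c, rfl⟩ := p1.le (Equiv.Perm.mem_alternatingGroup.2 k4)
    have := p2 (γ⁻¹ * (a * a * (c * c))) (by simp only [map_mul, map_inv, ← k5, inv_mul_cancel])
    rw [map_mul, map_inv, inv_mul_eq_one] at this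
    rw [this, ← rho_mul, h4 c k3, h4 a k1]
  refine u0 (h.fix_zero h.mem h.o0 (fun γ => ?_) hu)
  have h6 : π (g ^ (π γ 0).val) 0 = π γ 0 := (h.orb_inj h.mem h.o0 (sub_eq_zero.1 (h.rad0
    (sub_mem (pow_mem_cmt h.mem _) (pow_mem_cmt h.mem _)) (by simpa using p3 (g ^ (π γ 0).val) 0)))).symm
  have h7 := h5 ((g ^ (π γ 0).val)⁻¹ * γ) (by rw [map_mul, map_inv, Equiv.Perm.mul_apply, Equiv.Perm.inv_eq_iff_eq, h6])
  rw [← mul_inv_cancel_left (g ^ (π γ 0).val) γ, ← rho_mul, h7]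
  exact pow_mem_cmt h.mem _

theorem out (hu : ρ g u = u) (u0 : u ≠ 0) (h0 : v ≠ 0) (h1 : q v = 0) : ∃ γ, ∀ i : Fin 5, ρ γ v ≠ ρ (g ^ i.val) v := by
  by_contra! h2
  obtain ⟨w, hw, c, hc, rfl⟩ := h.decomp v
  have w0 : w ≠ 0 := fun e => h0 (by rw [e, zero_add] at h1 ⊢; exact h.aniso hA hR hc h1)
  obtain ⟨π, p1, -, p3⟩ := hA w hw (by_contra fun k => w0 (h.rad0 hw (by simpa using k))) fun γ =>
    (h2 γ).imp fun i e x => by
      rw [map_add, map_add, pow_fix hc, add_comm _ c, ← sub_eq_sub_iff_add_eq_add] at e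
      rw [e, map_sub, LinearMap.sub_apply, hR c hc, h.rad_inv (hR c hc), sub_zero]
  obtain ⟨γ, e⟩ := p1.le (Equiv.Perm.mem_alternatingGroup.2
    (show Equiv.Perm.sign (Equiv.swap 1 2 * Equiv.swap 3 4 : Equiv.Perm (Fin 5)) = 1 by decide))
  have h3 := rel h.toLS hw
  have h4 := p3 γ 0 (ρ γ (ρ (g ^ (1 : Fin 5).val) w))
  have h5 := p3 γ 1 w
  rw [e] at h4 h5
  rw [map_sub, LinearMap.sub_apply, sub_eq_zero] at h4 h5
  rw [h.binv, show (Equiv.swap 1 2 * Equiv.swap 3 4 : Equiv.Perm (Fin 5)) 0 = 0 by decide, Fin.val_zero, pow_zero,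
    map_one, LinearEquiv.coe_one, id, h.symm w (ρ γ _), h5, h.symm _ w,
    show (Equiv.swap 1 2 * Equiv.swap 3 4 : Equiv.Perm (Fin 5)) 1 = 2 by decide] at h4
  rw [h4, add_assoc, add_self2, add_zero] at h3
  rw [h.add, h3, h.b_cmt_fix hw hc, zero_add, add_zero] at h1
  obtain rfl := h.aniso hA hR hc h1
  refine u0 (h.fix_zero hw w0 (fun γ => ?_) hu)
  obtain ⟨i, k⟩ := h2 γ
  rw [add_zero] at k
  exact k ▸ pow_mem_cmt hw _

theorem main : LinOut ρ q b := by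
  by_cases h0 : ∀ u, ρ g u = u → u = 0
  · refine .inl ⟨?_, fun v hv => h0 v (h.rad_fix hv), fun S hS => ?_⟩
    · rw [h.card_V, (Submodule.eq_bot_iff _).2 fun u hu => h0 u (mem_ker.1 hu)]
      simp
    have h1 : ∀ v : S, v ≠ 0 → ∃ i : Fin 5, v = ρ (g ^ i.val) o := fun v hv => by
      obtain ⟨w, hw, c, hc, e⟩ := h.decomp v
      rw [h0 c hc, add_zero] at e
      exact h.sing (e ▸ hw) (fun k => hv (Subtype.ext k)) (hS v v.2)
    refine (Nat.card_le_card_of_injective (fun v : S => v = 0) fun v w e => ?_).trans (by simp)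
    by_cases k : v = 0
    · exact k.trans (e.mp k).symm
    obtain ⟨i, hi⟩ := h1 v k
    obtain ⟨j, hj⟩ := h1 w fun l => k (e.mpr l)
    have := hS _ (add_mem v.2 w.2)
    rw [h.add, hS v v.2, hS w w.2, add_zero, zero_add, hi, hj] at this
    exact Subtype.ext (by rw [hi, hj, by_contra fun l => h.bne l this])
  push Not at h0
  obtain ⟨a, ha, a0⟩ := h0
  have h1 : q a ≠ 0 := fun e => a0 (h.aniso hA hR ha e)
  have h2 : ∀ c, ρ g c = c → q c ≠ 0 → c = a := fun c hc k => add_eq_zero2.1 (h.aniso hA hR (by rw [map_add, hc, ha])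
    (by rw [h.add, hR c hc, add_zero, add2 h.two k h1]))
  have h3 : ∀ c, ρ g c = c → c ≠ 0 → c = a := fun c hc k => h2 c hc fun e => k (h.aniso hA hR hc e)
  refine .inr (.inl ⟨?_, ⟨a, h1, fun v => ⟨fun hv => or_iff_not_imp_left.2 (h3 v (h.rad_fix hv)), ?_⟩⟩, ?_⟩)
  · rw [h.card_V, (Nat.card_eq_two_iff' 0).2 ⟨⟨a, mem_ker.2 ha⟩, fun e => a0 (congrArg Subtype.val e), fun c k =>
      Subtype.ext (h3 c (mem_ker.1 c.2) fun e => k (Subtype.ext e))⟩]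
  · rintro (rfl | rfl)
    exacts [by simp, hR _ ha]
  have h4 : ∀ v, v ≠ 0 → q v = 0 → ∃ i : Fin 5, v = ρ (g ^ i.val) o ∨
      v = ρ (g ^ i.val) (o + ρ (g ^ (1 : Fin 5).val) o + a) ∨ v = ρ (g ^ i.val) (o + ρ (g ^ (2 : Fin 5).val) o + a) :=
    fun v v0 hv => by
      obtain ⟨w, hw, c, hc, rfl⟩ := h.decomp v
      rw [h.add, h.b_cmt_fix hw hc, add_zero, add_eq_zero2] at hv
      rcases orbs h.toLS h.mem h.o0 hw with rfl | ⟨i, rfl | rfl | rfl⟩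
      · exact absurd (by rw [h.aniso hA hR hc (hv ▸ h.q0), add_zero]) v0
      · exact ⟨i, .inl (by rw [h.aniso hA hR hc (by rw [← hv, h.inv, h.qo]), add_zero])⟩
      · exact ⟨i, .inr (.inl (by rw [h2 c hc (by rw [← hv, h.inv, q_add h.toLS]; exact h.b1), map_add _ _ a, pow_fix ha]))⟩
      · exact ⟨i, .inr (.inr (by rw [h2 c hc (by rw [← hv, h.inv, q_add h.toLS]; exact h.b2), map_add _ _ a, pow_fix ha]))⟩
  have h5 : ∀ k : Fin 5, b o (ρ (g ^ k.val) o) ≠ 0 → o + ρ (g ^ k.val) o + a ≠ 0 ∧ q (o + ρ (g ^ k.val) o + a) = 0 :=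
    fun k e => ⟨fun l => a0 (h.eq_zero_of_fix (add_eq_zero2.1 l ▸ add_mem h.mem (pow_mem_cmt h.mem _)) ha), by
      rw [h.add, h.b_cmt_fix (add_mem h.mem (pow_mem_cmt h.mem _)) ha, q_add h.toLS, add_zero, add2 h.two e h1]⟩
  obtain ⟨B0, B1⟩ := h5 1 h.b1
  obtain ⟨C0, C1⟩ := h5 2 h.b2
  generalize o + ρ (g ^ (1 : Fin 5).val) o + a = B at *
  generalize o + ρ (g ^ (2 : Fin 5).val) o + a = C at *
  let R : V → V → Prop := fun v w => ∃ γ, ρ γ v = w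
  have sy : ∀ {v w}, R v w → R w v := fun ⟨γ, e⟩ => ⟨γ⁻¹, e ▸ rho_inv_rho γ _⟩
  have tr : ∀ {u v w}, R u v → R v w → R u w := fun ⟨γ, e⟩ ⟨δ, k⟩ => ⟨δ * γ, by rw [← rho_mul, e, k]⟩
  have h6 : ∀ v, v ≠ 0 → q v = 0 → (o ≠ v ∧ R v o) ∨ (B ≠ v ∧ R v B) ∨ (C ≠ v ∧ R v C) := fun v v0 hv => by
    obtain ⟨γ, k⟩ := h.out hA hR ha a0 v0 hv
    obtain ⟨i, l⟩ := h4 (ρ γ v) (by simpa using v0) (by rw [h.inv, hv])
    refine l.imp (fun l => ?_) (.imp (fun l => ?_) fun l => ?_)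
    all_goals exact ⟨fun e => k i (e ▸ l), tr ⟨γ, rfl⟩ (sy ⟨_, l.symm⟩)⟩
  have h7 : R o B ∧ R o C := by
    rcases h6 o h.o0 h.qo with ⟨k, -⟩ | ⟨-, k⟩ | ⟨-, k⟩
    · exact absurd rfl k
    · rcases h6 C C0 C1 with ⟨-, l⟩ | ⟨-, l⟩ | ⟨l, -⟩
      exacts [⟨k, sy l⟩, ⟨k, tr k (sy l)⟩, absurd rfl l]
    · rcases h6 B B0 B1 with ⟨-, l⟩ | ⟨l, -⟩ | ⟨-, l⟩
      exacts [⟨sy l, k⟩, absurd rfl l, ⟨tr k (sy l), k⟩]
  have h8 : ∀ v, v ≠ 0 → q v = 0 → R o v := fun v v0 hv => by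
    obtain ⟨i, l | l | l⟩ := h4 v v0 hv
    exacts [⟨_, l.symm⟩, tr h7.1 ⟨_, l.symm⟩, tr h7.2 ⟨_, l.symm⟩]
  exact fun v w v0 w0 hv hw => tr (sy (h8 v v0 hv)) (h8 w w0 hw)

end Cf

end LinC

theorem linCThm_of (h : A5Thm.{u}) : LinCThm.{u} := fun Γ V Z _ _ _ _ _ _ _ _ ρ q b g hL hZ => by
  obtain ⟨o, k⟩ := LinC.exists_cf hL hZ
  by_cases hR : ∀ u, ρ g u = u → ∀ v, b u v = 0
  · exact k.main (h Γ V Z ρ q b g hL) hR
  push Not at hR
  obtain ⟨u, hu, v, hv⟩ := hR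
  exact k.nonrad hu hv

end CL.ON3
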