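/-
ON3-LOC, part 1: the linearization of a class two group `D` with elementary `D/D'` and `D'`.
-/
import Cfsg.Agent.ON3.Defs2
import Cfsg.Agent.Grp.Cores

set_option autoImplicit false
open Cfsg Subgroup CL.Even
open scoped commutatorElement IsMulCommutative

namespace CL.ON3.Loc

universe u

variable {X : Type u} [Group X]

/-- coordinates on `D/D'` and `D'` -/
structure Crd (D : Subgroup X) (V Z : Type u) [AddCommGroup V] [AddCommGroup Z] where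
  π : X → V
  ι : Z → X
  π_mul : ∀ x ∈ D, ∀ y ∈ D, π (x * y) = π x + π y
  π_surj : ∀ v, ∃ x ∈ D, π x = v
  π_ker : ∀ x ∈ D, π x = 0 ↔ x ∈ ⁅D, D⁆
  ι_add : ∀ a b, ι (a + b) = ι a * ι b
  ι_inj : Function.Injective ι
  ι_mem : ∀ x, x ∈ ⁅D, D⁆ ↔ ∃ a, ι a = x

theorem exists_crd [Finite X] (D : Subgroup X) (hc : ⁅D, D⁆ ≤ 𝒞(D)) (hel : ∀ x ∈ ⁅D, D⁆, x * x = 1)
    (hsq : ∀ x ∈ D, x * x ∈ ⁅D, D⁆) :
    ∃ (V Z : Type u) (_ : AddCommGroup V) (_ : Module (ZMod 2) V) (_ : Finite V) (_ : AddCommGroup Z)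
      (_ : Module (ZMod 2) Z) (_ : Finite Z), Nonempty (Crd D V Z) := by
  classical
  have hle : ⁅D, D⁆ ≤ D := commutator_le_self D
  have : IsMulCommutative (⁅D, D⁆ : Subgroup X) := ⟨⟨fun a b => Subtype.ext (hc b.2 a (hle a.2))⟩⟩
  have hk : ∀ x : D, Abelianization.of x = 1 ↔ (x : X) ∈ ⁅D, D⁆ := by
    intro x
    rw [← MonoidHom.mem_ker, Abelianization.ker_of, ← map_subtype_commutator]
    exact ⟨fun h => ⟨x, h, rfl⟩, fun ⟨y, hy, e⟩ => (Subtype.ext e : y = x) ▸ hy⟩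
  refine ⟨Additive (Abelianization D), Additive (⁅D, D⁆ : Subgroup X), inferInstance,
    AddCommGroup.zmodModule fun x => ?_, inferInstance, inferInstance, AddCommGroup.zmodModule fun x => ?_,
    inferInstance, ⟨⟨fun x => if h : x ∈ D then Additive.ofMul (Abelianization.of ⟨x, h⟩) else 0,
      fun a => (a.toMul : X), ?_, ?_, ?_, fun a b => rfl, fun a b h => Subtype.ext h,
      fun x => ⟨fun h => ⟨Additive.ofMul ⟨x, h⟩, rfl⟩, fun ⟨a, ha⟩ => ha ▸ a.toMul.2⟩⟩⟩⟩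
  · obtain ⟨y, hy⟩ := QuotientGroup.mk_surjective x.toMul
    have h1 : Abelianization.of y = x.toMul := hy
    apply Additive.toMul.injective
    rw [two_nsmul, toMul_add, ← h1, ← map_mul, toMul_zero]
    exact (hk _).2 (hsq y y.2)
  · apply Additive.toMul.injective
    rw [two_nsmul, toMul_add, toMul_zero]
    exact Subtype.ext (hel _ x.toMul.2)
  · intro x hx y hy
    simp only [hx, hy, D.mul_mem hx hy, dite_true]
    rw [← ofMul_mul, ← map_mul]; rfl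
  · intro v
    obtain ⟨y, hy⟩ := QuotientGroup.mk_surjective v.toMul
    refine ⟨y, y.2, ?_⟩
    simp only [y.2, dite_true]
    exact congrArg Additive.ofMul hy
  · intro x hx
    simp only [hx, dite_true]
    exact hk ⟨x, hx⟩

namespace Crd

variable {D : Subgroup X} {V Z : Type u} [AddCommGroup V] [Module (ZMod 2) V] [AddCommGroup Z] [Module (ZMod 2) Z]
  (c : Crd D V Z)

theorem π_one : c.π 1 = 0 := (c.π_ker 1 D.one_mem).2 (one_mem _)

theorem ι_zero : c.ι 0 = 1 := by simpa using c.ι_add 0 0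

theorem ι_eq_one {a : Z} : c.ι a = 1 ↔ a = 0 := by rw [← c.ι_zero, c.ι_inj.eq_iff]

theorem π_inv {x : X} (hx : x ∈ D) : c.π x⁻¹ = -c.π x := by
  have := c.π_mul x hx _ (D.inv_mem hx)
  rw [mul_inv_cancel, c.π_one] at this
  exact (neg_eq_of_add_eq_zero_right this.symm).symm

theorem π_eq {x y : X} (hx : x ∈ D) (hy : y ∈ D) : c.π x = c.π y ↔ x⁻¹ * y ∈ ⁅D, D⁆ := by
  rw [← c.π_ker _ (D.mul_mem (D.inv_mem hx) hy), c.π_mul _ (D.inv_mem hx) _ hy, c.π_inv hx, neg_add_eq_zero]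

/-- the preimage of a subspace -/
def pre (S : Submodule (ZMod 2) V) : Subgroup X where
  carrier := {x | x ∈ D ∧ c.π x ∈ S}
  mul_mem' {a b} ha hb := ⟨D.mul_mem ha.1 hb.1, by rw [c.π_mul a ha.1 b hb.1]; exact S.add_mem ha.2 hb.2⟩
  one_mem' := ⟨D.one_mem, by rw [c.π_one]; exact S.zero_mem⟩
  inv_mem' {a} ha := ⟨D.inv_mem ha.1, by rw [c.π_inv ha.1]; exact S.neg_mem ha.2⟩

theorem mem_pre {S : Submodule (ZMod 2) V} {x : X} : x ∈ c.pre S ↔ x ∈ D ∧ c.π x ∈ S := Iff.rfl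

theorem le_pre (S : Submodule (ZMod 2) V) : ⁅D, D⁆ ≤ c.pre S := fun x hx =>
  ⟨commutator_le_self D hx, by rw [(c.π_ker x (commutator_le_self D hx)).2 hx]; exact S.zero_mem⟩

include c in
theorem card_Z : Nat.card Z = Nat.card (⁅D, D⁆ : Subgroup X) :=
  Nat.card_congr (Equiv.ofBijective (fun a => ⟨c.ι a, (c.ι_mem _).2 ⟨a, rfl⟩⟩)
    ⟨fun _ _ h => c.ι_inj (congrArg Subtype.val h), fun x => by
      obtain ⟨a, ha⟩ := (c.ι_mem x).1 x.2
      exact ⟨a, Subtype.ext ha⟩⟩)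

theorem card_pre (S : Submodule (ZMod 2) V) : Nat.card (c.pre S) = Nat.card S * Nat.card Z := by
  let f : c.pre S →* Multiplicative S := MonoidHom.mk' (fun x => Multiplicative.ofAdd ⟨c.π x, x.2.2⟩) fun x y =>
    congrArg Multiplicative.ofAdd (Subtype.ext (c.π_mul x x.2.1 y y.2.1))
  have hs : Function.Surjective f := fun v => by
    obtain ⟨x, hx, e⟩ := c.π_surj v.toAdd
    exact ⟨⟨x, hx, e ▸ v.toAdd.2⟩, congrArg Multiplicative.ofAdd (Subtype.ext e)⟩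
  have hk : f.ker = (⁅D, D⁆).subgroupOf (c.pre S) := by
    ext x
    rw [mem_subgroupOf, ← c.π_ker x x.2.1, MonoidHom.mem_ker]
    exact ⟨fun h => congrArg (fun v : Multiplicative S => (v.toAdd : V)) h,
      fun h => congrArg Multiplicative.ofAdd (Subtype.ext h)⟩
  have h1 := f.ker.card_mul_index
  rw [index_ker, MonoidHom.range_eq_top.2 hs, card_top, hk,
    Nat.card_congr (subgroupOfEquivOfLe (c.le_pre S)).toEquiv, ← c.card_Z] at h1
  rw [← h1, mul_comm]; rfl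

include c in
theorem card_D : Nat.card D = Nat.card V * Nat.card Z := by
  have : c.pre ⊤ = D := by ext x; simp [mem_pre]
  rw [← this, c.card_pre]; simp

theorem exists_q (hc : ⁅D, D⁆ ≤ 𝒞(D)) (hel : ∀ x ∈ ⁅D, D⁆, x * x = 1) (hsq : ∀ x ∈ D, x * x ∈ ⁅D, D⁆) :
    ∃ q : V → Z, ∀ x ∈ D, c.ι (q (c.π x)) = x * x := by
  choose σ h1 h2 using c.π_surj
  choose q hq using fun v => (c.ι_mem _).1 (hsq _ (h1 v))
  refine ⟨q, fun x hx => ?_⟩
  have h3 := (c.π_eq (h1 (c.π x)) hx).1 (h2 _)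
  rw [hq]
  generalize σ (c.π x) = y at h3
  have h4 := hc h3 x hx
  have h5 := hel _ h3
  calc y * y = x * ((y⁻¹ * x)⁻¹ * x) * (y⁻¹ * x)⁻¹ := by group
    _ = x * x * ((y⁻¹ * x) * (y⁻¹ * x))⁻¹ := by rw [(Commute.inv_left h4.symm).eq]; group
    _ = _ := by rw [h5]; group

theorem exists_b (hc : ⁅D, D⁆ ≤ 𝒞(D)) :
    ∃ b : V →ₗ[ZMod 2] V →ₗ[ZMod 2] Z, ∀ x ∈ D, ∀ y ∈ D, c.ι (b (c.π x) (c.π y)) = ⁅x, y⁆ := by
  choose σ h1 h2 using c.π_surj
  choose β hβ using fun v w => (c.ι_mem _).1 (commutator_mem_commutator (h1 v) (h1 w))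
  have hl : ∀ x ∈ D, ∀ y ∈ D, ∀ w ∈ D, ⁅x * y, w⁆ = ⁅x, w⁆ * ⁅y, w⁆ := by
    intro x hx y hy w hw
    have h3 := hc (commutator_mem_commutator hy hw) x hx
    have h4 := hc (commutator_mem_commutator hy hw) _ (commutator_le_self D (commutator_mem_commutator hx hw))
    calc _ = x * ⁅y, w⁆ * x⁻¹ * ⁅x, w⁆ := by simp only [commutatorElement_def]; group
      _ = _ := by rw [h3, h4]; group
  have hr : ∀ x ∈ D, ∀ y ∈ D, ∀ w ∈ D, ⁅w, x * y⁆ = ⁅w, x⁆ * ⁅w, y⁆ := by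
    intro x hx y hy w hw
    have h3 := hc (commutator_mem_commutator hw hy) x hx
    calc _ = ⁅w, x⁆ * (x * ⁅w, y⁆ * x⁻¹) := by simp only [commutatorElement_def]; group
      _ = _ := by rw [h3]; group
  have hz : ∀ x ∈ ⁅D, D⁆, ∀ y ∈ D, ⁅x, y⁆ = 1 := fun x hx y hy =>
    commutatorElement_eq_one_iff_mul_comm.2 (hc hx y hy).symm
  have hz' : ∀ x ∈ ⁅D, D⁆, ∀ y ∈ D, ⁅y, x⁆ = 1 := fun x hx y hy =>
    commutatorElement_eq_one_iff_mul_comm.2 (hc hx y hy)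
  have key : ∀ x ∈ D, ∀ y ∈ D, c.ι (β (c.π x) (c.π y)) = ⁅x, y⁆ := by
    intro x hx y hy
    have h3 := (c.π_eq (h1 (c.π x)) hx).1 (h2 _)
    have h4 := (c.π_eq (h1 (c.π y)) hy).1 (h2 _)
    have h5 := h1 (c.π x)
    have h6 := h1 (c.π y)
    rw [hβ]
    generalize σ (c.π x) = x' at h3 h5
    generalize σ (c.π y) = y' at h4 h6
    have h7 := hl x' h5 _ (commutator_le_self D h3) y hy
    have h8 := hr y' h6 _ (commutator_le_self D h4) x' h5
    rw [hz _ h3 y hy, mul_one, mul_inv_cancel_left] at h7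
    rw [hz' _ h4 x' h5, mul_one, mul_inv_cancel_left] at h8
    rw [h7, h8]
  have a1 : ∀ u v w, β (u + v) w = β u w + β v w := by
    intro u v w
    obtain ⟨x, hx, rfl⟩ := c.π_surj u
    obtain ⟨y, hy, rfl⟩ := c.π_surj v
    obtain ⟨t, ht, rfl⟩ := c.π_surj w
    apply c.ι_inj
    rw [← c.π_mul x hx y hy, c.ι_add, key _ (D.mul_mem hx hy) t ht, key x hx t ht, key y hy t ht, hl x hx y hy t ht]
  have a2 : ∀ w u v, β w (u + v) = β w u + β w v := by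
    intro w u v
    obtain ⟨x, hx, rfl⟩ := c.π_surj u
    obtain ⟨y, hy, rfl⟩ := c.π_surj v
    obtain ⟨t, ht, rfl⟩ := c.π_surj w
    apply c.ι_inj
    rw [← c.π_mul x hx y hy, c.ι_add, key t ht _ (D.mul_mem hx hy), key t ht x hx, key t ht y hy, hr x hx y hy t ht]
  exact ⟨(AddMonoidHom.mk' (fun u => (AddMonoidHom.mk' (β u) (a2 u)).toZModLinearMap 2) fun u v =>
    LinearMap.ext fun w => a1 u v w).toZModLinearMap 2, key⟩

theorem exists_rho [hD : D.Normal] :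
    ∃ ρ : X →* (V ≃ₗ[ZMod 2] V), ∀ γ, ∀ x ∈ D, ρ γ (c.π x) = c.π (γ * x * γ⁻¹) := by
  choose σ h1 h2 using c.π_surj
  have key : ∀ γ, ∀ x ∈ D, c.π (γ * σ (c.π x) * γ⁻¹) = c.π (γ * x * γ⁻¹) := by
    intro γ x hx
    have h3 := (c.π_eq (h1 (c.π x)) hx).1 (h2 _)
    rw [c.π_eq (hD.conj_mem _ (h1 _) γ) (hD.conj_mem _ hx γ)]
    convert (inferInstance : (⁅D, D⁆).Normal).conj_mem _ h3 γ using 1
    group
  let r : X → V →ₗ[ZMod 2] V := fun γ => (AddMonoidHom.mk' (fun v => c.π (γ * σ v * γ⁻¹)) fun u v => by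
    obtain ⟨x, hx, rfl⟩ := c.π_surj u
    obtain ⟨y, hy, rfl⟩ := c.π_surj v
    rw [← c.π_mul x hx y hy, key γ _ (D.mul_mem hx hy), key γ x hx, key γ y hy,
      ← c.π_mul _ (hD.conj_mem _ hx γ) _ (hD.conj_mem _ hy γ)]
    congr 1; group).toZModLinearMap 2
  have hr : ∀ γ, ∀ x ∈ D, r γ (c.π x) = c.π (γ * x * γ⁻¹) := key
  have hm : ∀ γ δ v, r γ (r δ v) = r (γ * δ) v := by
    intro γ δ v
    obtain ⟨x, hx, rfl⟩ := c.π_surj v
    rw [hr δ x hx, hr γ _ (hD.conj_mem _ hx δ), hr _ x hx]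
    congr 1; group
  have h0 : ∀ v, r 1 v = v := by
    intro v
    obtain ⟨x, hx, rfl⟩ := c.π_surj v
    rw [hr 1 x hx]; simp
  exact ⟨MonoidHom.mk' (fun γ => { r γ with
      invFun := r γ⁻¹
      left_inv := fun v => by
        show r γ⁻¹ (r γ v) = v
        rw [hm, inv_mul_cancel, h0]
      right_inv := fun v => by
        show r γ (r γ⁻¹ v) = v
        rw [hm, mul_inv_cancel, h0] }) fun γ δ => LinearEquiv.ext fun v => (hm γ δ v).symm, hr⟩

end Crd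

end CL.ON3.Loc
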