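/-
ON3-LOC: the local theorem from the linear theorems.
-/
import Cfsg.Agent.ON3.Loc1
import Cfsg.Agent.Grp.CoprimeAct
import Cfsg.Agent.Grp.ExtraBasic

set_option autoImplicit false
open Cfsg Subgroup CL.Even
open scoped commutatorElement

namespace CL.ON3.Loc

universe u

variable {X : Type u} [Group X] [Finite X] {D L : Subgroup X} {g : X}

/-- the elements of `L` acting trivially on `D/Z(D)` lie in `O₂(X)` -/
theorem mem_core (h : GS2 D L g) {γ : X} (hγ : γ ∈ L) (hc : ∀ d ∈ D, γ * d * γ⁻¹ * d⁻¹ ∈ 𝒞(D)) : γ ∈ pCore 2 X := by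
  have := h.Dn
  have hL : L.Normal := h.gen ▸ inferInstance
  have hC : (𝒞(D)).Normal := inferInstance
  let K : Subgroup X :=
    { carrier := {γ | γ ∈ L ∧ ∀ d ∈ D, γ * d * γ⁻¹ * d⁻¹ ∈ 𝒞(D)}
      mul_mem' := fun {a b} ha hb => ⟨L.mul_mem ha.1 hb.1, fun d hd => by
        convert mul_mem (hC.conj_mem _ (hb.2 d hd) a) (ha.2 d hd) using 1
        group⟩
      one_mem' := ⟨L.one_mem, fun d _ => by simp⟩
      inv_mem' := fun {a} ha => ⟨L.inv_mem ha.1, fun d hd => by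
        convert hC.conj_mem _ (inv_mem (ha.2 d hd)) a⁻¹ using 1
        group⟩ }
  have hK : K.Normal := ⟨fun a ha x => ⟨hL.conj_mem _ ha.1 x, fun d hd => by
    convert hC.conj_mem _ (ha.2 _ (h.Dn.conj_mem _ hd x⁻¹)) x using 1
    group⟩⟩
  have hQ := Grp.pCore_isPGroup 2 X
  have hodd : ∀ y ∈ K, Odd (orderOf y) → y = 1 := by
    intro y hy ho
    have hcop : ∀ P : Subgroup X, IsPGroup 2 P → (Nat.card (zpowers y)).Coprime (Nat.card P) := by
      intro P hP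
      obtain ⟨n, hn⟩ := IsPGroup.iff_card.1 hP
      rw [hn, Nat.card_zpowers]
      exact (Nat.coprime_two_right.2 ho).pow_right n
    have hyK : zpowers y ≤ K := (zpowers_le).2 hy
    have h1 : zpowers y ≤ 𝒞(D) := by
      refine Grp.le_centralizer_of_commutator_le_of_le_centralizer (N := D ⊓ 𝒞(D)) le_normalizer_of_normal
        (hcop D (hQ.to_le h.DQ)) (le_inf (commutator_le_left _ _) ?_) fun a ha d hd => ?_
      · rw [commutator_comm, commutator_le]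
        exact fun a ha d hd => (hyK ha).2 d hd
      · exact (h.ZL hd a (hyK ha).1).symm
    have h2 : zpowers y ≤ 𝒞(pCore 2 X) :=
      Grp.le_centralizer_of_commutator_le_of_le_centralizer (N := D) le_normalizer_of_normal (hcop _ hQ)
        ((commutator_mono le_rfl fun a ha => (hyK ha).1).trans h.QL) h1
    obtain ⟨k, hk⟩ := hQ ⟨y, h.c2 (h2 (mem_zpowers y))⟩
    have h3 : y ^ 2 ^ k = 1 := congrArg Subtype.val hk
    exact orderOf_eq_one_iff.1 (Nat.Coprime.eq_one_of_dvd ((Nat.coprime_two_right.2 ho).pow_right k)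
      (orderOf_dvd_of_pow_eq_one h3))
  have h2 : IsPGroup 2 K := by
    intro y
    obtain ⟨k, m, hm, e⟩ := Nat.exists_eq_two_pow_mul_odd (orderOf_pos (y : X)).ne'
    refine ⟨k, Subtype.ext (hodd _ (K.pow_mem y.2 _) ?_)⟩
    show Odd (orderOf ((y : X) ^ 2 ^ k))
    rw [orderOf_pow_of_dvd (by positivity) (e ▸ dvd_mul_right _ _), e, Nat.mul_div_cancel_left _ (by positivity)]
    exact hm
  exact Grp.le_pCore h2 (show γ ∈ K from ⟨hγ, hc⟩)

variable {V Z : Type u} [AddCommGroup V] [Module (ZMod 2) V] [Finite V] [AddCommGroup Z] [Module (ZMod 2) Z] [Finite Z]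

/-- the linearized data -/
structure Dat (c : Crd D V Z) (ρ : X →* (V ≃ₗ[ZMod 2] V)) (q : V → Z) (b : V →ₗ[ZMod 2] V →ₗ[ZMod 2] Z) : Prop where
  hq : ∀ x ∈ D, c.ι (q (c.π x)) = x * x
  hb : ∀ x ∈ D, ∀ y ∈ D, c.ι (b (c.π x) (c.π y)) = ⁅x, y⁆
  hρ : ∀ γ, ∀ x ∈ D, ρ γ (c.π x) = c.π (γ * x * γ⁻¹)

variable {c : Crd D V Z} {ρ : X →* (V ≃ₗ[ZMod 2] V)} {q : V → Z} {b : V →ₗ[ZMod 2] V →ₗ[ZMod 2] Z}

omit [Finite X] [Finite V] [Finite Z] in
theorem Dat.rad (t : Dat c ρ q b) {x : X} (hx : x ∈ D) : (∀ w, b (c.π x) w = 0) ↔ x ∈ 𝒞(D) := by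
  constructor
  · intro h1 y hy
    have := t.hb x hx y hy
    rw [h1, c.ι_zero] at this
    exact (commutatorElement_eq_one_iff_mul_comm.1 this.symm).symm
  · intro h1 w
    obtain ⟨y, hy, rfl⟩ := c.π_surj w
    rw [← c.ι_eq_one, t.hb x hx y hy]
    exact commutatorElement_eq_one_iff_mul_comm.2 (h1 y hy).symm

omit [Finite V] [Finite Z] in
theorem Dat.pre_cmt (t : Dat c ρ q b) [hD : D.Normal] (g : X) : c.pre (cmt (ρ g)) = ⁅D, zpowers g⁆ ⊔ ⁅D, D⁆ := by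
  refine le_antisymm ?_ (sup_le ?_ (c.le_pre _))
  · rintro x ⟨hx, v, hv⟩
    obtain ⟨d, hd, rfl⟩ := c.π_surj v
    have h1 : c.π (g * d * g⁻¹ * d⁻¹) = c.π x := by
      rw [c.π_mul _ (hD.conj_mem _ hd g) _ (D.inv_mem hd), c.π_inv hd, ← t.hρ g d hd, ← hv, ← sub_eq_add_neg]; rfl
    have h2 := (c.π_eq (D.mul_mem (hD.conj_mem _ hd g) (D.inv_mem hd)) hx).1 h1
    have h3 : g * d * g⁻¹ * d⁻¹ ∈ ⁅D, zpowers g⁆ := by
      rw [commutator_comm]; exact commutator_mem_commutator (mem_zpowers g) hd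
    have h4 := mul_mem (mem_sup_left h3) (mem_sup_right h2 : _ ∈ ⁅D, zpowers g⁆ ⊔ ⁅D, D⁆)
    rwa [mul_inv_cancel_left] at h4
  · rw [commutator_comm, commutator_le]
    intro a ha d hd
    obtain ⟨i, rfl⟩ := mem_powers_iff_mem_zpowers.2 ha
    refine ⟨D.mul_mem (hD.conj_mem _ hd _) (D.inv_mem hd), ?_⟩
    show c.π (g ^ i * d * (g ^ i)⁻¹ * d⁻¹) ∈ _
    rw [c.π_mul _ (hD.conj_mem _ hd _) _ (D.inv_mem hd), c.π_inv hd, ← t.hρ _ d hd, ← sub_eq_add_neg]
    generalize c.π d = v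
    clear ha
    induction i with
    | zero => simp
    | succ i ih =>
      have : ρ (g ^ (i + 1)) v - v = (ρ g (ρ (g ^ i) v) - ρ (g ^ i) v) + (ρ (g ^ i) v - v) := by
        rw [pow_succ', map_mul]; simp
      rw [this]
      exact add_mem ⟨ρ (g ^ i) v, rfl⟩ ih

theorem Dat.ls (t : Dat c ρ q b) (h : GS2 D L g) (hg : g ∈ L) : LS (ρ.comp L.subtype) q b ⟨g, hg⟩ := by
  have hD := h.Dn
  have hle : ⁅D, D⁆ ≤ D := commutator_le_self D
  have hc : ⁅D, D⁆ ≤ 𝒞(D) := h.cls.trans inf_le_left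
  have hK : ∀ γ : L, (∀ v w, b (ρ γ v - v) w = 0) → (γ : X) ∈ pCore 2 X := by
    intro γ h1
    refine mem_core h γ.2 fun d hd => (t.rad (D.mul_mem (hD.conj_mem _ hd _) (D.inv_mem hd))).1 fun w => ?_
    rw [c.π_mul _ (hD.conj_mem _ hd _) _ (D.inv_mem hd), c.π_inv hd, ← t.hρ _ d hd, ← sub_eq_add_neg, h1]
  refine ⟨⟨fun v w => ?_, fun S hS => ?_⟩, fun γ v => ?_, fun l hl => ?_, Subtype.ext h.g5, ?_, fun hs => h.nsol ?_,
    fun l hl => ?_, ?_, fun γ h1 => ?_⟩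
  · obtain ⟨x, hx, rfl⟩ := c.π_surj v
    obtain ⟨y, hy, rfl⟩ := c.π_surj w
    apply c.ι_inj
    rw [← c.π_mul x hx y hy, c.ι_add, c.ι_add, t.hq _ (D.mul_mem hx hy), t.hq x hx, t.hq y hy, t.hb x hx y hy]
    have h1 := commutator_mem_commutator hx hy
    have h2 := hc h1 _ (D.mul_mem (D.mul_mem hx hy) hy)
    have h3 : ⁅x, y⁆⁻¹ = ⁅x, y⁆ := inv_eq_of_mul_eq_one_right (h.el _ h1)
    calc _ = x * (⁅x, y⁆⁻¹ * (x * y * y)) := by simp only [commutatorElement_def]; group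
      _ = _ := by rw [h3, ← h2]; group
  · have hsq : ∀ x ∈ c.pre S, x * x = 1 := fun x hx => by rw [← t.hq x hx.1, hS _ hx.2, c.ι_zero]
    rw [← c.card_pre]
    refine h.rk _ ⟨⟨fun x y => Subtype.ext ?_⟩⟩ fun a ha => by rw [sq, hsq a ha]
    have h1 := hsq _ (mul_mem x.2 y.2)
    have h2 : (x : X)⁻¹ = x := inv_eq_of_mul_eq_one_right (hsq x x.2)
    have h3 : (y : X)⁻¹ = y := inv_eq_of_mul_eq_one_right (hsq y y.2)
    have h4 := inv_eq_of_mul_eq_one_right h1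
    rw [mul_inv_rev, h2, h3] at h4
    exact h4.symm
  · obtain ⟨x, hx, rfl⟩ := c.π_surj v
    apply c.ι_inj
    show c.ι (q (ρ γ (c.π x))) = _
    rw [t.hρ _ x hx, t.hq _ (hD.conj_mem _ hx _), t.hq x hx]
    have := (h.cls (h.sq x hx)).2 γ γ.2
    calc _ = γ * (x * x) * (γ : X)⁻¹ := by group
      _ = _ := by rw [this]; group
  · let K : Subgroup X :=
      { carrier := {x | ∃ a, l a = 0 ∧ c.ι a = x}
        mul_mem' := by
          rintro _ _ ⟨a, ha, rfl⟩ ⟨a', ha', rfl⟩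
          exact ⟨a + a', by rw [map_add, ha, ha', add_zero], c.ι_add a a'⟩
        one_mem' := ⟨0, map_zero l, c.ι_zero⟩
        inv_mem' := by
          rintro _ ⟨a, ha, rfl⟩
          exact ⟨-a, by rw [map_neg, ha, neg_zero], eq_inv_of_mul_eq_one_left (by
            rw [← c.ι_add, neg_add_cancel, c.ι_zero])⟩ }
    have h1 : ⁅D, D⁆ ≤ K := by
      rw [commutator_le]
      intro x hx y hy
      refine ⟨_, ?_, t.hb x hx y hy⟩
      have h2 : c.ι (q (c.π x + c.π y)) = c.ι (q (c.π x) + q (c.π y) + b (c.π x) (c.π y)) := by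
        rw [← c.π_mul x hx y hy, c.ι_add, c.ι_add, t.hq _ (D.mul_mem hx hy), t.hq x hx, t.hq y hy, t.hb x hx y hy]
        have h1 := commutator_mem_commutator hx hy
        have h2 := hc h1 _ (D.mul_mem (D.mul_mem hx hy) hy)
        have h3 : ⁅x, y⁆⁻¹ = ⁅x, y⁆ := inv_eq_of_mul_eq_one_right (h.el _ h1)
        calc _ = x * (⁅x, y⁆⁻¹ * (x * y * y)) := by simp only [commutatorElement_def]; group
          _ = _ := by rw [h3, ← h2]; group
      have h3 := congrArg l (c.ι_inj h2)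
      simpa [hl] using h3.symm
    refine LinearMap.ext fun a => ?_
    obtain ⟨a', h2, h3⟩ := h1 ((c.ι_mem _).2 ⟨a, rfl⟩)
    rw [← c.ι_inj h3, h2]; rfl
  · have h1 : L ≤ (normalClosure {(⟨g, hg⟩ : L)}).map L.subtype := by
      conv_lhs => rw [h.gen]
      refine (closure_le _).2 fun y hy => ?_
      obtain ⟨a, ha, h2⟩ := Group.mem_conjugatesOfSet_iff.1 hy
      obtain ⟨x, rfl⟩ := isConj_iff.1 h2
      rw [Set.mem_singleton_iff.1 ha]
      obtain ⟨l, hl, k, e⟩ := h.syl x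
      exact ⟨_, normalClosure_normal.conj_mem _ (pow_mem (subset_normalClosure (Set.mem_singleton _)) k) ⟨l, hl⟩,
        e.symm⟩
    refine eq_top_iff.2 fun y _ => ?_
    obtain ⟨y', h2, h3⟩ := h1 y.2
    exact (Subtype.ext h3 : y' = y) ▸ h2
  · have h1 : IsPGroup 2 (ρ.comp L.subtype).ker := by
      intro γ
      obtain ⟨k, hk⟩ := Grp.pCore_isPGroup 2 X ⟨_, hK γ fun v w => by
        have : ρ γ = 1 := γ.2
        rw [this]; simp⟩
      have hk' : ((γ : L) : X) ^ 2 ^ k = 1 := congrArg Subtype.val hk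
      exact ⟨k, Subtype.ext (Subtype.ext hk')⟩
    have := h1.isNilpotent
    exact Group.isSolvable_of_ker_le_range (ρ.comp L.subtype).ker.subtype (ρ.comp L.subtype).rangeRestrict (by
      rw [MonoidHom.ker_rangeRestrict, range_subtype])
  · have h1 : ⁅D, L⁆ ≤ c.pre (LinearMap.ker l) := by
      rw [commutator_comm, commutator_le]
      intro γ hγ d hd
      refine ⟨D.mul_mem (hD.conj_mem _ hd _) (D.inv_mem hd), ?_⟩
      show l (c.π (γ * d * γ⁻¹ * d⁻¹)) = 0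
      rw [c.π_mul _ (hD.conj_mem _ hd _) _ (D.inv_mem hd), c.π_inv hd, ← t.hρ _ d hd, map_add, map_neg]
      exact add_neg_eq_zero.2 (hl ⟨γ, hγ⟩ _)
    refine LinearMap.ext fun v => ?_
    obtain ⟨x, hx, rfl⟩ := c.π_surj v
    exact (h1 (h.DL hx)).2
  · have h1 := h.e16
    have h2 := Grp.card_mul_relIndex (c.le_pre (cmt (ρ g)))
    rw [← t.pre_cmt g] at h1
    rw [h1, c.card_pre, ← c.card_Z, mul_comm] at h2
    exact (Nat.eq_of_mul_eq_mul_right Nat.card_pos h2).symm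
  · refine LinearEquiv.ext fun v => ?_
    obtain ⟨x, hx, rfl⟩ := c.π_surj v
    show ρ γ (c.π x) = c.π x
    rw [t.hρ _ x hx, eq_comm, c.π_eq hx (hD.conj_mem _ hx _)]
    convert h.QD (commutator_mem_commutator (D.inv_mem hx) (hK γ h1)) using 1
    rw [commutatorElement_def]; group

theorem five (h : GS2 D L g) (hE : IsExtraspecial 2 D) : g ∉ 𝒞(D) ∧ g ∈ 𝒞(𝒞(D)) := by
  have hD := h.Dn
  have hg : g ∈ L := h.gen ▸ subset_normalClosure (Set.mem_singleton g)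
  have hQ := Grp.pCore_isPGroup 2 X
  refine ⟨fun h1 => ?_, fun r hr => ?_⟩
  · have h2 : ⁅D, zpowers g⁆ = ⊥ := by
      rw [commutator_comm, commutator_eq_bot_iff_le_centralizer, zpowers_le]; exact h1
    have h3 := h.e16
    rw [h2, bot_sup_eq, relIndex_self] at h3
    omega
  set R : Subgroup X := pCore 2 X ⊓ 𝒞(D) with hR
  have hRn : R.Normal := inferInstance
  have hgR : g ∈ 𝒞(R) := by
    refine Grp.le_centralizer_of_commutator_le_of_le_centralizer (A := zpowers g) (N := D ⊓ 𝒞(D))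
      le_normalizer_of_normal ?_ (le_inf ((commutator_mono inf_le_left ((zpowers_le).2 hg)).trans h.QL)
        ((commutator_le_left _ _).trans inf_le_right)) (fun a ha d hd => ?_) (mem_zpowers g)
    · obtain ⟨n, hn⟩ := IsPGroup.iff_card.1 (hQ.to_le (inf_le_left : R ≤ _))
      rw [hn, Nat.card_zpowers]
      exact (Nat.Coprime.coprime_dvd_left (orderOf_dvd_of_pow_eq_one h.g5) (by decide)).pow_right n
    · exact (h.ZL hd a ((zpowers_le).2 hg ha)).symm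
  have h1 : r * g * r⁻¹ * g⁻¹ ∈ 𝒞(D) := by
    convert mul_mem hr ((inferInstance : (𝒞(D)).Normal).conj_mem _ (inv_mem hr) g) using 1
    group
  have h2 : r * g * r⁻¹ * g⁻¹ ∈ 𝒞(R) := mul_mem ((inferInstance : (𝒞(R)).Normal).conj_mem _ hgR r) (inv_mem hgR)
  have h3 : r * g * r⁻¹ * g⁻¹ ∈ pCore 2 X := by
    refine h.c2 fun y hy => ?_
    have h4 := Grp.extra_mem_sup_centralizer hE (g := y) fun x hx => by
      have h5 : ⁅y, x⁆ ∈ ⁅D, D⁆ := h.QD (commutator_comm (pCore 2 X) D ▸ commutator_mem_commutator hy hx)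
      exact ⟨commutator_le_self D h5, (h.cls h5).1⟩
    obtain ⟨d, hd, s, hs, rfl⟩ := mem_sup_of_normal_left.1 h4
    have h5 : s ∈ R := ⟨by simpa using mul_mem (inv_mem (h.DQ hd)) hy, hs⟩
    rw [mul_assoc, h2 s h5, ← mul_assoc, h1 d hd, mul_assoc]
  have h4 : Commute (r * g * r⁻¹ * g⁻¹) g := hgR _ ⟨h3, h1⟩
  have h5 : (r * g * r⁻¹ * g⁻¹) ^ 5 = 1 := by
    have h6 := h4.mul_pow 5
    rw [inv_mul_cancel_right, conj_pow, h.g5] at h6
    simpa using h6.symm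
  obtain ⟨k, hk⟩ := hQ ⟨_, h3⟩
  have hk' : (r * g * r⁻¹ * g⁻¹) ^ 2 ^ k = 1 := congrArg Subtype.val hk
  have h6 := pow_gcd_eq_one.2 ⟨hk', h5⟩
  rw [Nat.Coprime.gcd_eq_one (Nat.Coprime.pow_left k (by decide)), pow_one] at h6
  calc r * g = r * g * r⁻¹ * g⁻¹ * (g * r) := by group
    _ = _ := by rw [h6, one_mul]

end CL.ON3.Loc

namespace CL.ON3

open Loc

universe u

theorem locThm_of (hB : LinBThm.{u}) (hC : LinCThm.{u}) : LocThm2.{u} := by
  intro X _ _ D L g h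
  have hD := h.Dn
  have hg : g ∈ L := h.gen ▸ subset_normalClosure (Set.mem_singleton g)
  have hle : ⁅D, D⁆ ≤ D := commutator_le_self D
  have hc : ⁅D, D⁆ ≤ 𝒞(D) := h.cls.trans inf_le_left
  obtain ⟨V, Z, _, _, _, _, _, _, ⟨c⟩⟩ := exists_crd D hc h.el h.sq
  obtain ⟨q, hq⟩ := c.exists_q hc h.el h.sq
  obtain ⟨b, hb⟩ := c.exists_b hc
  obtain ⟨ρ, hρ⟩ := c.exists_rho
  have t : Dat c ρ q b := ⟨hq, hb, hρ⟩
  have hls := t.ls h hg
  have hZ := hB _ _ _ _ _ _ _ hls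
  have hout := hC _ _ _ _ _ _ _ hls hZ
  obtain ⟨a₀, ha₀, hu⟩ := (Nat.card_eq_two_iff' (0 : Z)).1 hZ
  set z := c.ι a₀ with hz
  have hz1 : z ≠ 1 := fun e => ha₀ (c.ι_eq_one.1 e)
  have hzD : z ∈ ⁅D, D⁆ := (c.ι_mem _).2 ⟨a₀, rfl⟩
  have hD' : ∀ x ∈ ⁅D, D⁆, x = 1 ∨ x = z := by
    intro x hx
    obtain ⟨a, rfl⟩ := (c.ι_mem x).1 hx
    by_cases e : a = 0
    · exact Or.inl (c.ι_eq_one.2 e)
    · exact Or.inr (by rw [hu a e])
  have hcen : ∀ x, x * z = z * x := by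
    intro x
    rcases hD' _ ((inferInstance : (⁅D, D⁆).Normal).conj_mem _ hzD x) with e | e
    · exact absurd (by simpa using e) hz1
    · exact mul_inv_eq_iff_eq_mul.1 e
  have hcm : ∀ x ∈ D, ∀ y ∈ D, x * y = y * x ∨ x * y = y * x * z := by
    intro x hx y hy
    have e : x * y = ⁅x, y⁆ * (y * x) := by rw [commutatorElement_def]; group
    rcases hD' _ (commutator_mem_commutator hx hy) with h1 | h1
    · exact Or.inl (by rw [e, h1, one_mul])
    · exact Or.inr (by rw [e, h1, hcen])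
  have hctr : (∀ v, (∀ w, b v w = 0) → v = 0) → ∀ x ∈ D, x ∈ 𝒞(D) → x ∈ ⁅D, D⁆ := fun h1 x hx h2 =>
    (c.π_ker x hx).1 (h1 _ ((t.rad hx).2 h2))
  refine ⟨z, hcen, ⟨hz1, h.el z hzD, hle hzD, fun x _ => hcen x, fun x hx => hD' _ (h.sq x hx), hcm,
    fun y _ => le_normalizer_of_normal (mem_top y)⟩, ?_⟩
  rcases hout with ⟨h1, h2, h3⟩ | ⟨h1, ⟨a, ha, h2⟩, h3⟩ | ⟨h1, h2⟩
  · have hcard : Nat.card D = 32 := by rw [c.card_D, h1, hZ]
    have hcz : center D = (⁅D, D⁆).subgroupOf D := by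
      ext x
      rw [mem_subgroupOf, mem_center_iff]
      exact ⟨fun e => hctr h2 x x.2 fun y hy => congrArg Subtype.val (e ⟨y, hy⟩),
        fun e y => Subtype.ext (hc e y y.2)⟩
    have hcz2 : Nat.card (center D) = 2 := by
      rw [hcz, Nat.card_congr (subgroupOfEquivOfLe hle).toEquiv, ← c.card_Z, hZ]
    have hE : IsExtraspecial 2 D := by
      refine Grp.isExtraspecial_of_center hcz2 ?_ (fun e => ?_) ((Grp.pCore_isPGroup 2 X).to_le h.DQ)
      · rw [hcz, ← map_subtype_commutator]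
        exact fun x hx => ⟨x, hx, rfl⟩
      · rw [center_eq_top_iff.2 e, card_top, hcard] at hcz2
        omega
    refine Or.inl ⟨hcard, fun x hx e => hD' x (hctr h2 x hx e), fun A hA hsq => ?_, g, h.g5, hcen g, five h hE⟩
    let S : Submodule (ZMod 2) V := AddSubgroup.toZModSubmodule 2
      { carrier := {v | ∃ x ∈ A, c.π x = v}
        add_mem' := by
          rintro _ _ ⟨x, hx, rfl⟩ ⟨y, hy, rfl⟩
          exact ⟨_, A.mul_mem hx hy, c.π_mul x (hA hx) y (hA hy)⟩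
        zero_mem' := ⟨1, A.one_mem, c.π_one⟩
        neg_mem' := by
          rintro _ ⟨x, hx, rfl⟩
          exact ⟨_, A.inv_mem hx, c.π_inv (hA hx)⟩ }
    have h4 := h3 S (by
      rintro _ ⟨x, hx, rfl⟩
      rw [← c.ι_eq_one, hq x (hA hx), hsq x hx])
    have h5 := card_le_of_le (show A ≤ c.pre S from fun x hx => ⟨hA hx, x, hx, rfl⟩)
    rw [c.card_pre, hZ] at h5
    omega
  · obtain ⟨y, hy, rfl⟩ := c.π_surj a
    have hyy : y * y = z := (hD' _ (h.sq y hy)).resolve_left fun e => ha (c.ι_eq_one.1 ((hq y hy).trans e))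
    have hzy : ⁅D, D⁆ ≤ zpowers y := fun x hx => by
      rcases hD' x hx with rfl | rfl
      · exact one_mem _
      · rw [← hyy]; exact mul_mem (mem_zpowers y) (mem_zpowers y)
    refine Or.inr (Or.inl ⟨by rw [c.card_D, h1, hZ], ⟨y, hy, hyy, fun x hx => ⟨fun e => ?_, fun e => ?_⟩⟩,
      fun e he f hf ee ff e1 ez f1 fz => ?_⟩)
    · rcases (h2 _).1 ((t.rad hx).2 e) with h4 | h4
      · exact hzy ((c.π_ker x hx).1 h4)
      · simpa using mul_mem (mem_zpowers y) (hzy ((c.π_eq hy hx).1 h4.symm))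
    · exact (zpowers_le).2 ((t.rad hy).1 ((h2 _).2 (Or.inr rfl))) e
    · have hne : ∀ e ∈ D, e ≠ 1 → e ≠ z → c.π e ≠ 0 := fun e he e1 ez h4 =>
        (hD' e ((c.π_ker e he).1 h4)).elim e1 ez
      have hq0 : ∀ e ∈ D, e * e = 1 → q (c.π e) = 0 := fun e he ee => c.ι_eq_one.1 ((hq e he).trans ee)
      obtain ⟨γ, hγ⟩ := h3 _ _ (hne e he e1 ez) (hne f hf f1 fz) (hq0 e he ee) (hq0 f hf ff)
      have h4 := (c.π_eq (hD.conj_mem _ he γ) hf).1 ((hρ γ e he).symm.trans hγ)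
      rcases hD' _ h4 with h5 | h5
      · exact isConj_iff.2 ⟨γ, inv_mul_eq_one.1 h5⟩
      · have h6 : f ∉ 𝒞(D) := fun h7 => ((h2 _).1 ((t.rad hf).2 h7)).elim (hne f hf f1 fz) fun h8 =>
          ha (h8 ▸ hq0 f hf ff)
        obtain ⟨d, hd, h7⟩ : ∃ d ∈ D, d * f ≠ f * d := by
          by_contra h7
          push Not at h7
          exact h6 h7
        have h8 := (hcm d hd f hf).resolve_left h7
        refine isConj_iff.2 ⟨d⁻¹ * γ, ?_⟩
        have h9 : γ * e * (γ : X)⁻¹ = f * z := by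
          rw [inv_mul_eq_iff_eq_mul.1 h5, mul_assoc _ z, h.el z hzD, mul_one]
        calc _ = d⁻¹ * (γ * e * (γ : X)⁻¹) * d := by group
          _ = d⁻¹ * (f * d * z) := by rw [h9, mul_assoc f d, hcen d]; group
          _ = f := by rw [← h8]; group
  · exact Or.inr (Or.inr ⟨by rw [c.card_D, h1, hZ], fun x hx e => hD' x (hctr h2 x hx e)⟩)

end CL.ON3
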