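/-
Project ON3: fixed-point-free automorphisms of prime order `p ≥ 5` of a quadratic map with small singular subspaces.
-/
import Cfsg.Agent.ON3.Defs
import Cfsg.Agent.Suz.HigmanMain
import Cfsg.Agent.Grp.ExtraLin

set_option autoImplicit false
set_option linter.unusedSectionVars false
open Module

namespace CL.ON3

universe u

namespace PrimeJ

variable {W Z : Type*} [AddCommGroup W] [Module (ZMod 2) W] [Finite W] [AddCommGroup Z] [Module (ZMod 2) Z]
  [Finite Z] {q : W → Z} {b : W →ₗ[ZMod 2] W →ₗ[ZMod 2] Z} {σ : W ≃ₗ[ZMod 2] W} {p : ℕ}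

theorem card_eq (V : Type*) [AddCommGroup V] [Module (ZMod 2) V] [Finite V] :
    Nat.card V = 2 ^ finrank (ZMod 2) V := by
  rw [Module.natCard_eq_pow_finrank (K := ZMod 2), Nat.card_zmod]

theorem z2 (a : ZMod 2) : a = 0 ∨ a = 1 := by revert a; decide

theorem q0 (h : QD q b) : q 0 = 0 := by simpa using h.add 0 0

theorem alt (h : QD q b) (x : W) : b x x = 0 := by
  have := h.add x x
  rwa [ZModModule.add_self, ZModModule.add_self, q0 h, zero_add, eq_comm] at this

/-- the quadratic map -/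
def quad (h : QD q b) : QuadraticMap (ZMod 2) W Z where
  toFun := q
  toFun_smul a x := by rcases z2 a with rfl | rfl <;> simp [q0 h]
  exists_companion' := ⟨b, h.add⟩

theorem rk_le (h : QD q b) {S : Submodule (ZMod 2) W} (hS : ∀ v ∈ S, q v = 0) :
    finrank (ZMod 2) S + finrank (ZMod 2) Z ≤ 3 := by
  have := h.rk S hS
  rwa [card_eq, card_eq, ← pow_add, show 8 = 2 ^ 3 from rfl, Nat.pow_le_pow_iff_right one_lt_two] at this

theorem finrank_le (h : QD q b) [Nontrivial Z] : finrank (ZMod 2) W ≤ 7 := by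
  obtain ⟨S, hS, hm⟩ := (wellFounded_gt (α := Submodule (ZMod 2) W)).has_min {S | ∀ v ∈ S, q v = 0}
    ⟨⊥, fun v hv => by rw [(Submodule.mem_bot _).1 hv, q0 h]⟩
  obtain ⟨T, hT⟩ := S.exists_isCompl
  let φ : W →ₗ[ZMod 2] (S →ₗ[ZMod 2] Z) := (b.comp S.subtype).flip
  have hφ : ∀ w, w ∈ LinearMap.ker φ ↔ ∀ s ∈ S, b s w = 0 := fun w =>
    ⟨fun e s hs => LinearMap.congr_fun e ⟨s, hs⟩, fun e => LinearMap.ext fun s => e s s.2⟩
  have h1 : S ≤ LinearMap.ker φ := fun w hw => (hφ w).2 fun s hs => by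
    simpa [hS _ hw, hS _ hs, hS _ (S.add_mem hs hw)] using (h.add s w).symm
  have h2 := card_eq (T ⊓ LinearMap.ker φ : Submodule (ZMod 2) W) ▸ card_eq Z ▸
    CL.Higman.card_le_sq_of_anisotropic ((quad h).comp (T ⊓ LinearMap.ker φ).subtype) fun v hv => by
      have a : (v : W) ∈ S := by_contra fun k => hm (S ⊔ Submodule.span _ {v.1}) (fun x hx => by
        obtain ⟨s, hs, y, hy, rfl⟩ := Submodule.mem_sup.1 hx
        obtain ⟨a, rfl⟩ := Submodule.mem_span_singleton.1 hy
        rcases z2 a with rfl | rfl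
        · simpa using hS s hs
        · rw [one_smul, h.add, hS s hs, show q v = 0 from hv, (hφ _).1 v.2.2 s hs]; simp)
        (lt_of_le_of_ne le_sup_left fun e => k (e.ge (Submodule.mem_sup_right (Submodule.mem_span_singleton_self _))))
      exact Subtype.ext ((Submodule.mem_bot _).1 (hT.disjoint.le_bot ⟨a, v.2.1⟩))
  rw [← pow_mul, Nat.pow_le_pow_iff_right one_lt_two] at h2
  have h3 : S ⊔ T ⊓ LinearMap.ker φ = LinearMap.ker φ := by rw [← sup_inf_assoc_of_le _ h1, hT.sup_eq_top, top_inf_eq]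
  have h4 := Submodule.finrank_add_le_finrank_add_finrank S (T ⊓ LinearMap.ker φ)
  have h5 := φ.finrank_range_add_finrank_ker
  have h6 := (LinearMap.range φ).finrank_le
  have h7 := rk_le h hS
  have h8 := Module.finrank_pos (R := ZMod 2) (M := Z)
  rw [h3] at h4
  rw [finrank_linearMap] at h6
  generalize finrank (ZMod 2) S = s at *
  generalize finrank (ZMod 2) Z = z at *
  have h9 : s * z + s + z * 2 ≤ 7 := by
    obtain rfl | rfl | rfl : z = 1 ∨ z = 2 ∨ z = 3 := by omega
    all_goals omega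
  omega

theorem pow_mem {U : Submodule (ZMod 2) W} (hU : ∀ x ∈ U, σ x ∈ U) (n : ℕ) {x : W} (hx : x ∈ U) : (σ ^ n) x ∈ U := by
  induction n with
  | zero => exact hx
  | succ n ih => rw [pow_succ']; exact hU _ ih

theorem modEq (hp : p.Prime) (h1 : σ ^ p = 1) (h2 : ∀ w, σ w = w → w = 0) {U : Submodule (ZMod 2) W}
    (hU : ∀ x ∈ U, σ x ∈ U) : Nat.card U ≡ 1 [MOD p] := by
  classical
  have := Fact.mk hp
  have := Fintype.ofFinite U
  let f : Function.End U := fun x => ⟨σ x, hU _ x.2⟩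
  have e : ∀ (n : ℕ) (x : U), ((f ^ n) x : W) = (σ ^ n) x := fun n => by
    induction n with
    | zero => exact fun _ => rfl
    | succ n ih => exact fun x => by rw [pow_succ, pow_succ]; exact ih _
  have k := Equiv.Perm.card_fixedPoints_modEq (f := f) (p := p) (n := 1)
    (funext fun x => Subtype.ext (by rw [pow_one, e, h1]; rfl))
  rwa [show Fintype.card f.fixedPoints = 1 from Fintype.card_eq_one_iff.2 ⟨⟨0, Subtype.ext (map_zero σ)⟩,
    fun x => Subtype.ext (Subtype.ext (h2 _ (congrArg Subtype.val x.2)))⟩, ← Nat.card_eq_fintype_card] at k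

theorem odd_case (h : QD q b) [Nontrivial Z] (hp : p.Prime) (h1 : σ ^ p = 1) (h2 : ∀ w, σ w = w → w = 0)
    (h3 : ∀ w, q (σ w) = q w) {U : Submodule (ZMod 2) W} (hU : ∀ x ∈ U, σ x ∈ U) (h4 : Nat.card U = p + 1)
    (h5 : Odd (finrank (ZMod 2) U)) (h6 : 3 ≤ finrank (ZMod 2) U) : False := by
  have hb : ∀ x y, b (σ x) (σ y) = b x y := fun x y => by
    have := h.add (σ x) (σ y)
    rw [← map_add, h3, h3, h3, h.add] at this
    exact (add_left_cancel this).symm
  have hs : ∀ y ∈ U, ∃ x ∈ U, σ x = y := fun y hy => ⟨_, pow_mem hU (p - 1) hy, by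
    rw [← LinearEquiv.mul_apply, ← pow_succ', Nat.sub_add_cancel hp.one_le, h1]; rfl⟩
  have k1 : ∀ x ∈ U, ∀ y ∈ U, b x y = 0 := fun x hx y hy => (Module.forall_dual_apply_eq_zero_iff (ZMod 2) _).1 fun l => by
    let R : Submodule (ZMod 2) W := U ⊓ LinearMap.ker ((b.compr₂ l).compl₂ U.subtype)
    have hR : ∀ x, x ∈ R ↔ x ∈ U ∧ ∀ y ∈ U, l (b x y) = 0 := fun x => and_congr_right fun _ =>
      ⟨fun e s hs => LinearMap.congr_fun e ⟨s, hs⟩, fun e => LinearMap.ext fun s => e s s.2⟩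
    have a := modEq hp h1 h2 (U := R) fun x hx => (hR _).2 ⟨hU _ hx.1, fun y hy => by
      obtain ⟨y', hy', rfl⟩ := hs y hy
      rw [hb]; exact ((hR _).1 hx).2 y' hy'⟩
    obtain ⟨v, v1, v2⟩ : ∃ v : U, (∀ y : U, l (b v y) = 0) ∧ v ≠ 0 := by
      by_contra! k
      obtain ⟨m, hm⟩ := CL.Grp.even_finrank_of_isAlt (B := (b.compr₂ l).domRestrict₁₂ U U)
        (fun x => (congrArg l (alt h x)).trans (map_zero l)) k
      obtain ⟨n, hn⟩ := h5
      omega
    have c : Nontrivial R := ⟨⟨v, (hR _).2 ⟨v.2, fun y hy => v1 ⟨y, hy⟩⟩⟩, 0, fun e =>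
      v2 (Subtype.ext (congrArg (fun x : R => (x : W)) e))⟩
    have d : 1 < Nat.card R := Finite.one_lt_card
    have e := Nat.le_of_dvd (by omega) ((Nat.modEq_iff_dvd' d.le).1 a.symm)
    have f : R = U := SetLike.coe_injective (Set.eq_of_subset_of_ncard_le (inf_le_left : R ≤ U)
      (by rw [← Nat.card_coe_set_eq, ← Nat.card_coe_set_eq]; exact h4.le.trans (by
        show p + 1 ≤ Nat.card R; omega)))
    exact ((hR x).1 (f.ge hx)).2 y hy
  let g : U → U := fun x => ⟨σ x + x, U.add_mem (hU _ x.2) x.2⟩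
  have k2 : Function.Surjective g := Finite.surjective_of_injective fun x y e => Subtype.ext (sub_eq_zero.1 (h2 _ (by
    have e : σ x + x = σ y + y := congrArg Subtype.val e
    rw [map_sub]
    linear_combination (norm := abel) e - ZModModule.add_self (x : W) + ZModModule.add_self (y : W))))
  have k3 := rk_le h (S := U) fun v hv => by
    obtain ⟨x, e⟩ := k2 ⟨v, hv⟩
    rw [← show σ x + x = v from congrArg Subtype.val e, h.add, h3, k1 _ (hU _ x.2) _ x.2, add_zero,
      ZModModule.add_self]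
  have h8 := Module.finrank_pos (R := ZMod 2) (M := Z)
  omega

theorem exists_three (h1 : σ ^ 7 = 1) (h2 : ∀ w, σ w = w → w = 0) [Nontrivial W] :
    ∃ w ≠ 0, σ (σ (σ w)) ∈ Submodule.span (ZMod 2) {w, σ w, σ (σ w)} := by
  obtain ⟨w, hw⟩ := exists_ne (0 : W)
  have m : ∀ v : W, v ∈ Submodule.span (ZMod 2) {v, σ v, σ (σ v)} ∧ σ v ∈ Submodule.span (ZMod 2) {v, σ v, σ (σ v)} ∧
      σ (σ v) ∈ Submodule.span (ZMod 2) {v, σ v, σ (σ v)} := fun v =>
    ⟨Submodule.subset_span (by simp), Submodule.subset_span (by simp), Submodule.subset_span (by simp)⟩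
  by_cases e : σ (σ (σ w)) + (σ (σ w) + w) = 0
  · exact ⟨w, hw, eq_neg_of_add_eq_zero_left e ▸ neg_mem (add_mem (m w).2.2 (m w).1)⟩
  refine ⟨_, e, ?_⟩
  have h7 : σ (σ (σ (σ (σ (σ (σ w)))))) = w := LinearEquiv.congr_fun h1 w
  generalize hv : σ (σ (σ w)) + (σ (σ w) + w) = v
  have : σ (σ (σ v)) + (σ v + v) = 0 := h2 _ (by
    subst hv
    simp only [map_add, h7]
    linear_combination (norm := abel) ZModModule.add_self (σ (σ (σ (σ w)))) - ZModModule.add_self (σ (σ (σ w))))
  exact eq_neg_of_add_eq_zero_left this ▸ neg_mem (add_mem (m v).2.1 (m v).1)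

end PrimeJ

open PrimeJ in
theorem primeThm : PrimeThm.{u} := fun W Z _ _ _ _ _ _ q b σ p h hp h5 h1 h2 h3 _ _ => by
  have k1 := finrank_le h
  have k2 := Module.finrank_pos (R := ZMod 2) (M := W)
  have k3 := modEq hp h1 h2 (U := ⊤) fun _ _ => trivial
  have k4 := fun a b c => odd_case h hp h1 h2 h3 (U := ⊤) (fun _ _ => trivial) a b c
  rw [card_eq, finrank_top] at k3 k4
  rw [card_eq]
  generalize finrank (ZMod 2) W = n at *
  have k5 := (Nat.modEq_iff_dvd' (Nat.one_le_two_pow)).1 k3.symm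
  have k6 : ∀ r, r.Prime → p ∣ r → p = r := fun r a b => (Nat.prime_dvd_prime_iff_eq hp a).1 b
  interval_cases n
  · exact absurd (Nat.le_of_dvd one_pos k5) (by omega)
  · exact absurd (Nat.le_of_dvd three_pos k5) (by omega)
  · exact (k4 (by rw [k6 7 (by norm_num) k5]; rfl) (by decide) le_rfl).elim
  · refine ⟨((Nat.Prime.dvd_mul hp).1 (show p ∣ 3 * 5 from k5)).elim (fun e => ?_) (k6 5 (by norm_num)), rfl⟩
    exact absurd (Nat.le_of_dvd three_pos e) (by omega)
  · exact (k4 (by rw [k6 31 (by norm_num) k5]; rfl) (by decide) (by decide)).elim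
  · exfalso
    obtain rfl : p = 7 := ((Nat.Prime.dvd_mul hp).1 (show p ∣ 3 ^ 2 * 7 from k5)).elim
      (fun e => absurd (Nat.le_of_dvd three_pos (hp.dvd_of_dvd_pow e)) (by omega)) (k6 7 (by norm_num))
    obtain ⟨w, hw, e⟩ := exists_three h1 h2
    have hU : ∀ x ∈ Submodule.span (ZMod 2) {w, σ w, σ (σ w)}, σ x ∈ Submodule.span (ZMod 2) {w, σ w, σ (σ w)} :=
      fun x hx => (Submodule.span_le (p := (Submodule.span (ZMod 2) {w, σ w, σ (σ w)}).comap σ.toLinearMap)).2 (by
        rintro _ (rfl | rfl | rfl)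
        exacts [Submodule.subset_span (by simp), Submodule.subset_span (by simp), e]) hx
    have a := modEq hp h1 h2 hU
    have c : finrank (ZMod 2) (Submodule.span (ZMod 2) {w, σ w, σ (σ w)}) ≤ 3 := by
      classical
      have := finrank_span_finset_le_card (R := ZMod 2) ({w, σ w, σ (σ w)} : Finset W)
      rw [Set.finrank, Finset.coe_insert, Finset.coe_pair] at this
      exact this.trans Finset.card_le_three
    have d : finrank (ZMod 2) (Submodule.span (ZMod 2) {w, σ w, σ (σ w)}) ≠ 0 := fun k =>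
      hw ((Submodule.mem_bot _).1 ((Submodule.finrank_eq_zero.1 k).le (Submodule.subset_span (by simp))))
    have f := fun a b c => odd_case h hp h1 h2 h3 hU a b c
    rw [card_eq] at a f
    generalize finrank (ZMod 2) (Submodule.span (ZMod 2) {w, σ w, σ (σ w)}) = m at *
    interval_cases m
    exacts [d rfl, absurd a (by decide), absurd a (by decide), f rfl (by decide) le_rfl]
  · exact (k4 (by rw [k6 127 (by norm_num) k5]; rfl) (by decide) (by decide)).elim

end CL.ON3
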