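/-
ON3: basic facts on the frame `Fr V f x ρ` and on the action `φ` on the six cyclic subgroups of order 4.
-/
import Cfsg.Agent.ON3.Defs

set_option autoImplicit false
open Cfsg Subgroup CL.Even

namespace CL.ON3

theorem th_mul : ∀ a b, th (a * b) = th a * th b := by decide +kernel
theorem xi_mul : ∀ a b, xi (a * b) = xi a * xi b := by decide +kernel
theorem th_th_th : ∀ a, th (th (th a)) = a := by decide +kernel
theorem xi_xi : ∀ a, xi (xi a) = qi * a * qi⁻¹ := by decide +kernel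
theorem th_qm : th qm = qm := by decide +kernel
theorem xi_qm : xi qm = qm := by decide +kernel
theorem th_bas : ∀ k, th (bas k) = bas (k + 1) := by decide +kernel
theorem xi_bas : ∀ k, xi (bas k) = bas (![0, 2, 1] k) ∨ xi (bas k) = bas (![0, 2, 1] k) * qm := by decide +kernel
theorem th_surj : Function.Surjective th := by decide +kernel
theorem xi_surj : Function.Surjective xi := by decide +kernel
theorem qm_qm : qm * qm = 1 := by decide +kernel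
theorem qm_comm : ∀ a, a * qm = qm * a := by decide +kernel
theorem bas_sq : ∀ k, bas k * bas k = qm := by decide +kernel
theorem q8_cases : ∀ a : Q8, a = 1 ∨ a = qm ∨ ∃ k, a = bas k ∨ a = bas k * qm := by decide +kernel
theorem bas_ncomm : ∀ k k', k ≠ k' → bas k * bas k' ≠ bas k' * bas k := by decide +kernel

/-- the two embeddings of `Q₈` in `Q₈ × Q₈` -/
def em (s : Fin 2) (a : Q8) : Q8 × Q8 := if s = 0 then (a, 1) else (1, a)

/-- equality modulo the centre -/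
def cls (p p' : Q8 × Q8) : Prop := (p.1 = p'.1 ∨ p.1 = p'.1 * qm) ∧ (p.2 = p'.2 ∨ p.2 = p'.2 * qm)

instance (p p' : Q8 × Q8) : Decidable (cls p p') := by unfold cls; infer_instance

variable {G : Type*} [Group G]

/-- equality modulo `z` -/
def pm (z a b : G) : Prop := a = b ∨ a = b * z

theorem pm.rfl {z a : G} : pm z a a := Or.inl _root_.rfl

theorem pm.symm {z a b : G} (hz : z * z = 1) (h : pm z a b) : pm z b a :=
  h.elim (fun e => Or.inl e.symm) fun e => Or.inr (by rw [e, mul_assoc, hz, mul_one])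

theorem pm.trans {z a b c : G} (hz : z * z = 1) (h : pm z a b) (h' : pm z b c) : pm z a c := by
  rcases h with rfl | rfl
  · exact h'
  · rcases h' with rfl | rfl
    · exact Or.inr _root_.rfl
    · exact Or.inl (by rw [mul_assoc, hz, mul_one])

theorem pm.mul {z a b c d : G} (hz : z * z = 1) (hd : z * d = d * z) (h : pm z a b) (h' : pm z c d) :
    pm z (a * c) (b * d) := by
  rcases h with rfl | rfl <;> rcases h' with rfl | rfl
  · exact Or.inl _root_.rfl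
  · exact Or.inr (mul_assoc _ _ _).symm
  · exact Or.inr (by rw [mul_assoc, hd, mul_assoc])
  · exact Or.inl (by rw [mul_assoc, ← mul_assoc z, hd, mul_assoc d, hz, mul_one])

theorem pm.conj {z a b g : G} (hg : g * z * g⁻¹ = z) (h : pm z a b) : pm z (g * a * g⁻¹) (g * b * g⁻¹) := by
  rcases h with rfl | rfl
  · exact Or.inl _root_.rfl
  · exact Or.inr (by rw [← conj_mul, hg])

theorem pm.mem {z a b : G} {K : Subgroup G} (h : pm z a b) (hz : z ∈ K) (hb : b ∈ K) : a ∈ K :=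
  h.elim (fun e => e ▸ hb) fun e => e ▸ K.mul_mem hb hz

namespace Fr

variable {V : Subgroup G} {f : Fin 2 → (Q8 →* G)} {x ρ : G} (h : Fr V f x ρ)

/-- the map `Q₈ × Q₈ → Q` -/
def F : Q8 × Q8 →* G := (f 0).noncommCoprod (f 1) h.comm

theorem F_apply (p : Q8 × Q8) : h.F p = f 0 p.1 * f 1 p.2 := rfl

theorem F_em (s : Fin 2) (a : Q8) : h.F (em s a) = f s a := by
  fin_cases s <;> simp [em, F_apply]

theorem range_F : h.F.range = QQ f := MonoidHom.noncommCoprod_range _ _ _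

theorem mem_Q' {g : G} : g ∈ QQ f ↔ ∃ p, h.F p = g := by rw [← h.range_F]; rfl

theorem F_mem (p : Q8 × Q8) : h.F p ∈ QQ f := h.mem_Q'.2 ⟨p, rfl⟩

include h

theorem mem_Q {g : G} : g ∈ QQ f ↔ ∃ a b, g = f 0 a * f 1 b :=
  h.mem_Q'.trans ⟨fun ⟨p, e⟩ => ⟨p.1, p.2, e.symm⟩, fun ⟨a, b, e⟩ => ⟨(a, b), e.symm⟩⟩

theorem f_mem (s : Fin 2) (a : Q8) : f s a ∈ QQ f := h.F_em s a ▸ h.F_mem _

theorem f_qm (s : Fin 2) : f s qm = f 0 qm := by
  fin_cases s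
  · rfl
  · exact h.zz

omit h in
theorem z_z : f 0 qm * f 0 qm = 1 := by rw [← map_mul, qm_qm, map_one]

theorem z_ne : f 0 qm ≠ 1 := fun e => absurd (h.inj 0 (e.trans (map_one _).symm)) (by decide)

theorem f_z (s : Fin 2) (a : Q8) : f s a * f 0 qm = f 0 qm * f s a := by
  rw [← h.f_qm s, ← map_mul, qm_comm, map_mul]

theorem Q_z {g : G} (hg : g ∈ QQ f) : g * f 0 qm = f 0 qm * g := by
  obtain ⟨a, b, rfl⟩ := h.mem_Q.1 hg
  rw [mul_assoc, h.f_z, ← mul_assoc, h.f_z, mul_assoc]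

theorem Q_le_cen : QQ f ≤ cen (f 0 qm) := fun _ hg => mem_centralizer_singleton_iff.2 (h.Q_z hg)

theorem F_eq_one {p : Q8 × Q8} : h.F p = 1 ↔ p = 1 ∨ p = (qm, qm) := by
  obtain ⟨a, b⟩ := p
  constructor
  · intro e
    have e1 : f 0 a = f 1 b⁻¹ := by rw [map_inv]; exact eq_inv_of_mul_eq_one_left e
    rcases h.meet _ _ e1 with rfl | rfl
    · exact Or.inl (by rw [inv_eq_one.1 (h.inj 1 (e1.symm.trans ((map_one _).trans (map_one _).symm)))]; rfl)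
    · exact Or.inr (by rw [inv_eq_iff_eq_inv.1 (h.inj 1 (e1.symm.trans h.zz.symm))]; decide)
  · rintro (e | e) <;> rw [e]
    · exact map_one _
    · rw [F_apply, h.zz, z_z]

theorem F_eq {p p' : Q8 × Q8} : h.F p = h.F p' ↔ p = p' ∨ p = (qm, qm) * p' := by
  rw [← mul_inv_eq_one, ← map_inv, ← map_mul, h.F_eq_one, mul_inv_eq_one, mul_inv_eq_iff_eq_mul]

theorem eq_iff {a b a' b' : Q8} : f 0 a * f 1 b = f 0 a' * f 1 b' ↔ (a, b) = (a', b') ∨ (a, b) = (qm * a', qm * b') :=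
  h.F_eq (p := (a, b)) (p' := (a', b'))

theorem F_z : h.F (qm, 1) = f 0 qm := h.F_em 0 qm

theorem pm_F {p p' : Q8 × Q8} : pm (f 0 qm) (h.F p) (h.F p') ↔ cls p p' := by
  unfold pm
  rw [← h.F_z, ← map_mul, h.F_eq, h.F_eq]
  revert p p'
  decide +kernel

theorem card_Q : Nat.card (QQ f) = 32 := by
  have h1 := h.F.ker.card_mul_index
  have h2 : h.F.ker = zpowers (qm, qm) := by
    refine le_antisymm (fun p hp => ?_) ((zpowers_le).2 (h.F_eq_one.2 (Or.inr rfl)))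
    rcases h.F_eq_one.1 hp with rfl | rfl
    · exact one_mem _
    · exact mem_zpowers _
  have h3 : orderOf ((qm, qm) : Q8 × Q8) = 2 := orderOf_eq_prime (by decide) (by decide)
  rw [index_ker, h.range_F, h2, Nat.card_zpowers, h3, Nat.card_prod, Nat.card_eq_fintype_card (α := Q8),
    QuaternionGroup.card] at h1
  omega

theorem Q_isP : IsPGroup 2 (QQ f) := IsPGroup.of_card (n := 5) h.card_Q

theorem z_mem_V : f 0 qm ∈ V := (h.memV _).2 ⟨1, Or.inr (by simp)⟩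

theorem V_le_Q : V ≤ QQ f := fun g hg => by
  obtain ⟨a, e⟩ := (h.memV g).1 hg
  exact pm.mem e (h.f_mem 0 qm) (h.F_mem (a, a))

theorem mem_V {g : G} : g ∈ V ↔ pm (f 0 qm) g 1 ∨ ∃ k, pm (f 0 qm) g (f 0 (bas k) * f 1 (bas k)) := by
  rw [h.memV]
  constructor
  · rintro ⟨a, e⟩
    have : ∀ a : Q8, cls (a, a) 1 ∨ ∃ k, cls (a, a) (bas k, bas k) := by decide +kernel
    rcases this a with h1 | ⟨k, h1⟩
    · exact Or.inl (pm.trans z_z e (map_one h.F ▸ h.pm_F.2 h1))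
    · exact Or.inr ⟨k, pm.trans z_z e (h.pm_F.2 h1)⟩
  · rintro (e | ⟨k, e⟩)
    · exact ⟨1, by simpa [pm] using e⟩
    · exact ⟨_, e⟩

theorem F_mem_V {p : Q8 × Q8} : h.F p ∈ V ↔ p.1 = p.2 ∨ p.1 = p.2 * qm := by
  rw [h.memV]
  have : ∀ p : Q8 × Q8, (∃ a, cls p (a, a)) ↔ p.1 = p.2 ∨ p.1 = p.2 * qm := by decide +kernel
  rw [← this]
  exact exists_congr fun a => h.pm_F (p' := (a, a))

omit h in
/-- an element acting on `f s` as a surjective map into `f s` normalizes the range -/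
theorem norm_range [Finite G] {g : G} {s : Fin 2} {α : Q8 → Q8} (hg : ∀ a, g * f s a * g⁻¹ = f s (α a)) :
    g ∈ 𝒩((f s).range) :=
  mem_normalizer_fintype (by rintro _ ⟨a, rfl⟩; exact ⟨α a, (hg a).symm⟩)

omit h in
theorem norm_Q {g : G} (hg : ∀ s, g ∈ 𝒩((f s).range)) : g ∈ 𝒩(QQ f) :=
  normalizer_inf_normalizer_le_normalizer_sup _ _ ⟨hg 0, hg 1⟩

theorem norm_Q' [Finite G] {g : G} (hg : ∀ s a, g * f s a * g⁻¹ ∈ QQ f) : g ∈ 𝒩(QQ f) :=
  mem_normalizer_fintype fun q hq => by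
    obtain ⟨a, b, rfl⟩ := h.mem_Q.1 hq
    rw [← conj_mul]
    exact mul_mem (hg 0 a) (hg 1 b)

theorem x_range [Finite G] (s : Fin 2) : x ∈ 𝒩((f s).range) := norm_range (h.xact s)
theorem ρ_range [Finite G] (s : Fin 2) : ρ ∈ 𝒩((f s).range) := norm_range (h.rho s)
theorem x_Q [Finite G] : x ∈ 𝒩(QQ f) := norm_Q h.x_range
theorem ρ_Q [Finite G] : ρ ∈ 𝒩(QQ f) := norm_Q h.ρ_range

theorem conj_F (p : Q8 × Q8) (s : Fin 2) (a : Q8) :
    h.F p * f s a * (h.F p)⁻¹ = f s (if s = 0 then p.1 * a * p.1⁻¹ else p.2 * a * p.2⁻¹) := by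
  rw [← h.F_em s a, ← h.F_em s, ← map_inv, ← map_mul, ← map_mul]
  congr 1
  fin_cases s <;> ext <;> simp [em]

theorem Q_range [Finite G] (s : Fin 2) : QQ f ≤ 𝒩((f s).range) := fun g hg => by
  obtain ⟨p, rfl⟩ := h.mem_Q'.1 hg
  exact norm_range (h.conj_F p s)

theorem norm_z {g : G} (hg : g ∈ 𝒩(QQ f)) : g * f 0 qm * g⁻¹ = f 0 qm := by
  refine (h.cQ _ fun y hy => ?_).resolve_left fun e => h.z_ne (by simpa using e)
  have h1 := h.Q_z ((mem_normalizer_iff''.1 hg y).1 hy)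
  calc _ = g * (g⁻¹ * y * g * f 0 qm) * g⁻¹ := by group
    _ = _ := by rw [h1]; group

theorem normQ_le_cen : 𝒩(QQ f) ≤ cen (f 0 qm) := fun _ hg =>
  mem_centralizer_singleton_iff.2 (mul_inv_eq_iff_eq_mul.1 (h.norm_z hg))

theorem Y_le [Finite G] : QQ f ⊔ closure {x, ρ} ≤ 𝒩(QQ f) :=
  sup_le le_normalizer ((closure_le _).2 (by rintro _ (rfl | rfl); exacts [h.x_Q, h.ρ_Q]))

theorem bas_uq {s s' : Fin 2} {k k' : Fin 3} (e : pm (f 0 qm) (f s (bas k)) (f s' (bas k'))) : (s, k) = (s', k') := by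
  rw [← h.F_em s, ← h.F_em s', h.pm_F] at e
  revert s s' k k'
  decide +kernel

/-- Adjusting the signs by an element of `Q`. -/
theorem adjust {g : G} (hz : g * f 0 qm * g⁻¹ = f 0 qm) (t : Fin 2 → Fin 2) (α : Fin 2 → Q8 → Q8)
    (hα : ∀ s a b, α s (a * b) = α s a * α s b) (hi : ∀ s, pm (f 0 qm) (g * f s qi * g⁻¹) (f (t s) (α s qi)))
    (hj : ∀ s, pm (f 0 qm) (g * f s qj * g⁻¹) (f (t s) (α s qj))) :
    ∃ q ∈ QQ f, ∀ s a, g * q * f s a * (g * q)⁻¹ = f (t s) (α s a) := by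
  have key : ∀ s, ∃ c : Q8, g * f s (c * qi * c⁻¹) * g⁻¹ = f (t s) (α s qi) ∧
      g * f s (c * qj * c⁻¹) * g⁻¹ = f (t s) (α s qj) := by
    intro s
    have neg : ∀ a y, g * f s a * g⁻¹ = y * f 0 qm → g * f s (a * qm) * g⁻¹ = y := fun a y e => by
      rw [map_mul, h.f_qm, ← conj_mul, e, hz, mul_assoc, z_z, mul_one]
    rcases hi s with h1 | h1 <;> rcases hj s with h2 | h2
    · exact ⟨1, by simpa using h1, by simpa using h2⟩
    · exact ⟨qi, by simpa using h1, by rw [show qi * qj * qi⁻¹ = qj * qm by decide]; exact neg _ _ h2⟩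
    · exact ⟨qj, by rw [show qj * qi * qj⁻¹ = qi * qm by decide]; exact neg _ _ h1, by simpa using h2⟩
    · exact ⟨qk, by rw [show qk * qi * qk⁻¹ = qi * qm by decide]; exact neg _ _ h1,
        by rw [show qk * qj * qk⁻¹ = qj * qm by decide]; exact neg _ _ h2⟩
  choose c hc using key
  refine ⟨h.F (c 0, c 1), h.F_mem _, fun s a => ?_⟩
  have e : ∀ a, g * h.F (c 0, c 1) * f s a * (g * h.F (c 0, c 1))⁻¹ = g * f s (c s * a * (c s)⁻¹) * g⁻¹ := by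
    intro a
    have : f s (c s * a * (c s)⁻¹) = h.F (c 0, c 1) * f s a * (h.F (c 0, c 1))⁻¹ := by
      rw [h.conj_F]; fin_cases s <;> rfl
    rw [this]; group
  let A : Q8 →* G := (MulAut.conj (g * h.F (c 0, c 1))).toMonoidHom.comp (f s)
  let B : Q8 →* G := (f (t s)).comp (MonoidHom.mk' (α s) (hα s))
  have h1 : A (.a 1) = B (.a 1) := (e qi).trans (hc s).1
  have h2 : A (.xa 0) = B (.xa 0) := (e qj).trans (hc s).2
  exact (Transfer.map_q8Fun A a).trans (by rw [h1, h2]; exact (Transfer.map_q8Fun B a).symm)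

theorem cent_Q {g : G} (hg : ∀ s a, g * f s a * g⁻¹ = f s a) : g = 1 ∨ g = f 0 qm :=
  h.cQ g fun y hy => by
    obtain ⟨a, b, rfl⟩ := h.mem_Q.1 hy
    rw [← mul_inv_eq_iff_eq_mul.1 (show g * (f 0 a * f 1 b) * g⁻¹ = _ by rw [← conj_mul, hg, hg])]

end Fr

theorem R3.range [Finite G] {f : Fin 2 → (Q8 →* G)} {r : G} (h : R3 f r) (s : Fin 2) : r ∈ 𝒩((f s).range) := by
  fin_cases s
  · exact Fr.norm_range h.r0
  · exact Fr.norm_range (α := id) h.r1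

theorem R3.mem_Q [Finite G] {f : Fin 2 → (Q8 →* G)} {r : G} (h : R3 f r) : r ∈ 𝒩(QQ f) := Fr.norm_Q h.range

/-- a general block preserving map -/
def mkp (e₀ e₁ : Fin 2) (a₀ a₁ a₂ b₀ b₁ b₂ : Fin 3) (i : Fin 2 × Fin 3) : Fin 2 × Fin 3 :=
  if i.1 = 0 then (e₀, if i.2 = 0 then a₀ else if i.2 = 1 then a₁ else a₂)
  else (e₁, if i.2 = 0 then b₀ else if i.2 = 1 then b₁ else b₂)

theorem eq_mkp (π : Fin 2 × Fin 3 → Fin 2 × Fin 3) (hπ : ∀ s k k', (π (s, k)).1 = (π (s, k')).1) :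
    ∃ e₀ e₁ a₀ a₁ a₂ b₀ b₁ b₂, π = mkp e₀ e₁ a₀ a₁ a₂ b₀ b₁ b₂ := by
  refine ⟨(π (0, 0)).1, (π (1, 0)).1, (π (0, 0)).2, (π (0, 1)).2, (π (0, 2)).2, (π (1, 0)).2, (π (1, 1)).2,
    (π (1, 2)).2, funext fun ⟨s, k⟩ => ?_⟩
  fin_cases s <;> fin_cases k <;> exact Prod.ext (hπ _ _ _) rfl

namespace Phi

variable {V : Subgroup G} {f : Fin 2 → (Q8 →* G)} {x ρ : G} {φ : 𝒩(QQ f) →* Equiv.Perm (Fin 2 × Fin 3)}
  (hφ : Phi f φ) (h : Fr V f x ρ)
include hφ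

theorem act' (g : 𝒩(QQ f)) (s : Fin 2) (k : Fin 3) :
    pm (f 0 qm) ((g : G) * f s (bas k) * (g : G)⁻¹) (f (φ g (s, k)).1 (bas (φ g (s, k)).2)) := hφ.act g s k

include h

theorem eq {g : 𝒩(QQ f)} {s s' : Fin 2} {k k' : Fin 3}
    (e : pm (f 0 qm) ((g : G) * f s (bas k) * (g : G)⁻¹) (f s' (bas k'))) : φ g (s, k) = (s', k') :=
  h.bas_uq (((hφ.act' g s k).symm Fr.z_z).trans Fr.z_z e)

theorem val_th {g : 𝒩(QQ f)} {s s' : Fin 2} (hg : ∀ a, (g : G) * f s a * (g : G)⁻¹ = f s' (th a)) (k : Fin 3) :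
    φ g (s, k) = (s', k + 1) := hφ.eq h (Or.inl (by rw [hg, th_bas]))

theorem val_id {g : 𝒩(QQ f)} {s s' : Fin 2} (hg : ∀ a, (g : G) * f s a * (g : G)⁻¹ = f s' a) (k : Fin 3) :
    φ g (s, k) = (s', k) := hφ.eq h (Or.inl (hg _))

theorem val_xi {g : 𝒩(QQ f)} {s s' : Fin 2} (hg : ∀ a, (g : G) * f s a * (g : G)⁻¹ = f s' (xi a)) (k : Fin 3) :
    φ g (s, k) = (s', ![0, 2, 1] k) := by
  refine hφ.eq h ?_
  rw [hg]
  rcases xi_bas k with e | e <;> rw [e]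
  · exact pm.rfl
  · exact Or.inr (by rw [map_mul, h.f_qm])

theorem val_ρ (hρ : ρ ∈ 𝒩(QQ f)) (s : Fin 2) (k : Fin 3) : φ ⟨ρ, hρ⟩ (s, k) = (s, k + 1) := hφ.val_th h (h.rho s) k

theorem val_x (hx : x ∈ 𝒩(QQ f)) (s : Fin 2) (k : Fin 3) : φ ⟨x, hx⟩ (s, k) = (s, ![0, 2, 1] k) :=
  hφ.val_xi h (h.xact s) k

theorem val_r0 {r : G} (hr : R3 f r) (hr' : r ∈ 𝒩(QQ f)) (k : Fin 3) : φ ⟨r, hr'⟩ (0, k) = (0, k + 1) :=
  hφ.val_th h hr.r0 k

theorem val_r1 {r : G} (hr : R3 f r) (hr' : r ∈ 𝒩(QQ f)) (k : Fin 3) : φ ⟨r, hr'⟩ (1, k) = (1, k) :=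
  hφ.val_id h hr.r1 k

theorem norm_V [Finite G] {g : 𝒩(QQ f)} (hg : ∀ k, (φ g (0, k)).2 = (φ g (1, k)).2) : (g : G) ∈ 𝒩(V) := by
  have hz := h.norm_z g.2
  refine mem_normalizer_fintype fun v hv => h.mem_V.2 ?_
  rcases h.mem_V.1 hv with e | ⟨k, e⟩
  · exact Or.inl (by simpa using e.conj hz)
  · refine Or.inr ⟨(φ g (0, k)).2, (e.conj hz).trans Fr.z_z ?_⟩
    rw [← conj_mul]
    refine ((hφ.act' g 0 k).mul Fr.z_z (h.f_z _ _).symm (hφ.act' g 1 k)).trans Fr.z_z (Or.inl ?_)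
    have h1 : (φ g (0, k)).1 ≠ (φ g (1, k)).1 := fun e => absurd ((φ g).injective (Prod.ext e (hg k))) (by simp)
    rw [← hg k]
    generalize (φ g (0, k)).1 = s at h1
    generalize (φ g (1, k)).1 = s' at h1
    fin_cases s <;> fin_cases s'
    · exact absurd rfl h1
    · rfl
    · exact (h.comm _ _).symm
    · exact absurd rfl h1

theorem delta [Finite G] {g : 𝒩(QQ f)} (hg : (g : G) ∈ QQ f ⊔ closure {x, ρ}) :
    ∃ π : Equiv.Perm (Fin 3), ∀ s k, φ g (s, k) = (s, π k) := by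
  let d : Equiv.Perm (Fin 3) →* Equiv.Perm (Fin 2 × Fin 3) :=
    MonoidHom.mk' (fun π => Equiv.prodCongr (Equiv.refl _) π) fun _ _ => rfl
  have h1 : QQ f ⊔ closure {x, ρ} ≤ (d.range.comap φ).map (Subgroup.subtype _) := by
    refine sup_le (fun q hq => ⟨⟨q, le_normalizer hq⟩, ?_, rfl⟩) ((closure_le _).2 ?_)
    · rw [SetLike.mem_coe, mem_comap, (hφ.ker _).2 hq]; exact one_mem _
    · rintro _ (rfl | rfl)
      · refine ⟨⟨_, h.x_Q⟩, ⟨Equiv.swap 1 2, Equiv.ext fun ⟨s, k⟩ => ?_⟩, rfl⟩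
        rw [hφ.val_x h]; revert s k; decide
      · refine ⟨⟨_, h.ρ_Q⟩, ⟨Equiv.addRight 1, Equiv.ext fun ⟨s, k⟩ => ?_⟩, rfl⟩
        rw [hφ.val_ρ h]; rfl
  obtain ⟨g', ⟨π, e⟩, e'⟩ := h1 hg
  refine ⟨π, fun s k => ?_⟩
  rw [← (Subtype.ext e' : g' = g), ← e]; rfl

theorem Q_V [Finite G] : QQ f ≤ 𝒩(V) := fun q hq =>
  hφ.norm_V h (g := ⟨q, le_normalizer hq⟩) fun k => by rw [(hφ.ker _).2 hq]; rfl

theorem x_V [Finite G] : x ∈ 𝒩(V) := hφ.norm_V h (g := ⟨x, h.x_Q⟩) fun k => by rw [hφ.val_x h, hφ.val_x h]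

theorem ρ_V [Finite G] : ρ ∈ 𝒩(V) := hφ.norm_V h (g := ⟨ρ, h.ρ_Q⟩) fun k => by rw [hφ.val_ρ h, hφ.val_ρ h]

end Phi

end CL.ON3
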