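/-
ON3-PHI: the action on the six cyclic subgroups of order 4 of `Q`, and `C(z) ≤ N(Q)`.
-/
import Cfsg.Agent.ON3.FrBas
import Cfsg.Agent.Grp.Coprime2

set_option autoImplicit false
open Cfsg Subgroup CL.Even

namespace CL.ON3

universe u

theorem phiThm : PhiThm.{u} := by
  intro G _ _ V f x ρ h
  have ex : ∀ (g : 𝒩(QQ f)) (i : Fin 2 × Fin 3), ∃ j : Fin 2 × Fin 3,
      pm (f 0 qm) ((g : G) * f i.1 (bas i.2) * (g : G)⁻¹) (f j.1 (bas j.2)) := by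
    intro g i
    obtain ⟨p, hp⟩ := h.mem_Q'.1 ((mem_normalizer_iff.1 g.2 _).1 (h.f_mem i.1 (bas i.2)))
    have h1 : h.F (p * p) = h.F (qm, 1) := by
      rw [map_mul, hp, conj_mul, ← map_mul, bas_sq, h.f_qm, h.norm_z g.2, h.F_z]
    have h2 : ∀ p : Q8 × Q8, (p * p = (qm, 1) ∨ p * p = (qm, qm) * (qm, 1)) →
        ∃ j : Fin 2 × Fin 3, cls p (em j.1 (bas j.2)) := by decide +kernel
    obtain ⟨j, hj⟩ := h2 p (h.F_eq.1 h1)
    exact ⟨j, by rw [← hp, ← h.F_em j.1]; exact h.pm_F.2 hj⟩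
  choose φ₀ hφ using ex
  have uq : ∀ (g : 𝒩(QQ f)) (i j : Fin 2 × Fin 3),
      pm (f 0 qm) ((g : G) * f i.1 (bas i.2) * (g : G)⁻¹) (f j.1 (bas j.2)) → φ₀ g i = j := fun g i j e =>
    h.bas_uq (((hφ g i).symm Fr.z_z).trans Fr.z_z e)
  let ψ : 𝒩(QQ f) →* Function.End (Fin 2 × Fin 3) :=
    { toFun := φ₀
      map_one' := funext fun i => uq 1 i i (Or.inl (by simp))
      map_mul' := fun a b => funext fun i => uq _ _ _ (by
        refine pm.trans Fr.z_z ?_ (hφ a (φ₀ b i))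
        convert (hφ b i).conj (h.norm_z a.2) using 1
        simp only [coe_mul]; group) }
  refine ⟨ψ.toHomPerm, fun g s k => hφ g (s, k), fun g s k k' => ?_, fun g => ⟨fun e => ?_, fun e => ?_⟩⟩
  · by_contra hne
    have hk : k ≠ k' := fun e => hne (by rw [e])
    have h1 : Commute (f (φ₀ g (s, k)).1 (bas (φ₀ g (s, k)).2)) (f (φ₀ g (s, k')).1 (bas (φ₀ g (s, k')).2)) := by
      change (φ₀ g (s, k)).1 ≠ (φ₀ g (s, k')).1 at hne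
      generalize (φ₀ g (s, k)).1 = t at hne
      generalize (φ₀ g (s, k')).1 = t' at hne
      fin_cases t <;> fin_cases t'
      · exact absurd rfl hne
      · exact h.comm _ _
      · exact (h.comm _ _).symm
      · exact absurd rfl hne
    have hc : ∀ t a, Commute (f t a) (f 0 qm) := h.f_z
    have h2 : Commute ((g : G) * f s (bas k) * (g : G)⁻¹) ((g : G) * f s (bas k') * (g : G)⁻¹) := by
      rcases hφ g (s, k) with e | e <;> rcases hφ g (s, k') with e' | e' <;> rw [e, e']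
      · exact h1
      · exact h1.mul_right (hc _ _)
      · exact h1.mul_left (hc _ _).symm
      · exact (h1.mul_right (hc _ _)).mul_left ((hc _ _).symm.mul_right (Commute.refl _))
    refine bas_ncomm k k' hk (h.inj s ?_)
    have h3 := h2.eq
    rw [conj_mul, conj_mul] at h3
    simpa using h3
  · have h1 : ∀ s k, pm (f 0 qm) ((g : G) * f s (bas k) * (g : G)⁻¹) (f s (bas k)) := fun s k => by
      have h2 := hφ g (s, k)
      rwa [show φ₀ g (s, k) = (s, k) from congrArg (fun π : Equiv.Perm (Fin 2 × Fin 3) => π (s, k)) e] at h2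
    obtain ⟨q, hq, h2⟩ := h.adjust (h.norm_z g.2) id (fun _ => id) (fun _ _ _ => rfl) (fun s => h1 s 0) fun s => h1 s 1
    have h3 : (g : G) * q ∈ QQ f := (h.cent_Q h2).elim (fun e => e ▸ one_mem _) fun e => e ▸ h.f_mem 0 qm
    simpa using mul_mem h3 (inv_mem hq)
  · obtain ⟨p, hp⟩ := h.mem_Q'.1 e
    refine Equiv.ext fun i => uq g i i ?_
    rw [← hp, ← h.F_em i.1, ← map_inv, ← map_mul, ← map_mul, h.pm_F]
    clear hp
    revert p i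
    decide +kernel

namespace Nrm

/-- the sixteenth power is trivial -/
def T16 (π : Fin 2 × Fin 3 → Fin 2 × Fin 3) : Prop := ∀ i, π^[16] i = i

instance (π : Fin 2 × Fin 3 → Fin 2 × Fin 3) : Decidable (T16 π) := by unfold T16; infer_instance

def rb (i : Fin 2 × Fin 3) : Fin 2 × Fin 3 := (i.1, i.2 + 1)
def xb (i : Fin 2 × Fin 3) : Fin 2 × Fin 3 := (i.1, ![0, 2, 1] i.2)

theorem perm_key : ∀ e₀ e₁ a₀ a₁ a₂ b₀ b₁ b₂, let π := mkp e₀ e₁ a₀ a₁ a₂ b₀ b₁ b₂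
    T16 π → T16 (π ∘ rb ∘ π ∘ rb ∘ rb) → T16 (π ∘ xb ∘ π ∘ xb) → T16 (π ∘ π ∘ rb ∘ π ∘ π ∘ rb ∘ rb) →
      (∀ i, π i = i) ∨ ∀ k, π (0, k) = (1, k) ∧ π (1, k) = (0, k) := by decide +kernel

theorem t16 {π : Equiv.Perm (Fin 2 × Fin 3)} {n : ℕ} (h : π ^ 2 ^ n = 1) : T16 π := by
  have h1 : orderOf π ∣ 16 * 45 := by
    have := orderOf_dvd_card (x := π)
    rwa [Fintype.card_perm] at this
  have h2 : (orderOf π).Coprime 45 :=
    Nat.Coprime.coprime_dvd_left (orderOf_dvd_of_pow_eq_one h) (Nat.Coprime.pow_left n (by decide))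
  have h3 := orderOf_dvd_iff_pow_eq_one.1 (h2.dvd_of_dvd_mul_right h1)
  intro i
  rw [← Equiv.Perm.coe_pow, h3]; rfl

variable {G : Type*} [Group G] [Finite G] {V : Subgroup G} {f : Fin 2 → (Q8 →* G)} {x ρ : G}
  {φ : 𝒩(QQ f) →* Equiv.Perm (Fin 2 × Fin 3)}

theorem two_le (h : Fr V f x ρ) (hφ : Phi f φ) {T : Subgroup G} (hT : IsPGroup 2 T) (hx : x ∈ 𝒩(T))
    (hρ : ρ ∈ 𝒩(T)) : T ⊓ 𝒩(QQ f) ≤ QQ f := by
  rintro g ⟨hg, hN⟩
  have key : ∀ a : 𝒩(QQ f), (a : G) ∈ T → T16 (φ a) := fun a ha => by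
    obtain ⟨n, hn⟩ := hT ⟨a, ha⟩
    have h1 : (a : G) ^ 2 ^ n = 1 := congrArg Subtype.val hn
    exact t16 (n := n) (by rw [← map_pow, show a ^ 2 ^ n = 1 from Subtype.ext h1, map_one])
  have hr : ⇑(φ ⟨ρ, h.ρ_Q⟩) = rb := funext fun i => hφ.val_ρ h _ i.1 i.2
  have hxb : ⇑(φ ⟨x, h.x_Q⟩) = xb := funext fun i => hφ.val_x h _ i.1 i.2
  have hr' : ⇑(φ ⟨ρ, h.ρ_Q⟩)⁻¹ = rb ∘ rb := by
    rw [← hr, ← Equiv.Perm.coe_mul, inv_eq_of_mul_eq_one_right]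
    exact Equiv.ext fun i => by rw [Equiv.Perm.coe_mul, Equiv.Perm.coe_mul, hr]; revert i; decide
  have hx' : ⇑(φ ⟨x, h.x_Q⟩)⁻¹ = xb := by
    rw [← hxb, inv_eq_of_mul_eq_one_right]
    exact Equiv.ext fun i => by rw [Equiv.Perm.coe_mul, hxb]; revert i; decide
  obtain ⟨e₀, e₁, a₀, a₁, a₂, b₀, b₁, b₂, e⟩ := eq_mkp (φ ⟨g, hN⟩) (hφ.blk _)
  have k1 := key ⟨g, hN⟩ hg
  have k2 := key (⟨g, hN⟩ * (⟨ρ, h.ρ_Q⟩ * (⟨g, hN⟩ * (⟨ρ, h.ρ_Q⟩)⁻¹)))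
    (mul_mem hg (by simpa [mul_assoc] using (mem_normalizer_iff.1 hρ g).1 hg))
  have k3 := key (⟨g, hN⟩ * (⟨x, h.x_Q⟩ * (⟨g, hN⟩ * (⟨x, h.x_Q⟩)⁻¹)))
    (mul_mem hg (by simpa [mul_assoc] using (mem_normalizer_iff.1 hx g).1 hg))
  have k4 := key (⟨g, hN⟩ * (⟨g, hN⟩ * (⟨ρ, h.ρ_Q⟩ * (⟨g, hN⟩ * (⟨g, hN⟩ * (⟨ρ, h.ρ_Q⟩)⁻¹)))))
    (mul_mem hg (mul_mem hg (by simpa [mul_assoc] using (mem_normalizer_iff.1 hρ _).1 (mul_mem hg hg))))
  simp only [map_mul, map_inv, Equiv.Perm.coe_mul, hr, hxb, hr', hx', e] at k1 k2 k3 k4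
  rcases perm_key _ _ _ _ _ _ _ _ k1 k2 k3 k4 with h1 | h1 <;> rw [← e] at h1
  · exact (hφ.ker ⟨g, hN⟩).1 (Equiv.ext h1)
  · obtain ⟨π, hπ⟩ := hφ.delta h (g := ⟨g, hN⟩)
      (h.Y ⟨hφ.norm_V h fun k => by rw [(h1 k).1, (h1 k).2], h.normQ_le_cen hN⟩)
    exact absurd (congrArg Prod.fst ((hπ 0 0).symm.trans (h1 0).1)) (by simp)

theorem gen1 : ∀ b : Q8, b * qi ≠ qi * b → ∀ c, ∃ e₁ e₂ : Fin 2,
    c = b ^ e₁.val * th b ^ e₂.val ∨ c = b ^ e₁.val * th b ^ e₂.val * qm := by decide +kernel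

theorem genA : ∀ p : Q8 × Q8, ¬ (p.1 = p.2 ∨ p.1 = p.2 * qm) → ∃ e₁ e₂ e₃ e₄ : Fin 2, ∃ s b, b * qi ≠ qi * b ∧
    cls (em s b) (p ^ e₁.val * (th p.1, th p.2) ^ e₂.val * (xi p.1, xi p.2) ^ e₃.val *
      (th (xi p.1), th (xi p.2)) ^ e₄.val) := by decide +kernel

end Nrm

open Nrm in
theorem nrmThm : NrmThm.{u} := by
  intro G _ _ V f x ρ φ hG h hφ
  set P := pCoreOf 2 (cen (f 0 qm)) with hP
  have hPp : IsPGroup 2 P := Grp.pCoreOf_isPGroup 2 _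
  have hPH : P ≤ cen (f 0 qm) := map_subtype_le _
  have hHP : cen (f 0 qm) ≤ 𝒩(P) := Grp.le_normalizer_pCoreOf 2 _
  have hc : cen (f 0 qm) ⊓ 𝒞(P) ≤ P := hG.cz _ h.z_ne Fr.z_z
  have hz : f 0 qm ∈ P := hc ⟨h.Q_le_cen (h.f_mem 0 qm), fun y hy => mem_centralizer_singleton_iff.1 (hPH hy)⟩
  have hx : x ∈ 𝒩(P) := hHP (h.normQ_le_cen h.x_Q)
  have hρ : ρ ∈ 𝒩(P) := hHP (h.normQ_le_cen h.ρ_Q)
  have hT : IsPGroup 2 (QQ f ⊔ P : Subgroup G) := h.Q_isP.to_sup_of_normal_right' hPp (h.Q_le_cen.trans hHP)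
  have hPQ : P ≤ QQ f := by
    by_contra hn
    have := hT.isNilpotent
    exact (Grp.lt_inf_normalizer_of_isNilpotent (left_lt_sup.2 hn)).not_ge (two_le h hφ hT
      (normalizer_inf_normalizer_le_normalizer_sup _ _ ⟨h.x_Q, hx⟩)
      (normalizer_inf_normalizer_le_normalizer_sup _ _ ⟨h.ρ_Q, hρ⟩))
  have hth : ∀ p, h.F p ∈ P → h.F (th p.1, th p.2) ∈ P := fun p hp => by
    have := (mem_normalizer_iff.1 hρ _).1 hp
    rwa [h.F_apply, ← conj_mul, h.rho, h.rho] at this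
  have hxi : ∀ p, h.F p ∈ P → h.F (xi p.1, xi p.2) ∈ P := fun p hp => by
    have := (mem_normalizer_iff.1 hx _).1 hp
    rwa [h.F_apply, ← conj_mul, h.xact, h.xact] at this
  have hall : ∀ s b, b * qi ≠ qi * b → f s b ∈ P → ∀ c, f s c ∈ P := by
    intro s b hb h1 c
    have h2 : f s (th b) ∈ P := h.rho s b ▸ (mem_normalizer_iff.1 hρ _).1 h1
    obtain ⟨e₁, e₂, e | e⟩ := gen1 b hb c <;> rw [e] <;> simp only [map_mul, map_pow, h.f_qm]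
    · exact mul_mem (pow_mem h1 _) (pow_mem h2 _)
    · exact mul_mem (mul_mem (pow_mem h1 _) (pow_mem h2 _)) hz
  have hnc : ∀ s, ∃ p, h.F p ∈ P ∧ h.F p * f s qi ≠ f s qi * h.F p := by
    intro s
    by_contra hn
    push Not at hn
    have h1 : f s qi ∈ 𝒞(P) := fun y hy => by
      obtain ⟨p, rfl⟩ := h.mem_Q'.1 (hPQ hy)
      exact hn p hy
    have h2 : f s qi ∈ P := hc ⟨h.Q_le_cen (h.f_mem s qi), h1⟩
    have h3 := h1 _ (h.rho s qi ▸ (mem_normalizer_iff.1 hρ _).1 h2)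
    rw [← map_mul, ← map_mul] at h3
    exact absurd (h.inj s h3) (by decide)
  obtain ⟨p₀, hp₀, hn₀⟩ := hnc 0
  obtain ⟨p₁, hp₁, hn₁⟩ := hnc 1
  have hn₀' : p₀.1 * qi ≠ qi * p₀.1 := fun e => hn₀ (by
    rw [h.F_apply, mul_assoc, ← h.comm, ← mul_assoc, ← map_mul, e, map_mul, mul_assoc])
  have hn₁' : p₁.2 * qi ≠ qi * p₁.2 := fun e => hn₁ (by
    rw [h.F_apply, mul_assoc, ← map_mul, e, map_mul, ← mul_assoc, h.comm, mul_assoc])
  by_cases hV : P ≤ V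
  · have hVP : V ≤ P := by
      intro v hv
      obtain ⟨c, e⟩ := (h.memV v).1 hv
      refine pm.mem e hz ?_
      have h1 : h.F (p₁.2, p₁.2) ∈ P := by
        exact pm.mem ((h.pm_F (p' := (p₁.2, p₁.2)).2 ⟨h.F_mem_V.1 (hV hp₁), Or.inl rfl⟩).symm Fr.z_z) hz hp₁
      obtain ⟨e₁, e₂, e⟩ := gen1 _ hn₁' c
      have h2 := mul_mem (pow_mem h1 e₁.val) (pow_mem (hth _ h1) e₂.val)
      rw [← map_pow, ← map_pow, ← map_mul] at h2
      exact pm.mem (h.pm_F (p := (c, c)).2 ⟨e, e⟩) hz h2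
    rw [le_antisymm hV hVP] at hHP
    exact fun g hg => h.Y_le (h.Y ⟨hHP hg, hg⟩)
  obtain ⟨y, hy, hyV⟩ := SetLike.not_le_iff_exists.1 hV
  obtain ⟨p, rfl⟩ := h.mem_Q'.1 (hPQ hy)
  obtain ⟨e₁, e₂, e₃, e₄, s, b, hb, e⟩ := genA p fun e => hyV (h.F_mem_V.2 e)
  have h1 : f s b ∈ P := by
    rw [← h.F_em]
    refine pm.mem (h.pm_F.2 e) hz ?_
    simp only [map_mul, map_pow]
    exact mul_mem (mul_mem (mul_mem (pow_mem hy _) (pow_mem (hth _ hy) _)) (pow_mem (hxi _ hy) _))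
      (pow_mem (hth _ (hxi _ hy)) _)
  have h2 : (∀ c, f 0 c ∈ P) ∧ ∀ c, f 1 c ∈ P := by
    have h3 := hall s b hb h1
    fin_cases s
    · exact ⟨h3, hall 1 _ hn₁' (by simpa [h.F_apply] using mul_mem (inv_mem (h3 p₁.1)) hp₁)⟩
    · exact ⟨hall 0 _ hn₀' (by simpa [h.F_apply] using mul_mem hp₀ (inv_mem (h3 p₀.2))), h3⟩
  have hQP : QQ f ≤ P := fun q hq => by
    obtain ⟨a, b, rfl⟩ := h.mem_Q.1 hq
    exact mul_mem (h2.1 a) (h2.2 b)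
  rwa [le_antisymm hPQ hQP] at hHP

end CL.ON3
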