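/-
An anisotropic quadratic map onto `2³` that is equivariant for the full `GL₃(2)` is additive.
-/
import Cfsg.Agent.ON3.Defs

set_option autoImplicit false

open Polynomial Matrix

namespace CL.ON3

universe u

namespace Quad

theorem z2 (a : ZMod 2) : a = 0 ∨ a = 1 := by revert a; decide

/-- Two invariant alternating matrices in dimension 6. -/
theorem mat (B B' g : Matrix (Fin 6) (Fin 6) (ZMod 2)) (h0 : B.det ≠ 0) (h1 : Bᵀ = B) (h2 : B'ᵀ = B')
    (h3 : ∀ i, B' i i = 0) (h4 : gᵀ * B * g = B) (h5 : gᵀ * B' * g = B' + B) : False := by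
  have hB : IsUnit B.det := h0.isUnit
  have hg : IsUnit g.det := by
    have := congrArg det h4
    rw [det_mul, det_mul, det_transpose] at this
    exact (right_ne_zero_of_mul (this ▸ h0)).isUnit
  have hgt : IsUnit gᵀ.det := by rwa [det_transpose]
  have e1 : g⁻¹ * (B⁻¹ * B') * g - scalar (Fin 6) 1 = B⁻¹ * B' := by
    have e2 : B⁻¹ * B' * g = g * (B⁻¹ * B' + 1) := by
      refine ((isUnit_iff_isUnit_det (gᵀ * B)).2 (det_mul gᵀ B ▸ hgt.mul hB)).mul_left_cancel ?_
      rw [← mul_assoc (gᵀ * B) g, h4, mul_add, mul_one, mul_nonsing_inv_cancel_left _ _ hB, ← h5]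
      simp only [mul_assoc, mul_nonsing_inv_cancel_left _ _ hB]
    rw [mul_assoc, e2, nonsing_inv_mul_cancel_left _ _ hg, map_one, add_sub_cancel_right]
  have e3 := charpoly_sub_scalar (g⁻¹ * (B⁻¹ * B') * g) 1
  rw [e1, charpoly_mul_comm (g⁻¹ * _) g, mul_nonsing_inv_cancel_left _ _ hg, ← taylor_apply] at e3
  have e4 := congrArg (coeff · 4) e3
  have e5 := trace_eq_neg_charpoly_coeff (B⁻¹ * B')
  have e6 := (charpoly_monic (B⁻¹ * B')).coeff_natDegree
  have e7 := charpoly_natDegree_eq_dim (B⁻¹ * B')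
  rw [Fintype.card_fin] at e5 e7
  rw [e7] at e6
  have e8 : (B⁻¹ * B').trace = 0 := by
    have s : ∀ i j, B⁻¹ i j = B⁻¹ j i := fun i j => by rw [← transpose_apply B⁻¹, transpose_nonsing_inv, h1]
    have s' : ∀ i j, B' i j = B' j i := fun i j => by rw [← transpose_apply B', h2]
    simp only [trace, diag_apply, mul_apply]
    rw [← Finset.sum_product']
    exact Finset.sum_involution (fun p _ => p.swap) (fun p _ => by
      rw [Prod.fst_swap, Prod.snd_swap, s p.1, s' p.1, CharTwo.add_self_eq_zero])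
      (fun p _ h e => h (by rw [show p.2 = p.1 from congrArg Prod.fst e, h3, mul_zero])) (fun _ _ => by simp)
      fun _ _ => rfl
  generalize (B⁻¹ * B').charpoly = p at *
  simp only [taylor_coeff] at e4
  rw [eval_eq_sum_range' (n := 3) ((natDegree_hasseDeriv_le p 4).trans_lt (by omega))] at e4
  simp only [Finset.sum_range_succ, Finset.sum_range_zero, hasseDeriv_coeff, e6, neg_eq_zero.1 (e5.symm.trans e8)] at e4
  simp [Nat.choose] at e4
  exact absurd e4 (by decide)

variable {V W : Type*} [AddCommGroup V] [Module (ZMod 2) V] [AddCommGroup W] [Module (ZMod 2) W]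

theorem add_self (v : V) : v + v = 0 := by rw [← two_smul (ZMod 2), show (2 : ZMod 2) = 0 from rfl, zero_smul]

theorem exists_dual {S : Submodule (ZMod 2) V} {e : V} (he : e ∉ S) :
    ∃ l : V →ₗ[ZMod 2] ZMod 2, l e = 1 ∧ ∀ s ∈ S, l s = 0 := by
  obtain ⟨l, h1, h2⟩ := S.exists_dual_map_eq_bot_of_notMem he inferInstance
  exact ⟨l, (z2 _).resolve_left h1, fun s hs => (Submodule.mem_bot _).1 (h2 ▸ Submodule.mem_map_of_mem hs)⟩

theorem exists_tv (l : V →ₗ[ZMod 2] ZMod 2) {a : V} (h : l a = 0) : ∃ σ : V ≃ₗ[ZMod 2] V, ∀ v, σ v = v + l v • a :=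
  ⟨LinearEquiv.ofInvolutive (LinearMap.id + l.smulRight a) fun v => by simp [h, add_assoc, add_self], fun _ => rfl⟩

/-- The sign character. -/
def chi (a : ZMod 2) : ℤ := if a = 0 then 1 else -1

theorem chi_add (a b : ZMod 2) : chi (a + b) = chi a * chi b := by revert a b; decide

theorem chi_sq (a : ZMod 2) : chi a * chi a = 1 := by revert a; decide

theorem chi_cast (a : ZMod 2) : (chi a : ZMod 2) = 1 := by revert a; decide

theorem sum_chi [Fintype V] {l : V →ₗ[ZMod 2] ZMod 2} (h : l ≠ 0) : ∑ v, chi (l v) = 0 := by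
  obtain ⟨a, ha⟩ := DFunLike.ne_iff.1 h
  have := Equiv.sum_comp (Equiv.addRight a) fun v => chi (l v)
  simp only [Equiv.coe_addRight, map_add, chi_add, (z2 _).resolve_left ha, show chi 1 = -1 from rfl, mul_neg, mul_one,
    Finset.sum_neg_distrib] at this
  omega

open Classical in
theorem sum_sq [Fintype W] {Q : W → ZMod 2} {b : W →ₗ[ZMod 2] W →ₗ[ZMod 2] ZMod 2} (h : ∀ x y, Q (x + y) = Q x + Q y + b x y) :
    (∑ w, chi (Q w)) ^ 2 = Fintype.card W * ∑ x ∈ Finset.univ.filter (b · = 0), chi (Q x) := by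
  rw [sq, Finset.sum_mul_sum, Finset.sum_congr rfl fun w _ => (Equiv.sum_comp (Equiv.addRight w) _).symm, Finset.sum_comm,
    Finset.sum_filter, Finset.mul_sum]
  refine Finset.sum_congr rfl fun x _ => ?_
  have : ∀ w, chi (Q w) * chi (Q (Equiv.addRight w x)) = chi (Q x) * chi (b x w) := fun w => by
    rw [Equiv.coe_addRight, h, chi_add, chi_add]
    linear_combination (chi (Q x) * chi (b x w)) * chi_sq (Q w)
  rw [Finset.sum_congr rfl fun w _ => this w, ← Finset.mul_sum]
  split_ifs with e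
  · simp [e, chi, mul_comm]
  · rw [sum_chi e, mul_zero, mul_zero]

end Quad

open Quad in
theorem quadThm : QuadThm.{u} := by
  intro Γ W V _ _ _ _ _ _ _ ρ τ q b hV hτ hq an eq
  classical
  haveI : Finite V := Nat.finite_of_card_ne_zero (by omega)
  haveI := Fintype.ofFinite V
  haveI := Fintype.ofFinite W
  rw [Nat.card_eq_fintype_card] at hV
  haveI : Nontrivial V := Fintype.one_lt_card_iff_nontrivial.1 (by omega)
  have q0 : q 0 = 0 := by simpa using hq 0 0
  have alt : ∀ x, b x x = 0 := fun x => by simpa [add_self, q0] using (hq x x).symm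
  have sym : ∀ x y, b x y = b y x := fun x y => by
    have := hq x y
    rw [add_comm x, hq, add_comm (q y)] at this
    exact (add_left_cancel this).symm
  have eqb : ∀ γ x y, b (ρ γ x) (ρ γ y) = τ γ (b x y) := fun γ x y => by
    have := hq (ρ γ x) (ρ γ y)
    rw [← map_add, eq, eq, eq, hq, map_add, map_add] at this
    exact (add_left_cancel this).symm
  have tv : ∀ (l : V →ₗ[ZMod 2] ZMod 2) (a : V), l a = 0 → ∃ γ, ∀ v, τ γ v = v + l v • a := fun l a h =>
    let ⟨σ, hσ⟩ := exists_tv l h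
    let ⟨γ, e⟩ := hτ σ
    ⟨γ, e ▸ hσ⟩
  obtain ⟨f, hf⟩ : ∃ f : ℕ, ∀ v, v ≠ 0 → (Finset.univ.filter (q · = v)).card = f := by
    obtain ⟨v₀, h0⟩ := exists_ne (0 : V)
    refine ⟨(Finset.univ.filter (q · = v₀)).card, fun v hv => ?_⟩
    by_cases e : v = v₀
    · rw [e]
    obtain ⟨l, l1, l2⟩ := exists_dual (S := (ZMod 2) ∙ (v + v₀)) (e := v) fun h => by
      obtain ⟨t, ht⟩ := Submodule.mem_span_singleton.1 h
      rcases z2 t with rfl | rfl
      · exact hv (by simpa using ht.symm)
      · exact h0 (by simpa using ht)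
    obtain ⟨γ, hγ⟩ := tv l _ (l2 _ (Submodule.mem_span_singleton_self _))
    have h1 : τ γ v = v₀ := by rw [hγ, l1, one_smul, ← add_assoc, add_self, zero_add]
    exact Finset.card_equiv (ρ γ).toEquiv fun w => by simp [eq, ← h1]
  have sum : ∀ F : V → ℤ, ∑ w, F (q w) = F 0 + f * (∑ v, F v - F 0) := fun F => by
    rw [← Finset.sum_fiberwise' (g := q), ← Finset.add_sum_erase _ _ (Finset.mem_univ 0),
      ← Finset.add_sum_erase _ F (Finset.mem_univ 0), add_sub_cancel_left, Finset.mul_sum,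
      show Finset.univ.filter (q · = 0) = {0} from Finset.ext fun w => by simpa using ⟨an w, fun e => e ▸ q0⟩]
    simp only [Finset.sum_const, Finset.card_singleton, one_smul, nsmul_eq_mul]
    exact congrArg _ (Finset.sum_congr rfl fun v hv => by rw [hf v (Finset.ne_of_mem_erase hv)])
  have hN : (Fintype.card W : ℤ) = 1 + f * 7 := by simpa [hV] using sum fun _ => 1
  have key : ∀ l : V →ₗ[ZMod 2] ZMod 2, l ≠ 0 → (1 - f : ℤ) ^ 2 =
      Fintype.card W * ∑ x ∈ Finset.univ.filter (b.compr₂ l · = 0), chi (l (q x)) := fun l hl => by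
    rw [← sum_sq (Q := fun w => l (q w)) fun x y => by simp [hq], sum fun v => chi (l v), sum_chi hl]
    simp [chi, sub_eq_add_neg]
  obtain ⟨a, ha⟩ := exists_ne (0 : V)
  obtain ⟨l', l1, -⟩ := exists_dual (S := ⊥) (e := a) ha
  obtain ⟨c, hc⟩ : ∃ c, c ∉ (ZMod 2) ∙ a := by
    by_contra h
    push Not at h
    have := Fintype.card_le_of_surjective (fun t : ZMod 2 => t • a) fun v => Submodule.mem_span_singleton.1 (h v)
    rw [hV, ZMod.card] at this
    omega
  obtain ⟨l, l2, l3⟩ := exists_dual hc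
  have h1 := key l fun e => by simp [e] at l2
  have h2 : Fintype.card W ∣ 2 ^ 6 := Int.natCast_dvd_natCast.1 ⟨49 * ∑ x ∈ Finset.univ.filter (b.compr₂ l · = 0),
    chi (l (q x)) - Fintype.card W + 16, by
      push_cast
      linear_combination 49 * h1 + (Fintype.card W - 8 + (7 * f - 7) : ℤ) * hN⟩
  obtain ⟨k, hk, h3⟩ := (Nat.dvd_prime_pow Nat.prime_two).1 h2
  have h4 : f ≤ 1 ∨ Fintype.card W = 64 := by interval_cases k <;> omega
  rcases h4 with h4 | h4
  · have inj : ∀ x y, q x = q y → x = y := fun x y e => by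
      by_cases h : q y = 0
      · rw [an x (e.trans h), an y h]
      · exact Finset.card_le_one.1 ((hf _ h).le.trans h4) x (by simp [e]) y (by simp)
    intro x y
    by_contra h
    obtain ⟨l, l1, l2⟩ := exists_dual (S := (ZMod 2) ∙ q x ⊔ (ZMod 2) ∙ q y) (e := q (x + y)) fun h' => by
      obtain ⟨_, h5, _, h6, e⟩ := Submodule.mem_sup.1 h'
      obtain ⟨s, rfl⟩ := Submodule.mem_span_singleton.1 h5
      obtain ⟨t, rfl⟩ := Submodule.mem_span_singleton.1 h6
      rcases z2 s with rfl | rfl <;> rcases z2 t with rfl | rfl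
      · exact h (by rw [eq_neg_of_add_eq_zero_left (an (x + y) (by simpa using e.symm)), map_neg, LinearMap.neg_apply, alt,
          neg_zero])
      · exact h (by rw [show x = 0 by simpa using inj _ _ (by simpa using e.symm : q (x + y) = q y)]; simp)
      · exact h (by rw [show y = 0 by simpa using inj _ _ (by simpa using e.symm : q (x + y) = q x)]; simp)
      · exact h (by simpa [hq] using e)
    have lx := l2 _ (Submodule.mem_sup_left (Submodule.mem_span_singleton_self (q x)))
    have ly := l2 _ (Submodule.mem_sup_right (Submodule.mem_span_singleton_self (q y)))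
    obtain ⟨γ, hγ⟩ := tv l _ lx
    have h5 := eq γ (x + y)
    rw [map_add, inj (ρ γ x) x (by simp [eq, hγ, lx]), inj (ρ γ y) y (by simp [eq, hγ, ly]), hγ, l1, one_smul] at h5
    exact h (by rw [an x (by simpa using h5)]; simp)
  exfalso
  obtain rfl : f = 9 := by omega
  have h5 : (LinearMap.ker (b.compr₂ l)).toAddSubgroup = ⊥ := by
    have h6 : ∑ x ∈ Finset.univ.filter (b.compr₂ l · = 0), chi (l (q x)) = 1 := by rw [h4] at h1; push_cast at h1; omega
    have h7 := congrArg (Int.cast (R := ZMod 2)) h6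
    simp only [Int.cast_sum, chi_cast, Finset.sum_const, nsmul_one, Int.cast_one] at h7
    have h8 := (LinearMap.ker (b.compr₂ l)).toAddSubgroup.card_addSubgroup_dvd_card
    rw [Nat.card_eq_fintype_card (α := W), h3] at h8
    refine AddSubgroup.card_eq_one.1 (Nat.Coprime.eq_one_of_dvd (Nat.Coprime.pow_right k ?_) h8)
    rw [Nat.coprime_two_right, ← ZMod.natCast_eq_one_iff_odd, ← h7, Nat.card_eq_fintype_card, Fintype.card_subtype]
    congr!
  have h6 : Module.finrank (ZMod 2) W = 6 := by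
    have := Module.card_eq_pow_finrank (K := ZMod 2) (V := W)
    rw [h4, ZMod.card] at this
    exact Nat.pow_right_injective le_rfl (this.symm.trans (by norm_num))
  let e := Module.finBasisOfFinrankEq (ZMod 2) W h6
  have la := l3 a (Submodule.mem_span_singleton_self a)
  obtain ⟨γ, hγ⟩ := tv l a la
  refine mat (LinearMap.toMatrix₂ e e (b.compr₂ l)) (LinearMap.toMatrix₂ e e (b.compr₂ l'))
    (LinearMap.toMatrix e e (ρ γ : W →ₗ[ZMod 2] W)) ((LinearMap.separatingLeft_iff_det_ne_zero e).1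
      (LinearMap.separatingLeft_iff_ker_eq_bot.2 (Submodule.toAddSubgroup_injective h5))) ?_ ?_ (by simp [alt]) ?_ ?_
  · ext i j; simp [sym (e i)]
  · ext i j; simp [sym (e i)]
  · rw [← LinearMap.toMatrix₂_compl₁₂]
    ext i j; simp [eqb, hγ, la]
  · rw [← LinearMap.toMatrix₂_compl₁₂]
    ext i j; simp [eqb, hγ, l1]

end CL.ON3
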