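/-
Project ON3, job ON3-S1: if no other conjugate of `z` lies in `D`, then `z` is isolated.
-/
import Cfsg.Agent.ON3.Defs
import Cfsg.Agent.Grp.Primitive
import Cfsg.Agent.Inv.BaerSuzuki
import Cfsg.Agent.Even.Amb2

set_option autoImplicit false
open Cfsg Subgroup CL.Even
open scoped commutatorElement

namespace CL.ON3

universe u

namespace S1j

section Gen
variable {G : Type*} [Group G]

theorem mc {x y : G} : x ∈ cen y ↔ x * y = y * x := mem_centralizer_singleton_iff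

theorem isq {x : G} (h : x * x = 1) : x⁻¹ = x := inv_eq_of_mul_eq_one_left h

theorem cm_of_sq {a b : G} (ha : a * a = 1) (hb : b * b = 1) (h : a * b * (a * b) = 1) : a * b = b * a := by
  rw [← isq h, mul_inv_rev, isq ha, isq hb]

theorem zp4 {n z x : G} (nn : n * n = z) (zz : z * z = 1) (hx : x ∈ zpowers n) :
    x = 1 ∨ x = n ∨ x = z ∨ x = n⁻¹ := by
  obtain ⟨k, rfl⟩ := mem_zpowers_iff.1 hx
  have h4 : n ^ (4 : ℤ) = 1 := by
    rw [← zz, ← nn, show (4 : ℤ) = 2 + 2 from rfl, zpow_add, zpow_two]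
  rw [zpow_eq_zpow_emod k h4]
  have : k % 4 = 0 ∨ k % 4 = 1 ∨ k % 4 = 2 ∨ k % 4 = 3 := by omega
  rcases this with e | e | e | e <;> rw [e]
  · simp
  · simp
  · exact .inr (.inr (.inl (by rw [← nn, zpow_two])))
  · exact .inr (.inr (.inr (by rw [eq_inv_iff_mul_eq_one, ← h4]; group)))

theorem zp2 {z x : G} (zz : z * z = 1) (hx : x ∈ zpowers z) : x = 1 ∨ x = z := by
  rcases zp4 zz (mul_one 1) hx with e | e | e | e
  exacts [.inl e, .inr e, .inl e, .inr (e.trans (isq zz))]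

theorem step {U : Subgroup G} {x : G} (hU : ∀ y ∈ U, y * y = 1) (x2 : x * x = 1) (hc : ∀ y ∈ U, y * x = x * y) :
    (∀ y ∈ U ⊔ zpowers x, y * y = 1) ∧ ∀ y ∈ U ⊔ zpowers x, y ∈ U ∨ ∃ a ∈ U, y = a * x := by
  have h : ∀ y ∈ U ⊔ zpowers x, y ∈ U ∨ ∃ a ∈ U, y = a * x := fun y hy => by
    obtain ⟨a, ha, b, hb, rfl⟩ := (mem_sup_nl (zpowers_le.2 (cent_le_norm U (mem_centralizer_iff.2 hc)))).1 hy
    rcases zp2 x2 hb with rfl | rfl
    exacts [.inl (by rwa [mul_one]), .inr ⟨a, ha, rfl⟩]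
  refine ⟨fun y hy => ?_, h⟩
  rcases h y hy with k | ⟨a, ha, rfl⟩
  · exact hU y k
  · rw [mul_assoc, ← mul_assoc x, ← hc a ha, mul_assoc, x2, mul_one, hU a ha]

theorem rk8 (rk : PRankLE 2 3 G) {A : Subgroup G} (h : ∀ a ∈ A, a * a = 1) : Nat.card A ≤ 8 :=
  rk A (le_centralizer_iff_isMulCommutative.1 fun a ha b hb => cm_of_sq (h b hb) (h a ha) (h _ (mul_mem hb ha)))
    fun a ha => (pow_two a).trans (h a ha)

variable [Finite G]

theorem dbl {U W : Subgroup G} (h : U ≤ W) {x : G} (hx : x ∈ W) (hU : x ∉ U) : 2 * Nat.card U ≤ Nat.card W := by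
  obtain ⟨m, hm⟩ := card_dvd_of_le h
  have h1 : Nat.card W ≠ Nat.card U := fun e => hU ((eq_of_le_of_card_ge h e.le).ge hx)
  have h2 : 0 < Nat.card W := Nat.card_pos
  rw [hm] at h1 h2 ⊢
  rcases m with _ | _ | m
  · omega
  · omega
  · nlinarith

theorem e8 (rk : PRankLE 2 3 G) {a b c d : G} (a2 : a * a = 1) (b2 : b * b = 1) (c2 : c * c = 1) (d2 : d * d = 1)
    (ab : a * b = b * a) (ac : a * c = c * a) (ad : a * d = d * a) (bc : b * c = c * b) (bd : b * d = d * b)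
    (cd : c * d = d * c) (a1 : a ≠ 1) (b1 : b ≠ 1) (ba : b ≠ a) (c1 : c ≠ 1) (ca : c ≠ a) (cb : c ≠ b)
    (cab : c ≠ a * b) :
    d = 1 ∨ d = a ∨ d = b ∨ d = a * b ∨ d = c ∨ d = a * c ∨ d = b * c ∨ d = a * b * c := by
  have m1 : ∀ y ∈ zpowers a, y = 1 ∨ y = a := fun y => zp2 a2
  have k : ∀ {U : Subgroup G} {x y : G}, U ≤ cen y → x * y = y * x → U ⊔ zpowers x ≤ cen y := fun h1 h2 =>
    sup_le h1 (zpowers_le.2 (mc.2 h2))
  obtain ⟨s2, m2⟩ := step (U := zpowers a) (fun y hy => by rcases m1 y hy with rfl | rfl <;> simp [a2]) b2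
    fun y hy => mc.1 (zpowers_le.2 (mc.2 ab) hy)
  obtain ⟨s3, m3⟩ := step s2 c2 fun y hy => mc.1 (k (zpowers_le.2 (mc.2 ac)) bc hy)
  obtain ⟨s4, -⟩ := step s3 d2 fun y hy => mc.1 (k (k (zpowers_le.2 (mc.2 ad)) bd) cd hy)
  have m2' : ∀ y ∈ zpowers a ⊔ zpowers b, y = 1 ∨ y = a ∨ y = b ∨ y = a * b := fun y hy => by
    rcases m2 y hy with h | ⟨x, h, rfl⟩ <;> rcases m1 _ h with e | e <;> simp [e]
  by_contra hd
  have h1 := dbl (bot_le (a := zpowers a)) (mem_zpowers a) (by rwa [mem_bot])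
  have h2 := dbl (le_sup_left (a := zpowers a)) (mem_sup_right (mem_zpowers b)) fun h => by
    rcases m1 _ h with e | e <;> contradiction
  have h3 := dbl (le_sup_left (a := zpowers a ⊔ zpowers b)) (mem_sup_right (mem_zpowers c)) fun h => by
    rcases m2' _ h with e | e | e | e <;> contradiction
  have h4 := dbl (le_sup_left (a := zpowers a ⊔ zpowers b ⊔ zpowers c)) (mem_sup_right (mem_zpowers d)) fun h => by
    rcases m3 _ h with h' | ⟨x, h', e'⟩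
    · rcases m2' _ h' with e | e | e | e <;> simp only [e, true_or, or_true, not_true] at hd
    · rcases m2' _ h' with e | e | e | e <;> simp only [e', e, one_mul, true_or, or_true, not_true] at hd
  have := rk8 rk s4
  rw [card_bot] at h1
  omega

theorem ex_out {F A : Subgroup G} {k : ℕ} (l : Fin k → G) (h : k * Nat.card A < Nat.card F) :
    ∃ w ∈ F, ∀ i, l i * w ∉ A := by
  by_contra hc
  push Not at hc
  choose f hf using hc
  have := Nat.card_le_card_of_injective (fun w : F => ((f w w.2, ⟨_, hf w w.2⟩) : Fin k × A)) fun a b e => by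
    have e1 : f a a.2 = f b b.2 := congrArg Prod.fst e
    have e2 : l (f a a.2) * a = l (f b b.2) * b := congrArg (fun x : Fin k × A => (x.2 : G)) e
    rw [e1] at e2
    exact Subtype.ext (mul_left_cancel e2)
  rw [Nat.card_prod, Nat.card_eq_fintype_card (α := Fin k), Fintype.card_fin] at this
  omega

theorem idx2 {A B : Subgroup G} (h : ∀ x ∈ B, ∀ w ∈ B, x ∉ A → w ∉ A → x * w ∈ A) : Nat.card B ≤ 2 * Nat.card A := by
  by_contra hc
  obtain ⟨x, hx, h1⟩ := ex_out (F := B) (A := A) ![1] (by omega)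
  obtain ⟨w, hw, h2⟩ := ex_out (F := B) (A := A) ![1, x] (by omega)
  exact h2 1 (h x hx w hw (by simpa using h1 0) (by simpa using h2 0))

variable {z s n : G} {D : Subgroup G}

omit [Finite G] in
theorem ncm (h : SD z D) {x y : G} (hx : x ∈ D) (hy : y ∈ D) (x2 : x * x = z) (y2 : y * y = z)
    (xy : x * y * (x * y) = z) : x * y = y * x * z := (h.cm x hx y hy).resolve_left fun e => h.z1 (by
  rw [← xy, mul_assoc, ← mul_assoc y, ← e, mul_assoc, y2, ← mul_assoc, x2, h.zz])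

theorem ex2 (h : SD z D) {F A : Subgroup G} (FD : F ≤ D) (hA : ∀ x ∈ F, x * x = 1 → x ∈ A)
    (hc : 2 * Nat.card A < Nat.card F) : ∃ x ∈ F, ∃ y ∈ F, x * x = z ∧ y * y = z ∧ x * y = y * x * z := by
  have k : ∀ x ∈ F, x ∉ A → x * x = z := fun x hx h1 => (h.sq x (FD hx)).resolve_left fun e => h1 (hA x hx e)
  obtain ⟨x, hx, h1⟩ := ex_out (F := F) (A := A) ![1] (by omega)
  obtain ⟨y, hy, h2⟩ := ex_out (F := F) (A := A) ![1, x] (by omega)
  have x2 := k x hx (by simpa using h1 0)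
  have y2 := k y hy (by simpa using h2 0)
  exact ⟨x, hx, y, hy, x2, y2, ncm h (FD hx) (FD hy) x2 y2 (k _ (mul_mem hx hy) (h2 1))⟩

theorem aniso (h : SD z D) {F A : Subgroup G} (FD : F ≤ D) (hA : ∀ x ∈ F, x * x = 1 → x ∈ A) :
    Nat.card F ≤ 4 * Nat.card A := by
  by_contra hc
  have k : ∀ x ∈ F, x ∉ A → x * x = z := fun x hx h1 => (h.sq x (FD hx)).resolve_left fun e => h1 (hA x hx e)
  obtain ⟨x, hx, y, hy, x2, y2, xy⟩ := ex2 h FD hA (by omega)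
  obtain ⟨w, hw, h3⟩ := ex_out (F := F) (A := A) ![1, x, y, x * y] (by omega)
  have w2 := k w hw (by simpa using h3 0)
  have xw := ncm h (FD hx) (FD hw) x2 w2 (k _ (mul_mem hx hw) (h3 1))
  have yw := ncm h (FD hy) (FD hw) y2 w2 (k _ (mul_mem hy hw) (h3 2))
  have e1 : x * y * w = w * (x * y) := by
    rw [mul_assoc, yw, ← mul_assoc, ← mul_assoc, xw, mul_assoc _ z, ← h.cz y (FD hy), ← mul_assoc, mul_assoc _ z, h.zz]
    group
  have e2 : x * y * (x * y) = z := by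
    nth_rewrite 2 [xy]
    rw [← mul_assoc, ← mul_assoc, mul_assoc x, y2, h.cz x (FD hx), mul_assoc z, x2, h.zz, one_mul]
  refine h3 3 (hA _ (mul_mem (mul_mem hx hy) hw) ?_)
  change x * y * w * (x * y * w) = 1
  rw [mul_assoc, ← mul_assoc w, ← e1, mul_assoc _ w, w2, ← mul_assoc, e2, h.zz]

omit [Finite G] in
theorem gam_eq {d c : G} : gam s d = c ↔ s * d * s⁻¹ = d * c := inv_mul_eq_iff_eq_mul

omit [Finite G] in
theorem gam_one {d : G} : gam s d = 1 ↔ d * s = s * d := by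
  rw [gam_eq, mul_one, mul_inv_eq_iff_eq_mul, eq_comm]

theorem half (h : SD z D) {B : Subgroup G} (BD : B ≤ D) (h0 : ∀ d ∈ B, gam s d = 1 ∨ gam s d = z) :
    Nat.card B ≤ 2 * Nat.card (D ⊓ cen s : Subgroup G) := idx2 fun x hx w hw h1 h2 => by
  have k : ∀ d ∈ B, d ∉ D ⊓ cen s → s * d * s⁻¹ = d * z := fun d hd h3 =>
    gam_eq.1 ((h0 d hd).resolve_left fun e => h3 ⟨BD hd, mc.2 (gam_one.1 e)⟩)
  refine ⟨mul_mem (BD hx) (BD hw), mc.2 (mul_inv_eq_iff_eq_mul.1 ?_).symm⟩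
  rw [show s * (x * w) * s⁻¹ = s * x * s⁻¹ * (s * w * s⁻¹) by group, k x hx h1, k w hw h2, mul_assoc, ← mul_assoc z,
    ← h.cz w (BD hw), mul_assoc, h.zz, mul_one]

theorem quarter (h : SD z D) (h1 : T1 z D s n) : Nat.card D ≤ 4 * Nat.card (D ⊓ cen s : Subgroup G) := by
  have k1 := half (s := s) h (B := D ⊓ cen n) inf_le_left fun d hd => (h1.iff d hd.1).2 (mc.1 hd.2)
  have k2 := idx2 (A := D ⊓ cen n) (B := D) fun x hx w hw h2 h3 => ⟨mul_mem hx hw, mc.2 (by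
    rw [mul_assoc, (h.cm w hw n h1.nD).resolve_left fun e => h3 ⟨hw, mc.2 e⟩, ← mul_assoc, ← mul_assoc,
      (h.cm x hx n h1.nD).resolve_left fun e => h2 ⟨hx, mc.2 e⟩, mul_assoc _ z, ← h.cz w hw, ← mul_assoc,
      mul_assoc _ z, h.zz]
    group)⟩
  omega

omit [Finite G] in
theorem nsq (h : SD z D) (h1 : T1 z D s n) {y : G} (yy : y * y = s) (yz : y * z = z * y) : False := by
  obtain ⟨d, hd, hn⟩ : ∃ d ∈ D, d * n ≠ n * d := by
    by_contra hc
    push Not at hc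
    exact h1.nc hc
  have k1 : y * gam s d * y⁻¹ ∈ zpowers n := by
    have := h1.mem _ (conj_mem (h.nm y yz) hd)
    rwa [show gam s (y * d * y⁻¹) = y * gam s d * y⁻¹ by rw [gam, gam, ← yy]; group] at this
  have k2 : y * n * y⁻¹ ∈ zpowers n := by
    rcases zp4 h1.nn h.zz (h1.mem d hd) with e | e | e | e
    · exact absurd ((h1.iff d hd).1 (.inl e)) hn
    · rwa [e] at k1
    · exact absurd ((h1.iff d hd).1 (.inr e)) hn
    · rw [e] at k1
      simpa [mul_assoc] using inv_mem k1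
  have k3 : s * n * s⁻¹ = y * (y * n * y⁻¹) * y⁻¹ := by rw [← yy]; group
  have k4 : n⁻¹ ≠ n := fun e => h.z1 (by rw [← h1.nn]; nth_rewrite 1 [← e]; exact inv_mul_cancel n)
  rw [h1.inv] at k3
  rcases zp4 h1.nn h.zz k2 with e | e | e | e
  · exact k4 (by rw [conj_eq_one_iff.1 e, inv_one])
  · exact k4 (by rw [k3, e, e])
  · have : n = z := by rw [← mul_left_cancel_iff (a := y), yz, ← e]; group
    exact k4 (by rw [this, isq h.zz])
  · exact k4 (by rw [k3, e, ← conj_inv, e, inv_inv])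

omit [Finite G] in
theorem big (h : Typ z D) : 32 ≤ Nat.card D := by
  rcases h with h | h | h <;> rw [h.card] <;> norm_num

omit [Finite G] in
theorem ta_of (h : Typ z D) (k : Nat.card D ≤ 32) : TA z D := by
  rcases h with h | h | h
  · exact h
  · rw [h.card] at k; omega
  · rw [h.card] at k; omega

theorem inv5 (h : SD z D) (hA : TA z D) {g : G} (g5 : g ^ 5 = 1) (gz : g * z = z * g) (gD : g ∉ 𝒞(D))
    {B : Subgroup G} (zB : z ∈ B) (BD : B ≤ D) (gB : g ∈ 𝒩(B)) : B ≤ zpowers z ∨ D ≤ B := by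
  have : Fact (Nat.Prime 5) := ⟨by norm_num⟩
  have hp : IsPGroup 5 (zpowers g) := isPGroup_zpowers (k := 1) g5
  have pw : ∀ U : Subgroup G, U ≤ D → Nat.card U ≡ 2 [MOD 5] → Nat.card U = 2 ∨ D ≤ U := fun U hU e => by
    have h1 := card_dvd_of_le hU
    rw [hA.card] at h1
    have h2 := Nat.le_of_dvd (by norm_num) h1
    have : Nat.card U = 2 ∨ Nat.card U = 32 := by
      unfold Nat.ModEq at e
      generalize Nat.card U = m at *
      interval_cases m <;> omega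
    exact this.imp_right fun k => (eq_of_le_of_card_ge hU (by rw [k, hA.card])).ge
  have cz : Nat.card (zpowers z) = 2 := by
    rw [Nat.card_zpowers]; exact orderOf_eq_prime ((pow_two z).trans h.zz) h.z1
  have zc : z ∈ 𝒞(zpowers g) := le_centralizer_iff.1 (zpowers_le.2 (by
    rw [zpowers_eq_closure, centralizer_closure]; exact mc.2 gz)) (mem_zpowers z)
  have k1 := Grp.card_modEq_card_inf_centralizer hp (zpowers_le.2 (h.nm g gz))
  have k2 : Nat.card (D ⊓ 𝒞(zpowers g) : Subgroup G) = 2 :=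
    (pw _ inf_le_left (k1.symm.trans (by rw [hA.card]; decide))).resolve_right fun e =>
      gD fun d hd => ((e hd).2 g (mem_zpowers g)).symm
  have k3 := Grp.card_modEq_card_inf_centralizer hp (zpowers_le.2 gB)
  have k4 := card_le_of_le (inf_le_inf_right 𝒞(zpowers g) BD)
  have k5 := card_le_of_le (H := zpowers z) (K := B ⊓ 𝒞(zpowers g)) (zpowers_le.2 ⟨zB, zc⟩)
  refine (pw B BD (k3.trans (by rw [show Nat.card (B ⊓ 𝒞(zpowers g) : Subgroup G) = 2 by omega]))).imp_left fun e => ?_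
  exact (eq_of_le_of_card_ge (zpowers_le.2 zB) (by omega)).ge

omit [Finite G] in
theorem cjm {g x : G} {A : Subgroup G} : g * x * g⁻¹ ∈ cj g A ↔ x ∈ A := by
  rw [mem_cj, show g⁻¹ * (g * x * g⁻¹) * g = x by group]

omit [Finite G] in
theorem cje {g x y : G} : g * x * g⁻¹ = g * y * g⁻¹ ↔ x = y := by simp

omit [Finite G] in
theorem cjmul (g x y : G) : g * x * g⁻¹ * (g * y * g⁻¹) = g * (x * y) * g⁻¹ := by group

omit [Finite G] in
theorem sd_cj (h : SD z D) (g : G) : SD (g * z * g⁻¹) (cj g D) where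
  z1 := fun e => h.z1 (conj_eq_one_iff.1 e)
  zz := by rw [cjmul, h.zz]; group
  zD := cjm.2 h.zD
  cz := by
    rintro _ ⟨x, hx, rfl⟩
    exact (cjmul g x z).trans ((cje.2 (h.cz x hx)).trans (cjmul g z x).symm)
  sq := by
    rintro _ ⟨x, hx, rfl⟩
    exact (h.sq x hx).imp (fun e => (cjmul g x x).trans (conj_eq_one_iff.2 e)) fun e => (cjmul g x x).trans (cje.2 e)
  cm := by
    rintro _ ⟨x, hx, rfl⟩ _ ⟨y, hy, rfl⟩
    change g * x * g⁻¹ * (g * y * g⁻¹) = g * y * g⁻¹ * (g * x * g⁻¹) ∨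
      g * x * g⁻¹ * (g * y * g⁻¹) = g * y * g⁻¹ * (g * x * g⁻¹) * _
    simpa only [cjmul, cje] using h.cm x hx y hy
  nm := fun k hk => by
    rw [← cj_norm, mem_cj]
    refine h.nm _ ((cje (g := g)).1 ?_)
    calc _ = k * (g * z * g⁻¹) := by group
      _ = _ := by rw [hk]; group

omit [Finite G] in
theorem typ_cj (h : Typ z D) (g : G) : Typ (g * z * g⁻¹) (cj g D) := by
  have ct : (∀ x ∈ D, x ∈ 𝒞(D) → x = 1 ∨ x = z) → ∀ x ∈ cj g D, x ∈ 𝒞(cj g D) → x = 1 ∨ x = g * z * g⁻¹ := by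
    rintro k _ ⟨x, hx, rfl⟩ h1
    rw [← cj_cent] at h1
    exact (k x hx (cjm.1 h1)).imp conj_eq_one_iff.2 cje.2
  rcases h with h | h | h
  · obtain ⟨a, a1, a2, a3, a4⟩ := h.five
    refine .inl ⟨(card_cj g D).trans h.card, ct h.ctr, fun A h1 h2 => ?_, g * a * g⁻¹, by rw [conj_pow, a1]; group,
      by rw [cjmul, cjmul, a2], by rwa [← cj_cent, cjm], by rwa [← cj_cent, ← cj_cent, cjm]⟩
    rw [← card_cj g⁻¹ A]
    refine h.rk2 _ (le_cj_iff.1 h1) ?_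
    rintro _ ⟨x, hx, rfl⟩
    exact (cjmul g⁻¹ x x).trans (conj_eq_one_iff.2 (h2 x hx))
  · obtain ⟨a, a1, a2, a3⟩ := h.ctr
    refine .inr (.inl ⟨(card_cj g D).trans h.card, ⟨g * a * g⁻¹, cjm.2 a1, by rw [cjmul, a2], ?_⟩, ?_⟩)
    · rintro _ ⟨x, hx, rfl⟩
      rw [← cj_cent, ← show cj g (zpowers a) = zpowers (g * a * g⁻¹) from MonoidHom.map_zpowers _ _]
      exact cjm.trans ((a3 x hx).trans cjm.symm)
    · rintro _ ⟨x, hx, rfl⟩ _ ⟨y, hy, rfl⟩ h1 h2 h3 h4 h5 h6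
      exact (isConj_iff.2 ⟨g, rfl⟩).symm.trans ((h.conj x hx y hy (conj_eq_one_iff.1 ((cjmul g x x).symm.trans h1))
        (conj_eq_one_iff.1 ((cjmul g y y).symm.trans h2)) (fun e => h3 (conj_eq_one_iff.2 e)) (fun e => h4 (cje.2 e))
        (fun e => h5 (conj_eq_one_iff.2 e)) fun e => h6 (cje.2 e)).trans (isConj_iff.2 ⟨g, rfl⟩))
  · exact .inr (.inr ⟨(card_cj g D).trans h.card, ct h.ctr⟩)

/-- the action of `O₂(C(y))` on `D`, for an involution `y` centralizing `D` -/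
theorem side (h : SD z D) (hA : TA z D) {y j : G} (yD : y ∈ 𝒞(D)) (hc : IsCharP 2 (cen y)) (jD : j ∈ D)
    (j1 : j ≠ 1) (jz : j ≠ z) : ∃ p ∈ pCoreOf 2 (cen y), p * z = z * p ∧ p * j * p⁻¹ = j * z := by
  have : Fact (Nat.Prime 2) := ⟨Nat.prime_two⟩
  obtain ⟨g, g5, gz, gD, gC⟩ := hA.five
  have nP : cen y ≤ 𝒩(pCoreOf 2 (cen y)) := self_le_norm_core _
  have hP : IsPGroup 2 (pCoreOf 2 (cen y)) := core_isP _
  unfold IsCharP at hc
  generalize pCoreOf 2 (cen y) = P at nP hP hc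
  have DX : D ≤ cen y := fun d hd => mc.2 (comm_of_mem yD hd)
  have Dz : D ≤ cen z := fun d hd => mc.2 (h.cz d hd)
  have hD : IsPGroup 2 D := .of_card (n := 5) hA.card
  have n0 : cen y ⊓ cen z ≤ 𝒩(P ⊓ cen z) := le_norm_inf (inf_le_left.trans nP) (inf_le_right.trans le_normalizer)
  have nD : cen z ≤ 𝒩(D) := fun k hk => h.nm k (mc.1 hk)
  have g0 : g ∈ 𝒩(P ⊓ cen z) := n0 ⟨mc.2 (comm_of_mem gC yD).symm, mc.2 gz⟩
  have gn : zpowers g ≤ 𝒩(D) := zpowers_le.2 (h.nm g gz)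
  have jc : j ∉ 𝒞(D) := fun e => (hA.ctr j jD e).elim j1 jz
  obtain ⟨a, ha, b, hb, ab⟩ : ∃ a ∈ D, ∃ b ∈ D, a * b = b * a * z := by
    by_contra k
    push Not at k
    exact jc fun a ha => (h.cm a ha j jD).resolve_right (k a ha j jD)
  have RD : D ⊔ P ⊓ cen z ≤ 𝒩(D) := sup_le le_normalizer (inf_le_right.trans nD)
  have b1 : ⁅D, D ⊔ P ⊓ cen z⁆ ≤ zpowers z := by
    refine (inv5 h hA g5 gz gD ?_ (commutator_le.2 fun x hx k hk => ?_)
      (le_norm_commutator gn (le_norm_sup gn (zpowers_le.2 g0)) (mem_zpowers g))).resolve_right fun e => h.z1 ?_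
    · have := commutator_mem_commutator (inv_mem ha) (mem_sup_left (T := P ⊓ cen z) (inv_mem hb))
      rwa [commutatorElement_def, inv_inv, inv_inv, mul_assoc, ab,
        show a⁻¹ * b⁻¹ * (b * a * z) = z by group] at this
    · rw [commutatorElement_def, mul_assoc, mul_assoc, ← mul_assoc k]
      exact mul_mem hx (conj_mem (RD hk) (inv_mem hx))
    · exact mem_bot.1 ((eq_bot_of_le_commutator hD
        (isPGroup_sup hD (hP.to_le inf_le_left) ((le_inf DX Dz).trans n0)) RD e).le h.zD)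
  rcases inv5 h hA g5 gz gD (B := D ⊓ 𝒞(P ⊓ cen z)) ⟨h.zD, fun p hp => mc.1 hp.2⟩ inf_le_left
    (le_norm_inf gn (le_norm_cent (zpowers_le.2 g0)) (mem_zpowers g)) with b2 | b2
  · obtain ⟨p, hp, k⟩ : ∃ p ∈ P ⊓ cen z, p * j ≠ j * p := by
      by_contra k
      push Not at k
      exact (zp2 h.zz (b2 ⟨jD, k⟩)).elim j1 jz
    refine ⟨p, hp.1, mc.1 hp.2, ?_⟩
    rcases zp2 h.zz (b1 (commutator_mem_commutator (inv_mem jD) (mem_sup_right hp))) with e | e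
    · exact absurd (by simpa using (Commute.inv_left (commutatorElement_eq_one_iff_commute.1 e)).eq.symm) k
    · rw [← e, commutatorElement_def]; group
  exfalso
  have c1 : ∀ w ∈ P ⊓ cen z, ∀ d ∈ D, w * d = d * w := fun w hw d hd => comm_of_mem (b2 hd).2 hw
  by_cases hz : P ≤ cen z
  · refine jc fun d hd => (c1 j ⟨hc ⟨DX jD, fun p hp => c1 p ⟨hp, hz hp⟩ j jD⟩, Dz jD⟩ d hd).symm
  have Mz : P ⊓ cen z ⊔ D ≤ cen z := sup_le inf_le_right Dz
  obtain ⟨x, hx, x1, x2⟩ := Inv.exists_mem_normalizer_of_lt_pgroup (isPGroup_sup' hP hD (DX.trans nP))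
    (lt_of_le_of_ne (sup_le_sup_right (inf_le_left (b := cen z)) D) fun e => hz (le_sup_left.trans (e.ge.trans Mz)))
  obtain ⟨p, hp, d, hd, rfl⟩ := (mem_sup_nl (DX.trans nP)).1 hx
  have pn : p ∈ 𝒩(P ⊓ cen z ⊔ D) := (mul_mem_cancel_right (le_normalizer (mem_sup_right hd))).1 x2
  have k1 : ∀ a ∈ D, p * a * p⁻¹ * a⁻¹ ∈ P ⊓ cen z := fun a ha => ⟨by
    rw [mul_assoc, mul_assoc, ← mul_assoc a]
    exact P.mul_mem hp (conj_mem (nP (DX ha)) (inv_mem hp)),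
    Mz (mul_mem (conj_mem pn (mem_sup_right ha)) (mem_sup_right (inv_mem ha)))⟩
  have k2 := c1 (p⁻¹ * (p * b * p⁻¹ * b⁻¹) * p) ⟨P.mul_mem (P.mul_mem (P.inv_mem hp) (k1 b hb).1) hp,
    Mz (conj_mem' pn (mem_sup_left (k1 b hb)))⟩ a ha
  have k3 := c1 _ (k1 a ha) b hb
  refine x1 (mul_mem (mem_sup_left ⟨hp, mc.2 (mul_inv_eq_iff_eq_mul.1 ?_)⟩) (mem_sup_right hd))
  have k4 : p * a * p⁻¹ * (p * b * p⁻¹) = p * b * p⁻¹ * (p * a * p⁻¹) * z :=
    calc p * a * p⁻¹ * (p * b * p⁻¹) = p * (a * (p⁻¹ * (p * b * p⁻¹ * b⁻¹) * p)) * p⁻¹ * b := by group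
      _ = p * b * p⁻¹ * b⁻¹ * (p * a * p⁻¹ * a⁻¹) * (a * b) := by rw [← k2]; group
      _ = p * b * p⁻¹ * b⁻¹ * (p * a * p⁻¹ * a⁻¹ * b) * a * z := by rw [ab]; group
      _ = _ := by rw [k3]; group
  rw [cjmul, ab, ← cjmul, cjmul p b] at k4
  exact mul_left_cancel k4

omit [Finite G] in
theorem cyc3 {t q : G} (zz : z * z = 1) (tt : t * t = 1) (zt : z * t = t * z) (t1 : t ≠ 1) (ne : t ≠ z)
    (h1 : q * z * q⁻¹ = t) (h2 : q * t * q⁻¹ = t * z) {k : ℕ} (hk : q ^ 2 ^ k = 1) : False := by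
  have e1 : t * z * t = z := by rw [← zt, mul_assoc, tt, mul_one]
  have e2 : z * (t * z) = t := by rw [← zt, ← mul_assoc, zz, one_mul]
  have : ∀ k : ℕ, (q ^ 2 ^ k * z * (q ^ 2 ^ k)⁻¹ = t ∧ q ^ 2 ^ k * t * (q ^ 2 ^ k)⁻¹ = t * z) ∨
      (q ^ 2 ^ k * z * (q ^ 2 ^ k)⁻¹ = t * z ∧ q ^ 2 ^ k * t * (q ^ 2 ^ k)⁻¹ = z) := fun k => by
    induction k with
    | zero => exact .inl ⟨by simpa using h1, by simpa using h2⟩
    | succ k ih =>
      rw [pow_succ, pow_mul, sq]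
      generalize q ^ 2 ^ k = Q at ih
      have c : ∀ x, Q * Q * x * (Q * Q)⁻¹ = Q * (Q * x * Q⁻¹) * Q⁻¹ := fun x => by group
      rw [c, c]
      rcases ih with ⟨a, b⟩ | ⟨a, b⟩
      · exact .inr ⟨by rw [a, b], by rw [b, ← cjmul, a, b, e1]⟩
      · exact .inl ⟨by rw [a, ← cjmul, a, b, e2], by rw [b, a]⟩
  rcases this k with ⟨a, -⟩ | ⟨a, -⟩ <;> rw [hk, one_mul, inv_one, mul_one] at a
  · exact ne a.symm
  · exact t1 (by simpa using a)

end Gen

/-- a pair of commuting conjugates -/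
structure Pr {G : Type*} [Group G] (z : G) (D : Subgroup G) (t : G) (E : Subgroup G) : Prop where
  rk : PRankLE 2 3 G
  sd : SD z D
  ty : Typ z D
  sd' : SD t E
  ty' : Typ t E
  zt : z * t = t * z
  n1 : ∀ g, g * z * g⁻¹ ∈ D → g * z * g⁻¹ = z
  n2 : ∀ g, g * t * g⁻¹ ∈ E → g * t * g⁻¹ = t
  tD : t ∉ D
  zE : z ∉ E

namespace Pr
variable {G : Type u} [Group G] {z t j : G} {D E : Subgroup G} (h : Pr z D t E)
include h

theorem symm : Pr t E z D := ⟨h.rk, h.sd', h.ty', h.sd, h.ty, h.zt.symm, h.n2, h.n1, h.zE, h.tD⟩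

theorem ne : t ≠ z := fun e => h.tD (e ▸ h.sd.zD)

theorem jsq (jD : j ∈ D) (jE : j ∈ E) : j * j = 1 :=
  (h.sd.sq j jD).resolve_right fun e => h.zE (e ▸ mul_mem jE jE)

variable [Finite G]

/-- the involutions that commute with `z`, `t` and an involution `e` of `D` -/
theorem in8 {e d : G} (eD : e ∈ D) (e2 : e * e = 1) (e1 : e ≠ 1) (ez : e ≠ z) (et : e * t = t * e) (d2 : d * d = 1)
    (dz : d * z = z * d) (dt : d * t = t * d) (de : d * e = e * d) :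
    d = 1 ∨ d = z ∨ d = t ∨ d = z * t ∨ d = e ∨ d = z * e ∨ d = t * e ∨ d = z * t * e :=
  e8 h.rk h.sd.zz h.sd'.zz e2 d2 h.zt (h.sd.cz e eD).symm dz.symm et.symm dt.symm de.symm h.sd.z1 h.sd'.z1 h.ne e1 ez
    (fun k => h.tD (k ▸ eD)) fun k => h.tD ((mul_mem_cancel_left h.sd.zD).1 (k ▸ eD))

theorem inD (jD : j ∈ D) (jE : j ∈ E) (j1 : j ≠ 1) {d : G} (dD : d ∈ D) (d2 : d * d = 1) (dt : d * t = t * d)
    (dj : d * j = j * d) : d = 1 ∨ d = z ∨ d = j ∨ d = z * j := by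
  have zD := h.sd.zD
  rcases h.in8 jD (h.jsq jD jE) j1 (fun k => h.zE (k ▸ jE)) (h.sd'.cz j jE) d2 (h.sd.cz d dD) dt dj with
    k | k | k | k | k | k | k | k
  · exact .inl k
  · exact .inr (.inl k)
  · exact absurd (k ▸ dD) h.tD
  · exact absurd ((mul_mem_cancel_left zD).1 (k ▸ dD)) h.tD
  · exact .inr (.inr (.inl k))
  · exact .inr (.inr (.inr k))
  · exact absurd ((mul_mem_cancel_right jD).1 (k ▸ dD)) h.tD
  · exact absurd ((mul_mem_cancel_left zD).1 ((mul_mem_cancel_right jD).1 (k ▸ dD))) h.tD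

theorem jcen (jD : j ∈ D) (jE : j ∈ E) (j1 : j ≠ 1) {a : G} (az : a * z = z * a) (aT : a * t = t * a) :
    a * j = j * a := by
  have h1 := conj_mem (h.sd.nm a az) jD
  have h2 := conj_mem (h.sd'.nm a aT) jE
  rcases h.inD jD jE j1 h1 (h.jsq h1 h2) (h.sd'.cz _ h2)
    (cm_of_sq (h.jsq h1 h2) (h.jsq jD jE) (h.jsq (mul_mem h1 jD) (mul_mem h2 jE))) with k | k | k | k
  · exact absurd (conj_eq_one_iff.1 k) j1
  · exact absurd (k ▸ h2) h.zE
  · exact mul_inv_eq_iff_eq_mul.1 k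
  · exact absurd ((mul_mem_cancel_right jE).1 (k ▸ h2)) h.zE

theorem inv_F (hK : TKThm.{u}) (hQ : QThm.{u}) : ∃ e ∈ D, e * t = t * e ∧ e * e = 1 ∧ e ≠ 1 ∧ e ≠ z := by
  by_contra hc
  have hA : ∀ x ∈ D ⊓ cen t, x * x = 1 → x ∈ zpowers z := fun x hx x2 => by
    by_contra k
    exact hc ⟨x, hx.1, mc.1 hx.2, x2, fun e => k (e ▸ one_mem _), fun e => k (e ▸ mem_zpowers _)⟩
  have cz : Nat.card (zpowers z) = 2 := by
    rw [Nat.card_zpowers]; exact orderOf_eq_prime ((pow_two z).trans h.sd.zz) h.sd.z1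
  have k1 := aniso h.sd inf_le_left hA
  have k2 := big h.ty
  rcases hK G z D t h.rk h.sd h.ty h.tD h.sd'.zz h.zt.symm with k | ⟨n, k⟩ | ⟨j, n, k⟩
  · have := half h.sd le_rfl k
    omega
  · have := quarter h.sd k
    obtain ⟨x, hx, y, hy, x2, y2, xy⟩ := ex2 h.sd inf_le_left hA (by omega)
    have c : ∀ a ∈ D ⊓ cen t, ∀ b ∈ E, b * z = z * b → gam a b = 1 := fun a ha b hb bz => by
      have h1 : gam a b ∈ E := mul_mem (inv_mem hb) (conj_mem (h.sd'.nm a (mc.1 ha.2)) hb)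
      have h2 : gam a b ∈ D := by
        rw [gam, ← mul_assoc, ← mul_assoc]
        exact mul_mem (conj_mem' (h.sd.nm b bz) ha.1) (inv_mem ha.1)
      exact (zp2 h.sd.zz (hA _ ⟨h2, mc.2 (h.sd'.cz _ h1)⟩ (h.jsq h2 h1))).resolve_right fun e => h.zE (e ▸ h1)
    have k3 := hQ G t E z x y h.rk h.sd' h.ty' h.zE h.sd.zz x2 y2 xy (mc.1 hx.2) (mc.1 hy.2)
      fun b hb bz => ⟨.inl (c x hx b hb bz), .inl (c y hy b hb bz)⟩
    have k4 := big h.ty'
    have k5 := rk8 h.rk (A := E) fun b hb => (h.sd'.sq b hb).resolve_right fun e =>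
      nsq h.sd k e (comm_of_mem k3 hb)
    omega
  · exact hc ⟨j, k.jD, k.js.symm, k.jj, k.j1, k.jz⟩

theorem exj (hK : TKThm.{u}) (hQ : QThm.{u}) : ∃ j ∈ D, j ∈ E ∧ j ≠ 1 := by
  by_contra hc
  have J : ∀ j ∈ D, j ∈ E → j = 1 := fun j h1 h2 => by
    by_contra k
    exact hc ⟨j, h1, h2, k⟩
  obtain ⟨e, eD, et, e2, e1, ez⟩ := h.inv_F hK hQ
  obtain ⟨d, dE, dz, d2, d1, dt⟩ := h.symm.inv_F hK hQ
  have de : gam e d = 1 := J _ (by
    rw [gam, ← mul_assoc, ← mul_assoc]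
    exact mul_mem (conj_mem' (h.sd.nm d dz) eD) (inv_mem eD)) (mul_mem (inv_mem dE) (conj_mem (h.sd'.nm e et) dE))
  have tE := h.sd'.zD
  have ze : z * e ∉ E := fun k => ez (by
    rw [← isq h.sd.zz]; exact (inv_eq_of_mul_eq_one_right (J _ (mul_mem h.sd.zD eD) k)).symm)
  rcases h.in8 eD e2 e1 ez et d2 dz (h.sd'.cz d dE) (gam_one.1 de) with k | k | k | k | k | k | k | k
  · exact d1 k
  · exact h.zE (k ▸ dE)
  · exact dt k
  · exact h.zE ((mul_mem_cancel_right tE).1 (k ▸ dE))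
  · exact e1 (J e eD (k ▸ dE))
  · exact ze (k ▸ dE)
  · exact e1 (J e eD ((mul_mem_cancel_left tE).1 (k ▸ dE)))
  · rw [h.zt, mul_assoc] at k
    exact ze ((mul_mem_cancel_left tE).1 (k ▸ dE))

theorem not2 (jD : j ∈ D) (jE : j ∈ E) (j1 : j ≠ 1) {i n : G} (k : T2 z D t i n) : False := by
  obtain ⟨d, -, hd⟩ := k.exj
  have e1 : d⁻¹ * t * d⁻¹⁻¹ = i * t := by rw [← hd, gam]; group
  have jt : j * t ∈ E := mul_mem jE h.sd'.zD
  rcases h.inD jD jE j1 k.jD k.jj k.js.symm (h.jcen jD jE j1 (h.sd.cz i k.jD) k.js.symm) with e | e | e | e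
  · exact k.j1 e
  · exact k.jz e
  · rw [e] at e1
    exact j1 (by simpa using e1.symm.trans (h.n2 d⁻¹ (e1 ▸ jt)))
  · have e2 : (n * d⁻¹) * t * (n * d⁻¹)⁻¹ = j * t :=
      calc _ = n * (d⁻¹ * t * d⁻¹⁻¹) * n⁻¹ := by group
        _ = n * i * (t * n * t⁻¹)⁻¹ * t := by rw [e1]; group
        _ = i * z * t := by rw [k.inv, inv_inv, ← k.jn, mul_assoc i, k.nn]
        _ = _ := by rw [e, mul_assoc z, h.sd.cz j jD, ← mul_assoc z, h.sd.zz, one_mul]
    exact j1 (by simpa using e2.symm.trans (h.n2 _ (e2 ▸ jt)))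

theorem A4 (jD : j ∈ D) (jE : j ∈ E) (j1 : j ≠ 1) :
    ∃ A : Subgroup G, Nat.card A ≤ 4 ∧ ∀ x ∈ D ⊓ cen t, x * x = 1 → x ∈ A := by
  have c : ∀ x : G, x * x = 1 → Nat.card (zpowers x) ≤ 2 := fun x k => by
    rw [Nat.card_zpowers]; exact orderOf_le_of_pow_eq_one two_pos ((pow_two x).trans k)
  have c1 := c z h.sd.zz
  have m := (step (U := zpowers z) (fun y hy => by rcases zp2 h.sd.zz hy with rfl | rfl <;> simp [h.sd.zz])
    (h.jsq jD jE) fun y hy => mc.1 (zpowers_le.2 (mc.2 (h.sd.cz j jD).symm) hy)).2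
  have c2 := idx2 (A := zpowers z) (B := zpowers z ⊔ zpowers j) fun x hx w hw h1 h2 => by
    obtain ⟨a, ha, rfl⟩ := (m x hx).resolve_left h1
    obtain ⟨b, hb, rfl⟩ := (m w hw).resolve_left h2
    rw [mul_assoc, ← mul_assoc j, ← mc.1 (zpowers_le.2 (mc.2 (h.sd.cz j jD).symm) hb), mul_assoc, h.jsq jD jE, mul_one]
    exact mul_mem ha hb
  refine ⟨zpowers z ⊔ zpowers j, by omega, fun x hx x2 => ?_⟩
  rcases h.inD jD jE j1 hx.1 x2 (mc.1 hx.2) (h.jcen jD jE j1 (h.sd.cz x hx.1) (mc.1 hx.2)) with e | e | e | e <;> rw [e]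
  exacts [one_mem _, mem_sup_left (mem_zpowers _), mem_sup_right (mem_zpowers _),
    mul_mem_sup (mem_zpowers _) (mem_zpowers _)]

theorem t0 (hK : TKThm.{u}) (jD : j ∈ D) (jE : j ∈ E) (j1 : j ≠ 1) : T0 z D t := by
  rcases hK G z D t h.rk h.sd h.ty h.tD h.sd'.zz h.zt.symm with k | ⟨n, k⟩ | ⟨i, n, k⟩
  · exact k
  · exfalso
    obtain ⟨A, h1, h2⟩ := h.symm.A4 jE jD j1
    have k2 := big h.ty'
    have k3 : Nat.card E ≤ 4 * Nat.card (E ⊓ cen z : Subgroup G) := by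
      rcases hK G t E z h.rk h.sd' h.ty' h.zE h.sd.zz h.zt with k | ⟨n, k⟩ | ⟨i, n, k⟩
      · have := half h.sd' le_rfl k
        omega
      · exact quarter h.sd' k
      · exact (h.symm.not2 jE jD j1 k).elim
    obtain ⟨y, hy, k4⟩ := ex_out (F := E ⊓ cen z) (A := A) ![1] (by omega)
    exact nsq h.sd k ((h.sd'.sq y hy.1).resolve_left fun e => k4 0 (by simpa using h2 y hy e)) (mc.1 hy.2)
  · exact (h.not2 jD jE j1 k).elim

theorem ta (hK : TKThm.{u}) (jD : j ∈ D) (jE : j ∈ E) (j1 : j ≠ 1) : TA z D ∧ t * j ∈ 𝒞(D) := by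
  obtain ⟨A, h1, h2⟩ := h.A4 jD jE j1
  have k0 := h.t0 hK jD jE j1
  have k1 := aniso h.sd inf_le_left h2
  have k2 := half h.sd le_rfl k0
  have hA := ta_of h.ty (by omega)
  have c : ∀ d ∈ D, d * t = t * d → d * j = j * d := fun d hd => h.jcen jD jE j1 (h.sd.cz d hd)
  have c' : ∀ d ∈ D, d * t ≠ t * d → t * d * t⁻¹ = d * z := fun d hd k =>
    gam_eq.1 ((k0 d hd).resolve_left fun e => k (gam_one.1 e))
  refine ⟨hA, fun d hd => ?_⟩
  by_cases k : d * t = t * d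
  · rw [← mul_assoc, k, mul_assoc, c d hd k, mul_assoc]
  rcases h.sd.cm j jD d hd with e | e
  · refine absurd (hA.ctr j jD fun w hw => ?_) fun e => e.elim j1 fun e => h.zE (e ▸ jE)
    by_cases k' : w * t = t * w
    · exact c w hw k'
    have := c _ (mul_mem hd hw) (mul_inv_eq_iff_eq_mul.1 (by
      rw [← cjmul, c' d hd k, c' w hw k', mul_assoc, ← mul_assoc z, ← h.sd.cz w hw, mul_assoc, h.sd.zz, mul_one])).symm
    rwa [← mul_assoc, e, mul_assoc, mul_assoc, mul_left_cancel_iff] at this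
  · calc d * (t * j) = d * t * j * (z * z) := by rw [h.sd.zz]; group
      _ = d * (t * (j * z)) * z := by group
      _ = d * z * t * j * z := by rw [h.sd.cz j jD, ← mul_assoc t, ← h.zt]; group
      _ = t * (d * j * z) := by rw [← c' d hd k]; group
      _ = _ := by rw [← e, mul_assoc]

theorem false (hK : TKThm.{u}) (hQ : QThm.{u}) (cz : ∀ y : G, y ≠ 1 → y * y = 1 → IsCharP 2 (cen y)) : False := by
  obtain ⟨j, jD, jE, j1⟩ := h.exj hK hQ
  obtain ⟨a1, a2⟩ := h.ta hK jD jE j1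
  obtain ⟨b1, b2⟩ := h.symm.ta hK jE jD j1
  have jz := h.sd.cz j jD
  have jt := h.sd'.cz j jE
  have zz := h.sd.zz
  have tt := h.sd'.zz
  have e : t * j * z = z * j * t := by rw [mul_assoc, jz, ← mul_assoc, ← h.zt, mul_assoc, ← jt, mul_assoc]
  have y2 : t * j * z * (t * j * z) = 1 := by
    nth_rewrite 2 [e]
    rw [mul_assoc, ← mul_assoc z, ← mul_assoc z, zz, one_mul, mul_assoc, ← mul_assoc j, h.jsq jD jE, one_mul, tt]
  have hc := cz _ (fun k => h.tD ((mul_mem_cancel_right jD).1 ((mul_mem_cancel_right h.sd.zD).1 (by rw [k]; exact one_mem D)))) y2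
  obtain ⟨p, hp, pz, pj⟩ := side h.sd a1 (mul_mem a2 h.sd.cz) hc jD j1 fun k => h.zE (k ▸ jE)
  obtain ⟨q, hq, qt, qj⟩ := side h.sd' b1 (e ▸ mul_mem b2 h.sd'.cz) hc jE j1 fun k => h.tD (k ▸ jD)
  have p1 := mul_inv_eq_iff_eq_mul.2 (mc.1 (core_le _ hp))
  have q1 := mul_inv_eq_iff_eq_mul.2 (mc.1 (core_le _ hq))
  have p2 := mul_inv_eq_iff_eq_mul.2 pz
  have q2 := mul_inv_eq_iff_eq_mul.2 qt
  have p3 : p * t * p⁻¹ = t * z := by
    rw [← cjmul, ← cjmul, pj, p2, mul_left_inj] at p1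
    rw [eq_mul_inv_of_mul_eq p1, jz, mul_inv_rev, isq zz]; group
  have q3 : q * z * q⁻¹ = z * t := by
    rw [e, ← cjmul, ← cjmul, qj, q2, mul_left_inj] at q1
    rw [eq_mul_inv_of_mul_eq q1, jt, mul_inv_rev, isq tt]; group
  obtain ⟨k, hk⟩ := isPGroup_iff_forall.1 (core_isP (p := 2) _) _ (mul_mem hp hq)
  have c : ∀ x, p * q * x * (p * q)⁻¹ = p * (q * x * q⁻¹) * p⁻¹ := fun x => by group
  exact cyc3 zz tt h.zt h.sd'.z1 h.ne (by rw [c, q3, ← cjmul, p2, p3, ← h.zt, ← mul_assoc, zz, one_mul])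
    (by rw [c, q2, p3]) hk

end Pr

end S1j

open S1j

theorem s1_of (hK : TKThm.{u}) (hQ : QThm.{u}) : S1Thm.{u} := fun G _ _ z D hy sd ty n1 g hg => by
  by_contra ne
  refine Pr.false ⟨hy.rk, sd, ty, sd_cj sd g, typ_cj ty g, hg.symm, n1, fun k hk => ?_, fun k => ne (n1 g k),
    fun k => ne ?_⟩ hK hQ hy.cz
  · have := n1 (g⁻¹ * k * g) (by
      rw [mem_cj] at hk
      rwa [show g⁻¹ * k * g * z * (g⁻¹ * k * g)⁻¹ = g⁻¹ * (k * (g * z * g⁻¹) * k⁻¹) * g by group])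
    calc _ = g * (g⁻¹ * k * g * z * (g⁻¹ * k * g)⁻¹) * g⁻¹ := by group
      _ = _ := by rw [this]
  · have := n1 g⁻¹ (by rw [inv_inv]; exact mem_cj.1 k)
    calc _ = g * (g⁻¹ * z * g⁻¹⁻¹) * g⁻¹ := by rw [this]
      _ = _ := by group

end CL.ON3
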