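/-
Project ON3, step S2a: the relation `z ^ g ∈ D` is symmetric.
-/
import Cfsg.Agent.ON3.Bas
import Cfsg.Agent.Fus.SubGrp

set_option autoImplicit false
open Cfsg Subgroup CL.Even
open scoped commutatorElement

namespace CL.ON3

universe u

namespace S2a

variable {G : Type*} [Group G] [Finite G] {z t : G} {D E : Subgroup G}

theorem half {A B : Subgroup G} (h : ∀ x ∈ A, ∀ y ∈ A, x ∉ B → y ∉ B → x * y ∈ B) :
    Nat.card A ≤ 2 * Nat.card ↥(A ⊓ B) := by
  have h1 : B.relIndex A ∣ 2 := by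
    by_cases hle : A ≤ B
    · rw [relIndex_eq_one.2 hle]; exact one_dvd _
    · obtain ⟨a, ha, hb⟩ := SetLike.not_le_iff_exists.1 hle
      exact relIndex_dvd_two_iff.2 ⟨a, ha, fun b h1 => (em _).symm.imp_left fun h2 => h b h1 a ha h2 hb⟩
  have h2 := relIndex_mul_relIndex ⊥ (A ⊓ B) A bot_le inf_le_left
  rw [relIndex_bot_left, relIndex_bot_left, inf_relIndex_left, mul_comm] at h2
  exact h2 ▸ Nat.mul_le_mul_right _ (Nat.le_of_dvd two_pos h1)

omit [Finite G] in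
theorem zp (h : SD z D) {x : G} (hx : x ∈ zpowers z) : x = 1 ∨ x = z := by
  obtain ⟨n, rfl⟩ := hx
  obtain ⟨k, rfl | rfl⟩ := Int.even_or_odd' n
  · exact Or.inl (show z ^ (2 * k) = 1 by rw [zpow_mul, zpow_two, h.zz, one_zpow])
  · exact Or.inr (show z ^ (2 * k + 1) = z by rw [zpow_add_one, zpow_mul, zpow_two, h.zz, one_zpow, one_mul])

omit [Finite G] in
theorem ctr (h : SD z D) (hT : Typ z D) {x : G} (hx : x ∈ D) (hc : x ∈ 𝒞(D)) (xx : x * x = 1) : x = 1 ∨ x = z := by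
  rcases hT with hT | hT | hT
  · exact hT.ctr x hx hc
  · obtain ⟨a, -, a2, ha⟩ := hT.ctr
    obtain ⟨n, rfl⟩ := (ha x hx).1 hc
    have h2 : ∀ k : ℤ, a ^ (2 * k) ∈ zpowers z := fun k => ⟨k, by rw [zpow_mul, zpow_two, a2]⟩
    obtain ⟨k, rfl | rfl⟩ := Int.even_or_odd' n
    · exact zp h (h2 k)
    · exfalso
      have xx : a ^ (2 * k + 1) * a ^ (2 * k + 1) = 1 := xx
      rw [← zpow_add, show 2 * k + 1 + (2 * k + 1) = 2 * (2 * k) + 2 by ring, zpow_add, zpow_mul, zpow_two, a2,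
        zpow_mul, zpow_two, h.zz, one_zpow, one_mul] at xx
      exact h.z1 xx
  · exact hT.ctr x hx hc

omit [Finite G] in
theorem mul_cen (h : SD z D) (ht : t ∈ D) {x y : G} (hx : x ∈ D) (hy : y ∈ D) (x1 : x * t ≠ t * x) (y1 : y * t ≠ t * y) :
    x * y * t = t * (x * y) := by
  rw [mul_assoc, (h.cm y hy t ht).resolve_left y1, mul_assoc t, ← mul_assoc, (h.cm x hx t ht).resolve_left x1,
    h.cz y hy, mul_assoc, ← mul_assoc z, h.zz, one_mul, mul_assoc]

omit [Finite G] in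
/-- An element of `D` commuting with `C_D(t)` lies in `⟨t⟩ Z(D)`. -/
theorem cF (h : SD z D) (ht : t ∈ D) {d x : G} (hd : d ∈ D) (d1 : d * t ≠ t * d) (hx : x ∈ D)
    (x1 : ∀ y ∈ D, y * t = t * y → y * x = x * y) : x ∈ 𝒞(D) ∨ x * t ∈ 𝒞(D) := by
  have key : ∀ w, (∀ y ∈ D, y * t = t * y → y * w = w * y) → d * w = w * d → w ∈ 𝒞(D) := fun w h1 h2 y hy => by
    by_cases e : y * t = t * y
    · exact h1 y hy e
    · have h3 := h1 _ (mul_mem hy hd) (mul_cen h ht hy hd e d1)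
      rw [mul_assoc, h2, ← mul_assoc, ← mul_assoc] at h3
      exact mul_right_cancel h3
  refine (h.cm d hd x hx).imp (key x x1) fun e => key _ (fun y hy e1 => ?_) ?_
  · rw [← mul_assoc, x1 y hy e1, mul_assoc, e1, mul_assoc]
  · rw [← mul_assoc, e, mul_assoc, ← h.cz t ht, mul_assoc x, ← mul_assoc d, (h.cm d hd t ht).resolve_left d1,
      mul_assoc (t * d), h.zz, mul_one, mul_assoc]

end S2a

open S2a in
theorem s2a_of (hQ : QThm.{u}) : S2aThm.{u} := by
  intro G _ _ z D hr h hT g ht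
  have hE := h.cj g
  have hTE := hT.cj h g
  have hc := card_cj g D
  generalize cj g D = E at *
  generalize g * z * g⁻¹ = t at *
  by_contra zE
  have := Fact.mk Nat.prime_two
  have tz : t ≠ z := fun e => zE (e ▸ hE.zD)
  obtain ⟨d, hd, d1⟩ : ∃ d ∈ D, d * t ≠ t * d := by
    by_contra! e
    exact (ctr h hT ht e hE.zz).elim hE.z1 tz
  have J : ∀ x ∈ D, x ∈ E → x = 1 ∨ x = t := fun x hx xE => by
    have xx : x * x = 1 := (h.sq x hx).resolve_right fun e => zE (e ▸ mul_mem xE xE)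
    have h1 : ∀ y ∈ D, y * t = t * y → y * x = x * y := fun y hy e => (h.cm y hy x hx).resolve_right fun e1 => zE (by
      have h2 := mul_mem (inv_mem xE) ((mem_normalizer_iff.1 (hE.nm y e) x).1 xE)
      rwa [e1, mul_assoc x, h.cz y hy, show x⁻¹ * (x * (z * y) * y⁻¹) = z by group] at h2)
    refine (cF h ht hd d1 hx h1).imp (fun e => (ctr h hT hx e xx).resolve_right fun e1 => zE (e1 ▸ xE)) fun e => ?_
    have h2 := (ctr h hT (mul_mem hx ht) e (by
      rw [mul_assoc, ← mul_assoc t, h1 t ht rfl, mul_assoc, hE.zz, mul_one, xx])).resolve_right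
        fun e1 => zE (e1 ▸ mul_mem xE hE.zD)
    rw [eq_inv_of_mul_eq_one_left h2, inv_eq_of_mul_eq_one_right hE.zz]
  have J' : ∀ y ∈ D, y * t = t * y → ∀ x ∈ E, x * z = z * x → gam y x = 1 ∨ gam y x = t := fun y hy e x hx e1 =>
    J _ (by
      have h1 := mul_mem ((mem_normalizer_iff.1 (inv_mem (h.nm x e1)) y).1 hy) (inv_mem hy)
      rwa [show x⁻¹ * y * x⁻¹⁻¹ * y⁻¹ = gam y x by rw [gam]; group] at h1)
      (mul_mem (inv_mem hx) ((mem_normalizer_iff.1 (hE.nm y e) x).1 hx))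
  obtain ⟨i, hi, j, hj, it, jt, ii, jj, ij⟩ := exQ8 hr h hT ht hE.zz hE.z1 tz
  have zC := hQ G t E z i j hr hE hTE zE h.zz ii jj ij it jt fun x hx e => ⟨J' i hi it x hx e, J' j hj jt x hx e⟩
  rcases hTE with hA | hB
  swap
  · obtain ⟨A, h1, -, h2, h3⟩ := exE8 hE (hB.elim (fun e => e.card.ge) fun e => by rw [e.card]; norm_num)
    exact zE (h1 (mem_of_e8 hr h2 h3 h.zz fun a ha => zC a (h1 ha)))
  have ne : i * j ≠ j * i := fun e => h.z1 (by rwa [e, left_eq_mul] at ij)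
  -- `C_D(t) = ⟨z, t, i, j⟩`
  have step : ∀ {K : Subgroup G} {x : G}, K ≤ D ⊓ cen t → z ∈ K → x ∈ D ⊓ cen t → x ∉ K →
      Nat.card ↥(K ⊔ zpowers x) = 2 * Nat.card K ∧ K ⊔ zpowers x ≤ D ⊓ cen t ∧ z ∈ K ⊔ zpowers x :=
    fun {K x} h1 h2 h3 h4 => ⟨Fus.card_sup_zpowers_of_normalizer (mem_normalizer_fintype fun k hk => by
      rcases h.cm x h3.1 k (h1 hk).1 with e | e
      · rwa [e, mul_inv_cancel_right]
      · rw [e, mul_assoc k, h.cz x h3.1, ← mul_assoc, mul_inv_cancel_right]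
        exact mul_mem hk h2) h4 (by
      rcases h.sq x h3.1 with e | e <;> rw [sq, e]
      exacts [one_mem _, h2]), sup_le h1 (zpowers_le.2 h3), mem_sup_left h2⟩
  have mc : ∀ {a b : G}, a ∈ cen b ↔ a * b = b * a := mem_centralizer_singleton_iff
  have oz : orderOf z = 2 := orderOf_eq_prime (by rw [sq, h.zz]) h.z1
  obtain ⟨c1, l1, z1⟩ := step (K := zpowers z) (zpowers_le.2 ⟨h.zD, mc.2 (h.cz t ht).symm⟩) (mem_zpowers z)
    ⟨ht, mc.2 rfl⟩ fun e => (zp h e).elim hE.z1 tz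
  have le1 : ∀ {y : G}, y * z = z * y → y * t = t * y → zpowers z ⊔ zpowers t ≤ cen y := fun e1 e2 =>
    sup_le (zpowers_le.2 (mc.2 e1.symm)) (zpowers_le.2 (mc.2 e2.symm))
  obtain ⟨c2, l2, z2⟩ := step l1 z1 ⟨hi, mc.2 it⟩ fun e => ne (mc.1 (le1 (h.cz j hj) jt e))
  obtain ⟨c3, l3, -⟩ := step l2 z2 ⟨hj, mc.2 jt⟩ fun e =>
    ne (mc.1 (sup_le (le1 (h.cz i hi) it) (zpowers_le.2 (mc.2 rfl)) e)).symm
  rw [c2, c1, Nat.card_zpowers, oz] at c3
  have hF : zpowers z ⊔ zpowers t ⊔ zpowers i ⊔ zpowers j = D ⊓ cen t := eq_of_le_of_card_ge l3 (by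
    have h1 := card_dvd_of_le (inf_le_left : D ⊓ cen t ≤ D)
    have h2 : Nat.card ↥(D ⊓ cen t) ≠ Nat.card D := fun e =>
      d1 (mc.1 (inf_eq_left.1 (eq_of_le_of_card_ge inf_le_left e.ge) hd))
    rw [← hc, hA.card] at h1 h2
    obtain ⟨k, hk⟩ := h1
    rw [c3]
    rcases k with _ | _ | k
    · omega
    · omega
    · nlinarith)
  -- an element of order four of `E` centralising `C_D(t)`
  have hh : ∀ y ∈ D, y * t = t * y → ∀ a ∈ E, ∀ b ∈ E, a ∉ cen y → b ∉ cen y → a * b ∈ cen y := by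
    intro y hy e a ha b hb a1 b1
    have h1 : ∀ a ∈ E, a ∉ cen y → y * a = a * t * y := fun a ha a1 => by
      have h2 := (J' y hy e a ha (zC a ha)).resolve_left fun e1 => a1 (mc.2 (by
        rw [gam, inv_mul_eq_one] at e1
        exact eq_mul_inv_iff_mul_eq.1 e1))
      rw [← h2, gam]
      group
    refine mc.2 ?_
    rw [← mul_assoc, h1 a ha a1, mul_assoc (a * t), h1 b hb b1, hE.cz b hb, mul_assoc a t, ← mul_assoc t,
      ← mul_assoc t, hE.zz, one_mul, mul_assoc]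
  have h1 := half (hh i hi it)
  have h2 := half (A := E ⊓ cen i) fun a ha b hb => hh j hj jt a ha.1 b hb.1
  obtain ⟨y, hy, yy⟩ : ∃ y ∈ E ⊓ cen i ⊓ cen j, y * y = t := by
    by_contra! e
    have := hA.rk2 _ (inf_le_left.trans inf_le_left) fun a ha => (hE.sq a ha.1.1).resolve_right (e a ha)
    have := hA.card
    omega
  have yz := zC y hy.1.1
  have yF : ∀ f ∈ D, f * t = t * f → f * y = y * f := fun f hf e => mc.1 ((hF ▸ sup_le (sup_le
    (le1 yz (hE.cz y hy.1.1)) (zpowers_le.2 (mc.2 (mc.1 hy.1.2).symm))) (zpowers_le.2 (mc.2 (mc.1 hy.2).symm)) :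
      D ⊓ cen t ≤ cen y) ⟨hf, mc.2 e⟩)
  have cD : gam y d ∈ D := mul_mem (inv_mem hd) ((mem_normalizer_iff.1 (h.nm y yz) d).1 hd)
  have e0 : y * d * y⁻¹ = d * gam y d := by rw [gam]; group
  have sq : d * gam y d * (d * gam y d) = d * d := by
    rw [← e0, conj_mul]
    rcases h.sq d hd with e | e <;> rw [e]
    · simp
    · rw [yz, mul_inv_cancel_right]
  have cF' : ∀ f ∈ D, f * t = t * f → f * gam y d = gam y d * f := fun f hf e => by
    have h3 := yF _ (mul_mem (mul_mem hd hf) (inv_mem hd)) (by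
      rcases h.cm d hd f hf with e1 | e1
      · rwa [e1, mul_inv_cancel_right]
      · rw [e1, mul_assoc f, h.cz d hd, ← mul_assoc, mul_inv_cancel_right, mul_assoc, ← h.cz t ht, ← mul_assoc, e,
          mul_assoc])
    calc f * gam y d = d⁻¹ * (d * f * d⁻¹ * y) * d * y⁻¹ := by rw [gam]; group
      _ = gam y d * (y * f) * y⁻¹ := by rw [h3, gam]; group
      _ = _ := by rw [← yF f hf e]; group
  have hD : TA z D := hT.elim id fun e => by
    have := hA.card
    rcases e with e | e <;> have := e.card <;> omega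
  rcases cF h ht hd d1 cD cF' with e | e
  · have h5 : y * gam y d * y⁻¹ = gam y d ∧ gam y d * gam y d = 1 := by
      rcases hD.ctr _ cD e with e1 | e1 <;> rw [e1]
      · simp
      · exact ⟨by rw [yz, mul_inv_cancel_right], h.zz⟩
    refine d1 (mul_inv_eq_iff_eq_mul.1 ?_).symm
    rw [← yy, show y * y * d * (y * y)⁻¹ = y * (y * d * y⁻¹) * y⁻¹ by group, e0, ← conj_mul, e0, h5.1, mul_assoc, h5.2,
      mul_one]
  · have h3 := (h.cm t ht d hd).resolve_left fun e => d1 e.symm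
    have h4 : d * t * (d * t) = d * d * z := by
      rw [mul_assoc, ← mul_assoc t, h3, mul_assoc (d * t), ← h.cz t ht, ← mul_assoc (d * t), mul_assoc d t, hE.zz,
        mul_one, mul_assoc]
    refine h.z1 (mul_eq_left.1 (h4.symm.trans (Eq.trans ?_ sq)))
    rcases hD.ctr _ (mul_mem cD ht) e with e1 | e1 <;>
      rw [eq_mul_inv_of_mul_eq e1, inv_eq_of_mul_eq_one_right hE.zz]
    · rw [one_mul]
    · rw [← h.cz t ht, ← mul_assoc d, mul_assoc (d * t) z, ← mul_assoc z, ← h.cz _ (mul_mem hd ht), mul_assoc (d * t) z,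
        h.zz, mul_one]

end CL.ON3
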