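/-
ON3, step S2B: `z` is weakly closed in the group `D` of symplectic type.
-/
import Cfsg.Agent.ON3.Defs
import Cfsg.Agent.Even.XS2
import Cfsg.Agent.Spor.HeldGen
import Cfsg.Agent.Z2S.Basic

set_option autoImplicit false
open Cfsg Subgroup CL.Even
open CL.Held (cj_of_comm comm_of_cj cj_cj cj_back cj_sq cj_comm inv_of_sq mem_cent1 mem_normalizer_of)
open CL.Z2S (ad mem_ad card_ad ad_le ad_of ad_self le_ad subOf mp_normalizer)

namespace CL.ON3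

universe u

namespace S2b

variable {G : Type*} [Group G] {a b c d d' e i j t u v x y z ζ : G} {A D E F J : Subgroup G}

/-- all squares are trivial -/
def El (A : Subgroup G) : Prop := ∀ a ∈ A, a * a = 1

theorem El.comm (h : El A) (ha : a ∈ A) (hb : b ∈ A) : a * b = b * a := by
  rw [← inv_of_sq (h _ (mul_mem ha hb)), mul_inv_rev, inv_of_sq (h a ha), inv_of_sq (h b hb)]

theorem El.cent (h : El A) (ha : a ∈ A) : a ∈ 𝒞(A) := fun _ hb => h.comm hb ha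

theorem El.le8 (hr : PRankLE 2 3 G) (h : El A) : Nat.card A ≤ 8 :=
  hr A ⟨⟨fun a b => Subtype.ext (h.comm a.2 b.2)⟩⟩ fun a ha => (sq a).trans (h a ha)

theorem pair_le (ha : a ∈ A) (hb : b ∈ A) : closure {a, b} ≤ A := by
  rw [closure_le]; rintro _ (rfl | rfl); exacts [ha, hb]

theorem m1 : a ∈ closure ({a, b} : Set G) := subset_closure (by simp)
theorem m2 : b ∈ closure ({a, b} : Set G) := subset_closure (by simp)

theorem El.mp (h : El A) (ha : a ∈ A) (hb : b ∈ A) :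
    x ∈ closure ({a, b} : Set G) ↔ x = 1 ∨ x = a ∨ x = b ∨ x = a * b :=
  mem_closure_pair_two (h a ha) (h b hb) (h.comm ha hb)

theorem cent_pair (h1 : x * a = a * x) (h2 : x * b = b * x) : x ∈ 𝒞(closure ({a, b} : Set G)) := fun _ hy =>
  mem_cent1.1 (pair_le (A := cen x) (mem_cent1.2 h1.symm) (mem_cent1.2 h2.symm) hy)

theorem el_pair (ha : a * a = 1) (hb : b * b = 1) (h : a * b = b * a) : El (closure {a, b}) := fun x hx => by
  rcases (mem_closure_pair_two ha hb h).1 hx with rfl | rfl | rfl | rfl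
  exacts [one_mul _, ha, hb, by rw [mul_assoc, ← mul_assoc b, ← h, mul_assoc, hb, mul_one, ha]]

variable [Finite G]

theorem mad (hc : c ∈ 𝒞(A)) (c2 : c * c = 1) : x ∈ ad A c ↔ x ∈ A ∨ ∃ n ∈ A, x = c * n :=
  mem_ad (mp_normalizer.1 (centralizer_le_normalizer _ hc)) (c2 ▸ one_mem _)

theorem cad (hc : c ∈ 𝒞(A)) (c2 : c * c = 1) (h : c ∉ A) : Nat.card (ad A c) = 2 * Nat.card A :=
  card_ad (mp_normalizer.1 (centralizer_le_normalizer _ hc)) (c2 ▸ one_mem _) h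

theorem El.adj (h : El A) (hc : c ∈ 𝒞(A)) (c2 : c * c = 1) : El (ad A c) := fun x hx => by
  rcases (mad hc c2).1 hx with k | ⟨n, hn, rfl⟩
  exacts [h x k, by rw [mul_assoc, ← mul_assoc n, hc n hn, mul_assoc, h n hn, mul_one, c2]]

theorem El.mem8 (hr : PRankLE 2 3 G) (h : El A) (h8 : Nat.card A = 8) (hc : c ∈ 𝒞(A)) (c2 : c * c = 1) : c ∈ A := by
  by_contra k
  have := (h.adj hc c2).le8 hr
  rw [cad hc c2 k] at this
  omega

theorem card4 (ha : a * a = 1) (hb : b * b = 1) (h : a * b = b * a) (a1 : a ≠ 1) (b1 : b ≠ 1) (ab : b ≠ a) :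
    Nat.card (closure ({a, b} : Set G)) = 4 := by
  have k : a ∈ 𝒞((⊥ : Subgroup G)) := fun x hx => by rw [mem_bot.1 hx, one_mul, mul_one]
  have k1 : b ∈ 𝒞(ad ⊥ a) := fun x hx => mem_cent1.1 ((ad_le (K := cen b)).2 ⟨bot_le, mem_cent1.2 h⟩ hx)
  rw [show closure {a, b} = ad (ad ⊥ a) b from le_antisymm (pair_le (ad_of ad_self) ad_self)
    (ad_le.2 ⟨ad_le.2 ⟨bot_le, m1⟩, m2⟩), cad k1 hb fun e => ?_, cad k ha a1, card_bot]
  rcases (mad k ha).1 e with e | ⟨n, hn, e⟩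
  exacts [b1 e, ab (by rw [e, mem_bot.1 hn, mul_one])]

theorem El.basis (h : El J) (h8 : Nat.card J = 8) (ha : a ∈ J) (hb : b ∈ J) (hc : c ∈ J) (a1 : a ≠ 1) (b1 : b ≠ 1)
    (ab : b ≠ a) (hn : c ∉ closure {a, b}) : J ≤ ad (closure {a, b}) c :=
  (eq_of_le_of_card_ge (ad_le.2 ⟨pair_le ha hb, hc⟩) (by
    rw [cad (cent_pair (h.comm hc ha) (h.comm hc hb)) (h c hc) hn, card4 (h a ha) (h b hb) (h.comm ha hb) a1 b1 ab, h8])).ge

theorem idx2 (hA : A ≤ F) (h : ∀ x ∈ F, ∀ y ∈ F, x ∉ A → y ∉ A → x * y ∈ A) : Nat.card F ≤ 2 * Nat.card A := by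
  by_cases k : F ≤ A
  · have := card_le_of_le k
    omega
  obtain ⟨n, hn, k⟩ := SetLike.not_le_iff_exists.1 k
  have k' : n⁻¹ ∉ A := fun e => k (inv_mem_iff.1 e)
  rw [← card_ad (fun a ha => (Z2S.cj_def n a).symm ▸ mul_assoc n⁻¹ a n ▸ h _ (inv_mem hn) _ (mul_mem (hA ha) hn) k'
    fun e => k ((mul_mem_cancel_left ha).1 e)) (h n hn n hn k k) k]
  refine card_le_of_le fun x hx => ?_
  by_cases e : x ∈ A
  exacts [ad_of e, by simpa using mul_mem (ad_self (g := n)) (ad_of (h _ (inv_mem hn) x hx k' e))]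

/-- transvections generate the automorphism group -/
theorem full_of (h : El J) (h8 : Nat.card J = 8) (ha : a ∈ J) (hb : b ∈ J) (hc : c ∈ J) (a1 : a ≠ 1) (b1 : b ≠ 1)
    (ab : b ≠ a) (hn : c ∉ closure {a, b}) (T : ∀ u ∈ J, ∀ v ∈ J, ∀ c ∈ J, c ∉ closure {u, v} →
      ∃ m ∈ 𝒩(J), m * u * m⁻¹ = u ∧ m * v * m⁻¹ = v ∧ m * c * m⁻¹ = c * u) : Full J := by
  refine ⟨h, h8, fun α => ?_⟩
  have inj : ∀ x y : J, (α x : G) = α y → (x : G) = y := fun x y e => congrArg _ (α.injective (Subtype.ext e))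
  obtain ⟨a', ha'⟩ : ∃ a' : G, α ⟨a, ha⟩ = a' := ⟨_, rfl⟩
  obtain ⟨b', hb'⟩ : ∃ b' : G, α ⟨b, hb⟩ = b' := ⟨_, rfl⟩
  obtain ⟨c', hc'⟩ : ∃ c' : G, α ⟨c, hc⟩ = c' := ⟨_, rfl⟩
  have ja : a' ∈ J := ha' ▸ (α _).2
  have jb : b' ∈ J := hb' ▸ (α _).2
  have jc : c' ∈ J := hc' ▸ (α _).2
  have a1' : a' ≠ 1 := fun e => a1 (inj ⟨a, ha⟩ 1 (by rw [ha', e, map_one]; rfl))
  have b1' : b' ≠ 1 := fun e => b1 (inj ⟨b, hb⟩ 1 (by rw [hb', e, map_one]; rfl))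
  have ab' : b' ≠ a' := fun e => ab (inj ⟨b, hb⟩ ⟨a, ha⟩ (by rw [hb', ha', e]))
  have hn' : c' ∉ closure {a', b'} := fun e => hn ((h.mp ha hb).2 (((h.mp ja jb).1 e).imp
    (fun e => inj ⟨c, hc⟩ 1 (by rw [hc', e, map_one]; rfl)) (Or.imp (fun e => inj ⟨c, hc⟩ ⟨a, ha⟩ (by rw [hc', ha', e]))
    (Or.imp (fun e => inj ⟨c, hc⟩ ⟨b, hb⟩ (by rw [hc', hb', e])) fun e => inj ⟨c, hc⟩ (⟨a, ha⟩ * ⟨b, hb⟩) (by
      rw [hc', map_mul, coe_mul, ha', hb', e])))))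
  have mv : ∀ x ∈ J, ∀ y ∈ J, ∀ v ∈ J, x ≠ 1 → y ≠ 1 → x ≠ v → y ≠ v → ∃ m ∈ 𝒩(J), m * v * m⁻¹ = v ∧ m * x * m⁻¹ = y :=
    fun x hx y hy v hv x1 y1 xv yv => by
    obtain ⟨m, hm, -, e1, e2⟩ := T _ (mul_mem hx hy) v hv x hx fun e => by
      rcases (h.mp (mul_mem hx hy) hv).1 e with e | e | e | e
      · exact x1 e
      · exact y1 (left_eq_mul.1 e)
      · exact xv e
      · rw [mul_assoc, left_eq_mul, mul_eq_one_iff_eq_inv, inv_of_sq (h v hv)] at e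
        exact yv e
    exact ⟨m, hm, e1, by rw [e2, ← mul_assoc, h x hx, one_mul]⟩
  obtain ⟨m, hm, -, e1⟩ := mv a ha a' ja 1 (one_mem _) a1 a1' a1 a1'
  obtain ⟨n, hn1, e2, e3⟩ := mv _ ((mem_normalizer_iff.1 hm b).1 hb) b' jb a' ja
    (fun e => b1 (Held.cj_inj (e.trans (by simp)))) b1' (fun e => ab (Held.cj_inj (e.trans e1.symm))) ab'
  have f1 : n * m * a * (n * m)⁻¹ = a' := by rw [cj_cj, e1, e2]
  have f2 : n * m * b * (n * m)⁻¹ = b' := by rw [cj_cj, e3]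
  have f3 := mul_mem hn1 hm
  generalize n * m = m at f1 f2 f3
  have jc' := (mem_normalizer_iff.1 f3 c).1 hc
  have hn2 : m * c * m⁻¹ ∉ closure {a', b'} := fun e => hn (by
    simpa [mul_assoc] using pair_le (A := cj m (closure {a, b})) (f1 ▸ conj_mem_cj m m1) (f2 ▸ conj_mem_cj m m2) e
      |> mem_cj.1)
  obtain ⟨k, hk, e4, e5, e6⟩ : ∃ k ∈ 𝒩(J), k * a' * k⁻¹ = a' ∧ k * b' * k⁻¹ = b' ∧ k * (m * c * m⁻¹) * k⁻¹ = c' := by
    obtain ⟨w, hw, e⟩ := ((mad (cent_pair (h.comm jc' ja) (h.comm jc' jb)) (h _ jc')).1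
      (h.basis h8 ja jb jc' a1' b1' ab' hn2 jc)).resolve_left hn'
    rcases (h.mp ja jb).1 hw with rfl | rfl | rfl | rfl
    · exact ⟨1, one_mem _, by simp, by simp, by simp [e]⟩
    · exact e ▸ T _ ja _ jb _ jc' hn2
    · obtain ⟨k, hk, e4, e5, e6⟩ := T _ jb _ ja _ jc' fun e => hn2 (pair_le m2 m1 e)
      exact ⟨k, hk, e5, e4, e ▸ e6⟩
    · obtain ⟨k, hk, e4, e5, e6⟩ := T _ (mul_mem ja jb) _ ja _ jc' fun e => hn2 (pair_le (mul_mem m1 m2) m1 e)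
      exact ⟨k, hk, e5, by rwa [Held.cj_mul, e5, mul_right_inj] at e4, e ▸ e6⟩
  let K := (((MulAut.conj (k * m)).toMonoidHom.comp J.subtype).eqLocus (J.subtype.comp α.toMonoidHom)).map J.subtype
  have kk : ∀ x (hx : x ∈ J), k * (m * x * m⁻¹) * k⁻¹ = α ⟨x, hx⟩ → x ∈ K := fun x hx e =>
    ⟨⟨x, hx⟩, (cj_cj k m x).trans e, rfl⟩
  refine ⟨k * m, mul_mem hk f3, fun x => ?_⟩
  obtain ⟨y, hy, e⟩ := (h.basis h8 ha hb hc a1 b1 ab hn).trans (ad_le.2 ⟨pair_le (kk a ha (by rw [f1, e4, ha']))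
    (kk b hb (by rw [f2, e5, hb'])), kk c hc (by rw [e6, hc'])⟩) x.2
  exact (Subtype.ext e : y = x) ▸ hy

/-- `SD`, and `z` is the only central involution -/
structure SC (z : G) (D : Subgroup G) : Prop extends SD z D where
  ci : ∀ x ∈ D, x * x = 1 → x ∈ 𝒞(D) → x = 1 ∨ x = z

omit [Finite G] in
theorem sc_of (h : SD z D) (k : Typ z D) : SC z D := ⟨h, fun x hx x2 hc => by
  rcases k with k | k | k
  · exact k.ctr x hx hc
  · obtain ⟨a, -, a2, k⟩ := k.ctr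
    obtain ⟨n, rfl⟩ := (k x hx).1 hc
    obtain ⟨m, rfl | rfl⟩ := Int.even_or_odd' n
    · beta_reduce
      rw [zpow_mul, zpow_two, a2]
      exact ((mem_closure_pair_two h.zz h.zz rfl).1 (zpow_mem m1 m)).elim .inl fun e => e.elim .inr fun e =>
        e.elim .inr fun e => .inl (e.trans h.zz)
    · refine absurd ?_ h.z1
      beta_reduce at x2
      rwa [← zpow_add, show 2 * m + 1 + (2 * m + 1) = 2 * (2 * m + 1) by ring, zpow_mul, zpow_two, a2, zpow_add,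
        zpow_mul, zpow_two, h.zz, one_zpow, one_mul, zpow_one] at x2
  · exact k.ctr x hx hc⟩

omit [Finite G] in
theorem SC.conj (h : SC z D) (g : G) : SC (g * z * g⁻¹) (cj g D) where
  z1 := fun e => h.z1 (Held.cj_inj (e.trans (by simp)))
  zz := cj_sq h.zz
  zD := conj_mem_cj g h.zD
  cz := fun _ ⟨x, hx, e⟩ => e ▸ cj_comm (h.cz x hx)
  sq := fun _ ⟨x, hx, e⟩ => e ▸ (h.sq x hx).imp cj_sq fun k => (Held.cj_mul g x x).symm.trans (by rw [k])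
  cm := fun _ ⟨x, hx, e⟩ _ ⟨y, hy, e'⟩ => e ▸ e' ▸ (h.cm x hx y hy).imp cj_comm fun k =>
    (Held.cj_mul g x y).symm.trans (by rw [k, Held.cj_mul, Held.cj_mul]; rfl)
  nm := fun k hk => cj_norm g D ▸ mem_cj.2 (h.nm _ (by simpa [mul_assoc] using cj_comm (g := g⁻¹) hk))
  ci := fun _ ⟨x, hx, e⟩ x2 hc => by
    subst e
    rw [← cj_cent, mem_cj] at hc
    refine (h.ci x hx (Held.cj_inj ((Held.cj_mul g x x).trans (x2.trans (by simp)))) (by simpa [mul_assoc] using hc)).imp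
      (fun k => by simp [k]) fun k => by rw [k]; rfl

namespace SC
variable (h : SC z D)
include h

omit [Finite G] in
theorem nn (hx : x ∈ D) (hy : y ∈ D) (ha : a ∈ D) (h1 : x * a ≠ a * x) (h2 : y * a ≠ a * y) :
    x * y * a = a * (x * y) := by
  rw [mul_assoc, (h.cm y hy a ha).resolve_left h2, ← mul_assoc, ← mul_assoc, (h.cm x hx a ha).resolve_left h1,
    mul_assoc, mul_assoc, ← mul_assoc z, ← h.cz y hy, mul_assoc y, h.zz, mul_one, mul_assoc]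

omit [Finite G] in
theorem cjm (hx : x ∈ D) (hy : y ∈ D) : ∃ ε, (ε = 1 ∨ ε = z) ∧ x * y * x⁻¹ = y * ε :=
  (h.cm x hx y hy).elim (fun k => ⟨1, .inl rfl, by rw [cj_of_comm k, mul_one]⟩) fun k =>
    ⟨z, .inr rfl, by rw [k, mul_assoc y, h.cz x hx]; group⟩

theorem nrm (hA : A ≤ D) (hz : z ∈ A) (hx : x ∈ D) : x ∈ 𝒩(A) := mem_normalizer_of fun a ha => by
  obtain ⟨ε, rfl | rfl, e⟩ := h.cjm hx (hA ha) <;> rw [e]
  exacts [mul_mem ha (one_mem _), mul_mem ha hz]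

theorem half (hF : F ≤ D) (ha : a ∈ D) : Nat.card F ≤ 2 * Nat.card (F ⊓ cen a : Subgroup G) :=
  idx2 inf_le_left fun _ hx _ hy h1 h2 => ⟨mul_mem hx hy, mem_cent1.2 (h.nn (hF hx) (hF hy) ha
    (fun e => h1 ⟨hx, mem_cent1.2 e⟩) fun e => h2 ⟨hy, mem_cent1.2 e⟩)⟩

omit [Finite G] in
theorem exn (ha : a ∈ D) (a2 : a * a = 1) (a1 : a ≠ 1) (az : a ≠ z) : ∃ m ∈ D, m * a ≠ a * m := by
  by_contra! k
  exact (h.ci a ha a2 k).elim a1 az

omit [Finite G] in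
theorem cjn (hx : x ∈ D) (ha : a ∈ D) (k : x * a ≠ a * x) : x * a * x⁻¹ = a * z := by
  obtain ⟨ε, rfl | rfl, e⟩ := h.cjm hx ha
  exacts [absurd (comm_of_cj (e.trans (mul_one _))) k, e]

omit [Finite G] in
theorem trv (hv : v ∈ D) (hc : c ∈ D) (c2 : c * c = 1) (v2 : v * v = 1) (vc : v * c = c * v)
    (hn : c ∉ closure {z, v}) : ∃ m ∈ D, m * v = v * m ∧ m * c ≠ c * m := by
  obtain ⟨m, hm, k⟩ := h.exn hc c2 (fun e => hn (e ▸ one_mem _)) fun e => hn (e ▸ m1)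
  obtain ⟨n, hn', k'⟩ := h.exn (mul_mem hv hc) (el_pair v2 c2 vc _ (mul_mem m1 m2))
    (fun e => hn ((mul_mem_cancel_left m2).1 (e ▸ one_mem _))) fun e => hn ((mul_mem_cancel_left m2).1 (e ▸ m1))
  by_cases e1 : m * v = v * m
  · exact ⟨m, hm, e1, k⟩
  by_cases e2 : n * v = v * n
  · exact ⟨n, hn', e2, fun e => k' (Commute.mul_right e2 e)⟩
  by_cases e3 : n * c = c * n
  · exact ⟨m * n, mul_mem hm hn', h.nn hm hn' hv e1 e2, fun e => k (mul_right_cancel (b := n) (by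
      rw [mul_assoc, ← e3, ← mul_assoc, e, mul_assoc]))⟩
  · exact absurd (h.nn hv hc hn' (Ne.symm e2) (Ne.symm e3)).symm k'

theorem exQ (hF : F ≤ D) (hA : ∀ A ≤ F, El A → 2 * Nat.card A < Nat.card F) :
    ∃ i ∈ F, ∃ j ∈ F, i * i = z ∧ j * j = z ∧ i * j = j * i * z := by
  by_contra! k
  have k1 : ∀ i ∈ F, ∀ j ∈ F, i * i = z → j * j = z → i * j = j * i := fun i hi j hj e1 e2 =>
    (h.cm i (hF hi) j (hF hj)).resolve_right (k i hi j hj e1 e2)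
  by_cases k2 : ∀ n ∈ F, n * n = z → ∀ a ∈ F, n * a = a * n
  · refine (idx2 (A := subOf (fun a => a ∈ F ∧ a * a = 1) ⟨one_mem _, one_mul _⟩ fun a b ha hb =>
      ⟨mul_mem ha.1 hb.1, (h.sq _ (hF (mul_mem ha.1 hb.1))).elim id fun e => ?_⟩) (fun _ e => e.1)
      fun x hx y hy h1 h2 => ⟨mul_mem hx hy, ?_⟩).not_gt (hA _ (fun _ e => e.1) fun _ e => e.2)
    · exact el_pair ha.2 hb.2 (mul_left_cancel (a := a) (by rw [← k2 _ (mul_mem ha.1 hb.1) e a ha.1, mul_assoc])) _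
        (mul_mem m1 m2)
    · have e1 := (h.sq x (hF hx)).resolve_left fun e => h1 ⟨hx, e⟩
      have e2 := (h.sq y (hF hy)).resolve_left fun e => h2 ⟨hy, e⟩
      rw [mul_assoc, ← mul_assoc y, ← k1 x hx y hy e1 e2, mul_assoc, e2, ← mul_assoc, e1, h.zz]
  push Not at k2
  obtain ⟨n, hn, n2, a, ha, k2⟩ := k2
  have a2 := (h.sq a (hF ha)).resolve_right fun e => k2 (k1 n hn a ha n2 e)
  refine (h.half hF (hF ha)).not_gt (hA _ inf_le_left fun c ⟨hc, ca⟩ => (h.sq c (hF hc)).resolve_right fun e => k2 ?_)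
  have := k1 n hn _ (mul_mem hc ha) n2 (by
    rw [mul_assoc, ← mul_assoc a, ← mem_cent1.1 ca, mul_assoc, a2, mul_one, e])
  rwa [← mul_assoc, k1 n hn c hc n2 e, mul_assoc, mul_assoc, mul_right_inj] at this

omit [Finite G] in
theorem cent2 (tD : t ∈ D) (t2 : t * t = 1) (dD : d ∈ D) (dt : d * t ≠ t * d) (hc : c ∈ D) (c2 : c * c = 1)
    (k : ∀ w ∈ D, w * t = t * w → w * c = c * w) : c = 1 ∨ c = z ∨ c = t ∨ c = z * t := by
  have key : ∀ c ∈ D, c * c = 1 → (∀ w ∈ D, w * t = t * w → w * c = c * w) → d * c = c * d → c = 1 ∨ c = z :=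
    fun c hc c2 k e => h.ci c hc c2 fun w hw => by
      by_cases e1 : w * t = t * w
      · exact k w hw e1
      · exact mul_right_cancel (b := d) (by
          rw [mul_assoc, ← e, ← mul_assoc, k _ (mul_mem hw dD) (h.nn hw dD tD e1 dt), mul_assoc])
  by_cases e : d * c = c * d
  · exact (key c hc c2 k e).imp_right .inl
  · have := key _ (mul_mem hc tD) (el_pair c2 t2 (k t tD rfl).symm _ (mul_mem m1 m2))
      (fun w hw e => Commute.mul_right (k w hw e) e) (h.nn hc tD dD (Ne.symm e) (Ne.symm dt)).symm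
    rw [← eq_mul_inv_iff_mul_eq, ← eq_mul_inv_iff_mul_eq, inv_of_sq t2, one_mul] at this
    exact .inr (.inr this)

end SC

/-- two of the groups, each containing the centre of the other -/
structure Two (z t : G) (D E : Subgroup G) (d d' : G) : Prop where
  hD : SC z D
  hE : SC t E
  tD : t ∈ D
  zE : z ∈ E
  tz : t ≠ z
  dD : d ∈ D
  dt : d * t * d⁻¹ = t * z
  dE : d' ∈ E
  dz : d' * z * d'⁻¹ = z * t
  de : cj d' D ≤ cj d E

omit [Finite G] in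
theorem rl (h : a * b = c) (w : G) : a * (b * w) = c * w := by rw [← mul_assoc, h]

namespace Two
variable (h : Two z t D E d d')
include h

omit [Finite G] in
theorem el : El (D ⊓ E) := fun x hx => (h.hD.sq x hx.1).elim id fun e => (h.hE.sq x hx.2).resolve_right
  fun e' => h.tz (e'.symm.trans e)
omit [Finite G] in
theorem zJ : z ∈ D ⊓ E := ⟨h.hD.zD, h.zE⟩
omit [Finite G] in
theorem tJ : t ∈ D ⊓ E := ⟨h.tD, h.hE.zD⟩
omit [Finite G] in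
theorem nD (hx : x ∈ 𝒞(D ⊓ E)) : x ∈ 𝒩(D) := h.hD.nm x (hx z h.zJ).symm
omit [Finite G] in
theorem nE (hx : x ∈ 𝒞(D ⊓ E)) : x ∈ 𝒩(E) := h.hE.nm x (hx t h.tJ).symm
omit [Finite G] in
theorem ndt : d * t ≠ t * d := fun e => h.hD.z1 (left_eq_mul.1 ((cj_of_comm e).symm.trans h.dt))

omit [Finite G] in
theorem comm (xE : x ∈ E) (xC : x ∈ 𝒞(D ⊓ E)) (yD : y ∈ D) (yC : y ∈ 𝒞(D ⊓ E)) :
    ∃ c, (c = 1 ∨ c = z ∨ c = t ∨ c = z * t) ∧ c ∈ D ⊓ E ∧ x * y = y * x * c := by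
  have cJ : y⁻¹ * (x * y * x⁻¹) ∈ D ⊓ E := mem_inf.2 ⟨mul_mem (inv_mem yD) ((mem_normalizer_iff.1 (h.nD xC) y).1 yD), by
    simpa only [mul_assoc] using mul_mem ((mem_normalizer_iff''.1 (h.nE yC) x).1 xE) (inv_mem xE)⟩
  obtain ⟨c, hc⟩ : ∃ c, y⁻¹ * (x * y * x⁻¹) = c := ⟨_, rfl⟩
  rw [hc] at cJ
  rw [inv_mul_eq_iff_eq_mul] at hc
  refine ⟨c, h.hD.cent2 h.tD h.hE.zz h.dD h.ndt cJ.1 (h.el c cJ) fun w hw wt => ?_, cJ, by
    rw [mul_assoc, ← xC c cJ, ← mul_assoc, ← hc, inv_mul_cancel_right]⟩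
  have w1 := (mem_normalizer_iff''.1 (h.nD xC) w).1 hw
  have jJ : w⁻¹ * (x⁻¹ * w * x) ∈ D ⊓ E := mem_inf.2 ⟨mul_mem (inv_mem hw) w1, by
    simpa only [mul_assoc] using mul_mem ((mem_normalizer_iff''.1 (h.hE.nm w wt) _).1 (inv_mem xE)) xE⟩
  obtain ⟨ε, hε, e⟩ := h.hD.cjm w1 yD
  have xε : x * ε * x⁻¹ = ε := by
    rcases hε with rfl | rfl
    exacts [by simp, cj_of_comm (xC _ h.zJ).symm]
  have cε : c * ε = ε * c := by
    rcases hε with rfl | rfl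
    exacts [by simp, h.hD.cz c cJ.1]
  have e1 : w * y * w⁻¹ = y * ε := by
    rw [← e, ← mul_inv_cancel_left w (x⁻¹ * w * x), cj_cj, cj_of_comm (yC _ jJ)]
  have e2 : w * (y * c) * w⁻¹ = y * c * ε := by
    rw [← hc, ← xε, ← Held.cj_mul, ← e]; group
  rw [Held.cj_mul, e1, mul_assoc y c, cε, ← mul_assoc y, mul_right_inj] at e2
  exact comm_of_cj e2

theorem psi (yD : y ∈ D) (yC : y ∈ 𝒞(D ⊓ E)) : ∃ X ∈ E, X ∈ 𝒞(D ⊓ E) ∧ d' * y * d'⁻¹ = y * X ∧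
    ∃ j ∈ D ⊓ E, d * (X * j) * d⁻¹ = y * X := by
  have XE : y⁻¹ * (d' * y * d'⁻¹) ∈ E := by
    simpa only [mul_assoc] using mul_mem ((mem_normalizer_iff''.1 (h.nE yC) d').1 h.dE) (inv_mem h.dE)
  have XC : y⁻¹ * (d' * y * d'⁻¹) ∈ 𝒞(D ⊓ E) := mul_mem (inv_mem yC) (by
    rw [← cj_eq (h.hE.nrm inf_le_right h.tJ h.dE), ← cj_cent]; exact conj_mem_cj d' yC)
  obtain ⟨X, hX⟩ : ∃ X, y⁻¹ * (d' * y * d'⁻¹) = X := ⟨_, rfl⟩
  rw [hX] at XE XC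
  rw [inv_mul_eq_iff_eq_mul] at hX
  refine ⟨X, XE, XC, hX, X⁻¹ * (d⁻¹ * (y * X) * d), mem_inf.2 ⟨?_, mul_mem (inv_mem XE)
    (hX ▸ mem_cj.1 (h.de (conj_mem_cj d' yD)))⟩, by group⟩
  simpa only [mul_assoc] using mul_mem ((mem_normalizer_iff''.1 (h.nD XC) _).1 (mul_mem (inv_mem h.dD) yD)) h.dD

omit [Finite G] in
theorem key {X Y k : G} (xC : x ∈ 𝒞(D ⊓ E)) (yD : y ∈ D) (yC : y ∈ 𝒞(D ⊓ E)) (XE : X ∈ E) (XC : X ∈ 𝒞(D ⊓ E))
    (YC : Y ∈ 𝒞(D ⊓ E)) (eY : d' * y * d'⁻¹ = y * Y) (hk : k ∈ D ⊓ E) (ek : d * (X * k) * d⁻¹ = x * X)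
    (hζ : ζ ∈ D ⊓ E) (e : x * y = y * x * ζ) :
    ∃ c, (c = 1 ∨ c = z ∨ c = t ∨ c = z * t) ∧ X * y = y * X * c ∧ d * c * d⁻¹ = ζ * c ∧
      X * Y * c = Y * X * (d' * c * d'⁻¹) := by
  obtain ⟨c, h1, cJ, h2⟩ := h.comm XE XC yD yC
  refine ⟨c, h1, h2, ?_, ?_⟩
  · obtain ⟨ε, hε, e1⟩ := h.hD.cjm h.dD yD
    have εJ : ε ∈ D ⊓ E := by
      rcases hε with rfl | rfl
      exacts [one_mem _, h.zJ]
    have e2 : d * (X * k * y) * d⁻¹ = d * (y * (X * k) * c) * d⁻¹ := by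
      rw [mul_assoc X, yC k hk, ← mul_assoc X, h2, mul_assoc _ c, h.el.comm cJ hk, ← mul_assoc (y * X), mul_assoc y]
    rw [Held.cj_mul d (X * k), Held.cj_mul d _ c, Held.cj_mul d y, ek, e1, ← yC ε εJ] at e2
    generalize d * c * d⁻¹ = c' at e2 ⊢
    simp only [mul_assoc, h2, rl e, rl (xC ε εJ).symm, rl (XC ε εJ).symm, rl (XC ζ hζ), mul_right_inj] at e2
    exact e2.symm
  · obtain ⟨τ, hτ, e1⟩ := h.hE.cjm h.dE XE
    have τJ : τ ∈ D ⊓ E := by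
      rcases hτ with rfl | rfl
      exacts [one_mem _, h.tJ]
    have e2 : d' * (X * y) * d'⁻¹ = d' * (y * X * c) * d'⁻¹ := by rw [h2]
    rw [Held.cj_mul, Held.cj_mul, Held.cj_mul, eY, e1, ← XC τ τJ] at e2
    generalize d' * c * d'⁻¹ = c' at e2 ⊢
    simp only [mul_assoc, rl h2, rl (yC τ τJ).symm, rl (YC τ τJ).symm, YC c cJ, mul_right_inj] at e2 ⊢
    exact e2

theorem false (hr : PRankLE 2 3 G) (iD : i ∈ D) (iC : i ∈ 𝒞(D ⊓ E)) (jD : j ∈ D) (jC : j ∈ 𝒞(D ⊓ E))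
    (ii : i * i = z) (jj : j * j = z) (ij : i * j = j * i * z) : False := by
  obtain ⟨X, XE, XC, eX, k, hk, ek⟩ := h.psi iD iC
  obtain ⟨Y, YE, YC, eY, l, hl, el⟩ := h.psi jD jC
  have z2 := h.hD.zz
  have t2 := h.hE.zz
  have t1 := h.hE.z1
  have zt := h.hD.cz t h.tD
  have dz := cj_of_comm (h.hD.cz d h.dD)
  have dt := cj_of_comm (h.hE.cz d' h.dE)
  have dzt : d * (z * t) * d⁻¹ = t := by rw [Held.cj_mul, dz, h.dt, zt, ← mul_assoc, z2, one_mul]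
  have dzt' : d' * (z * t) * d'⁻¹ = z := by rw [Held.cj_mul, dt, h.dz, mul_assoc, t2, mul_one]
  have k0 : ∀ {x X k : G}, x ∈ D → x ∈ 𝒞(D ⊓ E) → X ∈ E → X ∈ 𝒞(D ⊓ E) → d' * x * d'⁻¹ = x * X → k ∈ D ⊓ E →
      d * (X * k) * d⁻¹ = x * X → x * x = z → X * x = x * X ∧ X * X = t := fun {x X k} h1 h2 h3 h4 h5 h6 h7 h8 => by
    obtain ⟨c, c1, c2, c3, c4⟩ := h.key h2 h1 h2 h3 h4 h4 h5 h6 h7 (one_mem _) (mul_one _).symm
    rw [mul_right_inj] at c4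
    rcases c1 with rfl | rfl | rfl | rfl
    · rw [mul_one] at c2
      refine ⟨c2, mul_left_cancel (a := z) ?_⟩
      rw [← h.dz, ← h8, Held.cj_mul, h5, mul_assoc, mul_assoc, rl c2, mul_assoc]
    · exact absurd (left_eq_mul.1 (c4.trans h.dz)) t1
    · exact absurd (left_eq_mul.1 ((one_mul _).symm.trans (c3.symm.trans h.dt))) h.hD.z1
    · exact absurd (mul_eq_left.1 (c4.trans dzt')) t1
  obtain ⟨Xi, XX⟩ := k0 iD iC XE XC eX hk ek ii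
  obtain ⟨Yj, YY⟩ := k0 jD jC YE YC eY hl el jj
  have k1 : ∀ {x y X Y k : G}, x ∈ 𝒞(D ⊓ E) → y ∈ D → y ∈ 𝒞(D ⊓ E) → X ∈ E → X ∈ 𝒞(D ⊓ E) → Y ∈ 𝒞(D ⊓ E) →
      d' * y * d'⁻¹ = y * Y → k ∈ D ⊓ E → d * (X * k) * d⁻¹ = x * X → x * y = y * x * z →
      (X * y = y * X * t ∧ X * Y = Y * X) ∨ (X * y = y * X * (z * t) ∧ X * Y = Y * X * t) :=
    fun {x y X Y k} h1 h2 h3 h4 h5 h6 h7 h8 h9 h10 => by
    obtain ⟨c, c1, c2, c3, c4⟩ := h.key h1 h2 h3 h4 h5 h6 h7 h8 h9 h.zJ h10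
    rcases c1 with rfl | rfl | rfl | rfl
    · exact absurd (by simpa using c3.symm) h.hD.z1
    · exact absurd (dz.symm.trans (c3.trans z2)) h.hD.z1
    · exact .inl ⟨c2, by rwa [dt, mul_left_inj] at c4⟩
    · refine .inr ⟨c2, mul_right_cancel (b := z * t) ?_⟩
      rw [c4, dzt', mul_assoc _ t, ← zt, rl t2, one_mul]
  have ji : j * i = i * j * z := by rw [ij, mul_assoc, z2, mul_one]
  have zi := rl (iC z h.zJ).symm
  have zj := rl (jC z h.zJ).symm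
  have zX := rl (XC z h.zJ).symm
  have zY := rl (YC z h.zJ).symm
  have ti := rl (iC t h.tJ).symm
  have tj := rl (jC t h.tJ).symm
  have tX := rl (XC t h.tJ).symm
  have tY := rl (YC t h.tJ).symm
  have e0 : i * X * (j * Y) * 1 = j * Y * (i * X) * (z * t) * 1 := by
    rw [← eX, ← eY, ← h.dz, ← Held.cj_mul, ← Held.cj_mul, ← Held.cj_mul, ij]
  rcases k1 iC jD jC XE XC YC eY hk ek ij with ⟨Xj, XY⟩ | ⟨Xj, XY⟩ <;>
    rcases k1 jC iD iC YE YC XC eX hl el ji with ⟨Yi, YX⟩ | ⟨Yi, YX⟩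
  · simp only [mul_assoc, rl Xj, rl Yi, rl ij, rl XY, zi, zj, zX, zY, ti, tj, tX, tY, rl zt, rl t2,
      one_mul] at e0
    exact t1 (mul_eq_right.1 (mul_left_cancel e0))
  · exact t1 (left_eq_mul.1 (XY.trans YX))
  · exact t1 (left_eq_mul.1 (YX.trans XY))
  have cU : ∀ x ∈ 𝒞(D ⊓ E), x ∈ 𝒞(closure ({z, t} : Set G)) := fun x hx y hy => hx y (pair_le h.zJ h.tJ hy)
  have UD : closure {z, t} ≤ D := pair_le h.hD.zD h.tD
  have v1 : X * j * (X * j) = 1 := by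
    rw [← mul_one (_ * _)]
    simp only [mul_assoc, rl Xj, rl XX, rl jj, zj, zX, tX, rl z2, rl t2, one_mul]
  have v2 : Y * (i * j) * (Y * (i * j)) = 1 := by
    rw [← mul_one (_ * _)]
    simp only [mul_assoc, rl Yi, rl Yj, rl ij, rl YY, rl jj, rl ii, zi, zj, zY, ti, tj, tY, rl zt, rl z2, rl t2, one_mul]
  have v3 : X * j * (Y * (i * j)) = Y * (i * j) * (X * j) := by
    rw [← mul_one (_ * _), ← mul_one (Y * _ * _)]
    simp only [mul_assoc, rl Xj, rl Xi, rl Yi, rl Yj, rl ij, rl XY, rl jj, zi, zj, zX, zY, ti, tj, tX, tY, rl zt, rl z2,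
      rl t2, one_mul]
  have c1 := cU _ (mul_mem XC jC)
  have := ((el_pair z2 t2 zt.symm).adj c1 v1).mem8 hr (by
    rw [cad c1 v1 fun e => t1 (XX.symm.trans (h.el X ⟨(mul_mem_cancel_right jD).1 (UD e), XE⟩)),
      card4 z2 t2 zt.symm h.hD.z1 t1 h.tz]) (fun x hx => mem_cent1.1 ((ad_le (K := cen _)).2
    ⟨fun x hx => mem_cent1.2 (cU _ (mul_mem YC (mul_mem iC jC)) x hx), mem_cent1.2 v3⟩ hx)) v2
  rcases (mad c1 v1).1 this with e | ⟨n, hn, e⟩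
  · exact t1 (YY.symm.trans (h.el Y ⟨(mul_mem_cancel_right (mul_mem iD jD)).1 (UD e), YE⟩))
  · have := XC (X⁻¹ * Y) <| mem_inf.2 ⟨by
      rw [show X⁻¹ * Y = j * n * (i * j)⁻¹ by rw [← mul_inv_cancel_right Y (i * j), e]; group]
      exact mul_mem (mul_mem jD (UD hn)) (inv_mem (mul_mem iD jD)), mul_mem (inv_mem XE) YE⟩
    rw [mul_inv_cancel_left, mul_assoc, inv_mul_eq_iff_eq_mul, XY] at this
    exact t1 (left_eq_mul.1 this)

end Two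

end S2b

open S2b in
theorem s2bThm : S2bThm.{u} := fun G _ _ z D hr hD hT hV hs g tD => by
  by_contra tz
  have sc := sc_of hD hT
  have ceq : ∀ h k : G, h * z * h⁻¹ = k * z * k⁻¹ → cj h D = cj k D := fun h k e => by
    conv_lhs => rw [← cj_eq (hD.nm (h⁻¹ * k) (comm_of_cj (by rw [cj_cj, cj_back e]))), ← cj_mul, mul_inv_cancel_left]
  have sym : ∀ h k : G, k * z * k⁻¹ ∈ cj h D → h * z * h⁻¹ ∈ cj k D := fun h k e => by
    simpa only [← cj_mul, mul_inv_cancel_left] using conj_mem_cj h (hs (h⁻¹ * k) (by simpa [mul_assoc] using mem_cj.1 e))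
  have hE := sc.conj g
  obtain ⟨d, dD, dt⟩ := sc.exn tD hE.zz hE.z1 tz
  obtain ⟨d', dE, dz⟩ := hE.exn (hs g tD) hD.zz hD.z1 (Ne.symm tz)
  have de : cj d' D = cj (d * g) D := ceq _ _ (by rw [cj_cj, sc.cjn dD tD dt, hE.cjn dE (hs g tD) dz, hD.cz _ tD])
  have h : Two z (g * z * g⁻¹) D (cj g D) d d' :=
    ⟨sc, hE, tD, hs g tD, tz, dD, sc.cjn dD tD dt, dE, hE.cjn dE (hs g tD) dz, (de.trans (cj_mul _ _ _)).le⟩
  obtain ⟨t, ht⟩ : ∃ t, g * z * g⁻¹ = t := ⟨_, rfl⟩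
  obtain ⟨E, hE'⟩ : ∃ E, cj g D = E := ⟨_, rfl⟩
  rw [ht, hE'] at h hE
  rw [ht] at tD tz
  have fin : ∀ F ≤ D, F ≤ 𝒞(D ⊓ E) → (∀ A ≤ F, El A → 2 * Nat.card A < Nat.card F) → False := fun F h1 h2 h3 => by
    obtain ⟨i, hi, j, hj, e1, e2, e3⟩ := sc.exQ h1 h3
    exact h.false hr (h1 hi) (h2 hi) (h1 hj) (h2 hj) e1 e2 e3
  have c1 := sc.half le_rfl tD
  have cU : D ⊓ cen t ≤ 𝒞(closure ({z, t} : Set G)) := fun x hx => cent_pair (hD.cz x hx.1) (mem_cent1.1 hx.2)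
  by_cases hJ : D ⊓ E ≤ closure {z, t}
  · refine fin _ inf_le_left (fun x hx y hy => cU hx y (hJ hy)) fun A hA eA => ?_
    have := eA.le8 hr
    rcases hT with k | k | k <;> rw [k.card] at c1
    · have := k.rk2 A (hA.trans inf_le_left) eA
      omega
    all_goals omega
  obtain ⟨e, he, hn⟩ := SetLike.not_le_iff_exists.1 hJ
  have bas : ∀ e ∈ D ⊓ E, e ∉ closure {z, t} → Nat.card (ad (closure {z, t}) e) = 8 ∧ D ⊓ E = ad (closure {z, t}) e :=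
    fun e he hn => by
    have k := cent_pair (h.el.comm he h.zJ) (h.el.comm he h.tJ)
    have k1 : Nat.card (ad (closure {z, t}) e) = 8 := by
      rw [cad k (h.el e he) hn, card4 hD.zz hE.zz (hD.cz t tD).symm hD.z1 hE.z1 tz]
    have k2 : ad (closure {z, t}) e ≤ D ⊓ E := ad_le.2 ⟨pair_le h.zJ h.tJ, he⟩
    exact ⟨k1, (eq_of_le_of_card_ge k2 (k1 ▸ h.el.le8 hr)).symm⟩
  obtain ⟨h8, eJ⟩ := bas e he hn
  rcases hT with k | k | k
  · have := k.rk2 _ inf_le_left h.el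
    rw [eJ] at this
    omega
  · refine hV _ (full_of h.el (eJ ▸ h8) h.zJ h.tJ he hD.z1 hE.z1 tz hn fun u hu v hv c hc hn => ?_)
    by_cases u1 : u = 1
    · exact ⟨1, one_mem _, by simp, by simp, by simp [u1]⟩
    obtain ⟨n, rfl⟩ : ∃ n, n * z * n⁻¹ = u := by
      by_cases uz : u = z
      · exact ⟨1, by simp [uz]⟩
      · exact isConj_iff.1 ((isConj_iff.2 ⟨g, ht⟩).trans (k.conj t tD u hu.1 hE.zz (h.el u hu) hE.z1 tz u1 uz))
    have JD : D ⊓ E ≤ cj n D := by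
      by_cases e : n * z * n⁻¹ ∈ closure {z, t}
      · rcases (h.el.mp h.zJ h.tJ).1 e with e | e | e | e
        · exact absurd e u1
        · rw [cj_eq (hD.nm n (comm_of_cj e))]; exact inf_le_left
        · rw [ceq n g (e.trans ht.symm), hE']; exact inf_le_right
        · rw [ceq n d' (e.trans h.dz.symm), ← cj_eq (hE.nrm inf_le_right h.tJ h.dE)]; exact cj_mono _ inf_le_left
      · rw [(bas _ hu e).2]
        exact ad_le.2 ⟨pair_le (hs n hu.1) (ht ▸ sym g n (hE' ▸ hu.2)), conj_mem_cj n hD.zD⟩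
    obtain ⟨m, hm, e1, e2⟩ := (sc.conj n).trv (JD hv) (JD hc) (h.el c hc) (h.el v hv) (h.el.comm hv hc) hn
    exact ⟨m, (sc.conj n).nrm JD hu hm, cj_of_comm ((sc.conj n).cz m hm), cj_of_comm e1, (sc.conj n).cjn hm (JD hc) e2⟩
  · refine fin (D ⊓ cen t ⊓ cen e) (inf_le_left.trans inf_le_left) (fun x hx y hy => mem_cent1.1
      ((ad_le (K := cen x)).2 ⟨fun y hy => mem_cent1.2 (cU hx.1 y hy), mem_cent1.2 (mem_cent1.1 hx.2).symm⟩ (eJ ▸ hy)))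
      fun A hA eA => ?_
    have := eA.le8 hr
    have := sc.half (inf_le_left : D ⊓ cen t ≤ D) he.1
    rw [k.card] at c1
    omega

end CL.ON3
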