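/-
ON3: the action of an involution on a group of symplectic type (jobs `TKThm`, `QThm`).
-/
import Cfsg.Agent.ON3.Defs

set_option autoImplicit false
open Cfsg Subgroup CL.Even

namespace CL.ON3

universe u

namespace TK

variable {G : Type*} [Group G] {z : G} {D : Subgroup G}

theorem two_mul_le [Finite G] {X Y : Subgroup G} (h1 : Y ≤ X) {x : G} (hx : x ∈ X) (hy : x ∉ Y) :
    2 * Nat.card Y ≤ Nat.card X := by
  obtain ⟨k, hk⟩ := card_dvd_of_le h1
  have h3 : 0 < Nat.card X := Nat.card_pos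
  have h4 : k ≠ 1 := by
    rintro rfl
    exact hy (eq_of_le_of_card_ge h1 (by omega) ▸ hx)
  have h5 : k ≠ 0 := by rintro rfl; omega
  rw [hk, mul_comm]
  exact Nat.mul_le_mul_left _ (by omega)

/-- rank three -/
theorem rank [Finite G] (hr : PRankLE 2 3 G) {a b c s : G} (ha : a ∈ D) (hb : b ∈ D) (hc : c ∈ D) (hs : s ∉ D)
    (aa : a * a = 1) (bb : b * b = 1) (cc : c * c = 1) (ss : s * s = 1) (ab : Commute a b) (ac : Commute a c)
    (bc : Commute b c) (as : Commute a s) (bs : Commute b s) (cs : Commute c s) (a1 : a ≠ 1) (b1 : b ≠ 1)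
    (ba : b ≠ a) : c = 1 ∨ c = a ∨ c = b ∨ c = b * a := by
  by_contra hn
  have cm : ∀ x ∈ ({a, b, c, s} : Set G), ∀ y ∈ ({a, b, c, s} : Set G), x * y = y * x := by
    rintro x (rfl | rfl | rfl | rfl) y (rfl | rfl | rfl | rfl) <;>
      first | rfl | assumption | (symm; assumption)
  have h0 : IsMulCommutative (closure ({a, b, c, s} : Set G)) := isMulCommutative_closure cm
  have h1 := hr _ h0 (fun x hx => by
    rw [pow_two]
    induction hx using closure_induction with
    | mem x hx => rcases hx with rfl | rfl | rfl | rfl <;> assumption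
    | one => simp
    | mul x y hx hy h1 h2 =>
      rw [mul_assoc, ← mul_assoc y, setLike_mul_comm hy hx, mul_assoc, h2, mul_one, h1]
    | inv x hx h1 => rw [← mul_inv_rev, h1, inv_one])
  have k1 := two_mul_le (bot_le (a := closure ({a} : Set G))) (subset_closure rfl) (by simpa using a1)
  have k2 := two_mul_le (X := closure ({a, b} : Set G)) (Y := closure {a}) (x := b) (closure_mono (by simp))
    (subset_closure (by simp)) (fun hx => by
      have : ∀ x ∈ closure ({a} : Set G), x = 1 ∨ x = a := fun x hx => by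
        induction hx using closure_induction with
        | mem x hx => exact .inr hx
        | one => exact .inl rfl
        | mul x y _ _ h1 h2 => rcases h1 with rfl | rfl <;> rcases h2 with rfl | rfl <;> simp [aa]
        | inv x _ h1 => rcases h1 with rfl | rfl <;> simp [inv_eq_of_mul_eq_one_right aa]
      exact (this b hx).elim b1 ba)
  have k3 := two_mul_le (X := closure ({a, b, c} : Set G)) (Y := closure {a, b}) (x := c)
    (closure_mono (by intro x; simp; tauto)) (subset_closure (by simp)) (fun hx => by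
      have e1 : a * (b * a) = b := by rw [← mul_assoc, ab.eq, mul_assoc, aa, mul_one]
      have e2 : b * (b * a) = a := by rw [← mul_assoc, bb, one_mul]
      have e3 : b * a * a = b := by rw [mul_assoc, aa, mul_one]
      have e4 : b * a * b = a := by rw [mul_assoc, ab.eq, e2]
      have e5 : b * a * (b * a) = 1 := by rw [← mul_assoc, e4, aa]
      have : ∀ x ∈ closure ({a, b} : Set G), x = 1 ∨ x = a ∨ x = b ∨ x = b * a := fun x hx => by
        induction hx using closure_induction with
        | mem x hx => rcases hx with rfl | rfl <;> simp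
        | one => exact .inl rfl
        | mul x y _ _ h1 h2 =>
          rcases h1 with h1 | h1 | h1 | h1 <;> rcases h2 with h2 | h2 | h2 | h2 <;> rw [h1, h2] <;>
            simp only [one_mul, mul_one, aa, bb, e1, e2, e3, e4, e5, ab.eq, true_or, or_true]
        | inv x _ h1 =>
          rcases h1 with h1 | h1 | h1 | h1 <;> rw [h1] <;>
            simp only [inv_one, inv_eq_of_mul_eq_one_right aa, inv_eq_of_mul_eq_one_right bb,
              inv_eq_of_mul_eq_one_right e5, true_or, or_true]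
      exact hn (this c hx))
  have k4 := two_mul_le (X := closure ({a, b, c, s} : Set G)) (Y := closure {a, b, c}) (x := s)
    (closure_mono (by intro x; simp; tauto)) (subset_closure (by simp)) (fun hx => hs (by
      refine (closure_le D).mpr ?_ hx
      rintro x (rfl | rfl | rfl) <;> assumption))
  rw [card_bot] at k1
  omega

/-- congruence modulo `z` -/
def M (z a b : G) : Prop := a = b ∨ a = b * z

theorem M.rfl {a : G} : M z a a := .inl (Eq.refl a)

theorem M.one {a : G} : M z a 1 ↔ a = 1 ∨ a = z := by rw [M, one_mul]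

theorem M.of_eq {a b : G} (e : a = b) : M z a b := .inl e

theorem M.left {a b : G} (c : G) (h : M z a b) : M z (c * a) (c * b) :=
  h.imp (fun e => by rw [e]) fun e => by rw [e, mul_assoc]

theorem M.right {a b c : G} (hc : c * z = z * c) (h : M z a b) : M z (a * c) (b * c) :=
  h.imp (fun e => by rw [e]) fun e => by rw [e, mul_assoc, ← hc, mul_assoc]

theorem M.conj {a b y : G} (hy : y * z = z * y) (h : M z a b) : M z (y * a * y⁻¹) (y * b * y⁻¹) :=
  (h.left y).right (show Commute y z from hy).inv_left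

theorem M.comm {a b x : G} (hx : x * z = z * x) (h : M z a b) (hb : x * b = b * x) : x * a = a * x := by
  rcases h with rfl | rfl
  · exact hb
  · exact (show Commute x b from hb).mul_right hx

theorem conj_eq (y d : G) : y * d * y⁻¹ = d * gam y d := by simp [gam]

theorem gam_M {y d : G} : M z (gam y d) 1 ↔ M z (y * d * y⁻¹) d := by
  rw [conj_eq, M, M, mul_eq_left, one_mul, mul_right_inj]

theorem gam_eq_one {y d : G} : gam y d = 1 ↔ d * y = y * d := by
  rw [gam, inv_mul_eq_one, eq_mul_inv_iff_mul_eq]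

theorem gam_conj {y s : G} (h : y * s = s * y) (d : G) : gam s (y * d * y⁻¹) = y * gam s d * y⁻¹ := by
  have : s = y * s * y⁻¹ := by rw [h, mul_inv_cancel_right]
  conv_lhs => rw [this]
  simp only [gam]; group

theorem gam_inv {s : G} (ss : s * s = 1) (d : G) : s * gam s d * s⁻¹ = (gam s d)⁻¹ := by
  have : s⁻¹ = s := inv_eq_of_mul_eq_one_right ss
  have e : ∀ x, s * (s * x) = x := fun x => by rw [← mul_assoc, ss, one_mul]
  simp only [gam, this, mul_inv_rev, inv_inv, mul_assoc, ss, mul_one]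

section
variable (h : SD z D)
include h

theorem M_symm {a b : G} (e : M z a b) : M z b a :=
  e.imp Eq.symm fun e => by rw [e, mul_assoc, h.zz, mul_one]

theorem M_trans {a b c : G} (e : M z a b) (e' : M z b c) : M z a c := by
  rcases e with rfl | rfl
  · exact e'
  rcases e' with rfl | rfl
  · exact .inr rfl
  · exact .inl (by rw [mul_assoc, h.zz, mul_one])

theorem M_mul {a b c d : G} (hc : c * z = z * c) (e : M z a b) (e' : M z c d) : M z (a * c) (b * d) :=
  M_trans h (e.right hc) (e'.left b)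

theorem M_sq {a b : G} (hb : b * z = z * b) (e : M z a b) : a * a = b * b := by
  rcases e with rfl | rfl
  · rfl
  · rw [mul_assoc, ← mul_assoc z, ← hb, mul_assoc, h.zz, mul_one]

theorem cj_mem {y d : G} (hy : y * z = z * y) (hd : d ∈ D) : y * d * y⁻¹ ∈ D :=
  (mem_normalizer_iff.mp (h.nm y hy) d).mp hd

theorem gam_mem {y d : G} (hy : y * z = z * y) (hd : d ∈ D) : gam y d ∈ D :=
  mul_mem (inv_mem hd) (cj_mem h hy hd)

theorem gam_mul {y d e : G} (hy : y * z = z * y) (hd : d ∈ D) (he : e ∈ D) :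
    M z (gam y (d * e)) (gam y d * gam y e) := by
  have h1 : gam y (d * e) = e⁻¹ * (gam y d * e) * gam y e := by simp only [gam]; group
  have h2 : M z (gam y d * e) (e * gam y d) := h.cm _ (gam_mem h hy hd) _ he
  have h3 := (h2.left e⁻¹).right (h.cz _ (gam_mem h hy he))
  rwa [← h1, inv_mul_cancel_left] at h3

/-- elements fixed modulo `z` commute with all `γ d` -/
theorem comm_gam {y x d : G} (hy : y * z = z * y) (hx : x ∈ D) (hd : d ∈ D) (e : M z (gam y x) 1) :
    x * gam y d = gam y d * x := by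
  have k : ∀ w, w = 1 ∨ w = z → x * d = d * x * w → x * gam y d = gam y d * x := by
    intro w hw h1
    have cw : ∀ a, a * z = z * a → Commute a w := fun a ha => by
      rcases hw with rfl | rfl
      · exact Commute.one_right a
      · exact ha
    have h2 : y * x * y⁻¹ * (y * d * y⁻¹) = y * d * y⁻¹ * (y * x * y⁻¹) * w := by
      calc _ = y * (x * d) * y⁻¹ := by group
        _ = y * (d * x) * y⁻¹ * (y * w * y⁻¹) := by rw [h1]; group
        _ = _ := by rw [(cw y hy).eq]; group
    have h3 : x * (y * d * y⁻¹) = y * d * y⁻¹ * x * w := by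
      rcases gam_M.mp e with e | e <;> rw [e] at h2
      · exact h2
      · have c1 := h.cz _ (cj_mem h hy hd)
        have c2 : Commute z w := cw z rfl
        apply mul_right_cancel (b := z)
        rw [mul_assoc x, c1, ← mul_assoc x, h2, mul_assoc _ w, ← c2.eq]; group
    have h4 : x * d⁻¹ * w = d⁻¹ * x := by
      calc _ = d⁻¹ * (d * x * w) * (w⁻¹ * (d⁻¹ * w)) := by group
        _ = _ := by rw [← h1, (cw d⁻¹ (h.cz _ (inv_mem hd))).eq]; group
    have c3 := cw _ (h.cz _ (cj_mem h hy hd))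
    have c4 := cw _ (h.cz _ hx)
    rw [gam, mul_assoc d⁻¹]
    apply mul_right_cancel (b := w)
    rw [mul_assoc d⁻¹, ← h3, ← mul_assoc d⁻¹ x, ← h4, mul_assoc _ w, ← c3.eq]; group
  rcases h.cm x hx d hd with e | e
  · exact k 1 (.inl rfl) (by rw [mul_one, e])
  · exact k z (.inr rfl) e

/-- `d` inverts `γ d` -/
theorem gam_sq {y d : G} (hy : y * z = z * y) (hd : d ∈ D) : gam y d * gam y d = 1 ↔ d * gam y d = gam y d * d := by
  have h1 : d * gam y d * (d * gam y d) = d * d := by
    rw [← conj_eq]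
    calc _ = y * (d * d) * y⁻¹ := by group
      _ = _ := by rcases h.sq d hd with e | e <;> rw [e] <;> simp [hy]
  have h2 : gam y d * d * gam y d = d := mul_left_cancel (a := d) (by rw [← h1]; group)
  constructor
  · intro e
    calc _ = gam y d * d * gam y d * gam y d := by rw [h2]
      _ = _ := by rw [mul_assoc, e, mul_one]
  · intro e
    rw [← e, mul_assoc] at h2
    exact mul_eq_left.mp h2

theorem gam_gam {s d : G} (ss : s * s = 1) (hs : s * z = z * s) (hd : d ∈ D) : M z (gam s (gam s d)) 1 := by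
  rw [M.one, show gam s (gam s d) = (gam s d)⁻¹ * (gam s d)⁻¹ from congrArg _ (gam_inv ss d)]
  exact h.sq _ (inv_mem (gam_mem h hs hd))

theorem ctr (ht : Typ z D) {x : G} (hx : x ∈ D) (xx : x * x = 1) (hc : ∀ d ∈ D, d * x = x * d) : x = 1 ∨ x = z := by
  rcases ht with ht | ht | ht
  · exact ht.ctr x hx hc
  · obtain ⟨a, -, aa, ha⟩ := ht.ctr
    have : ∀ y ∈ zpowers a, (y = 1 ∨ y = z) ∨ y * y = z := fun y hy => by
      have a4 : a ^ (4 : ℤ) = 1 := by
        rw [show a ^ (4 : ℤ) = a * a * (a * a) by rw [zpow_ofNat]; simp [pow_succ, mul_assoc], aa, h.zz]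
      obtain ⟨k, rfl⟩ := hy
      show (a ^ k = 1 ∨ a ^ k = z) ∨ a ^ k * a ^ k = z
      rw [zpow_eq_zpow_emod' k (n := 4) (by exact_mod_cast a4)]
      obtain e | e | e | e : k % (4 : ℕ) = 0 ∨ k % (4 : ℕ) = 1 ∨ k % (4 : ℕ) = 2 ∨ k % (4 : ℕ) = 3 := by omega
      all_goals rw [e]
      · simp
      · simp [aa]
      · exact .inl (.inr (by rw [← aa, zpow_two]))
      · exact .inr (by rw [show a ^ (3 : ℤ) * a ^ (3 : ℤ) = a ^ (4 : ℤ) * (a * a) by group, a4, aa, one_mul])
    exact (this x ((ha x hx).mp hc)).resolve_right fun e => h.z1 (e.symm.trans xx)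
  · exact ht.ctr x hx hc

theorem rank' [Finite G] (hr : PRankLE 2 3 G) {s j x : G} (hs : s ∉ D) (ss : s * s = 1) (sz : s * z = z * s)
    (jD : j ∈ D) (jj : j * j = 1) (j1 : ¬ M z j 1) (js : s * j = j * s) (xD : x ∈ D) (xx : x * x = 1)
    (xs : s * x * s⁻¹ = x⁻¹) (xj : x * j = j * x) : M z x 1 ∨ M z x j := by
  rw [M.one, not_or] at j1
  rw [inv_eq_of_mul_eq_one_right xx, mul_inv_eq_iff_eq_mul] at xs
  have := rank hr h.zD jD xD hs h.zz jj xx ss (h.cz j jD).symm (h.cz x xD).symm xj.symm sz.symm js.symm xs.symm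
    h.z1 j1.1 j1.2
  rw [M.one, M]; tauto

/-- the product of two commuting elements of order four inverted by `s` -/
theorem prod4 {s a b : G} (aa : a * a = z) (bb : b * b = z) (ab : a * b = b * a) (sa : s * a * s⁻¹ = a⁻¹)
    (sb : s * b * s⁻¹ = b⁻¹) : a * b * (a * b) = 1 ∧ s * (a * b) * s⁻¹ = (a * b)⁻¹ :=
  ⟨by rw [mul_assoc, ← mul_assoc b, ← ab, mul_assoc, bb, ← mul_assoc, aa, h.zz],
    by rw [ab, mul_inv_rev, ← sa, ← sb, ← ab]; group⟩

theorem nsq {s n y : G} (t : T1 z D s n) (yy : y * y = s) (yz : y * z = z * y) : False := by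
  have ys : y * s = s * y := by rw [← yy, mul_assoc]
  have n4 : n * z = n⁻¹ := eq_inv_of_mul_eq_one_right (by rw [← mul_assoc, t.nn, h.zz])
  have k : ∀ x ∈ zpowers n, M z x 1 ∨ M z x n := fun x hx => by
    obtain ⟨k, rfl⟩ := mem_zpowers_iff.mp hx
    clear hx
    induction k with
    | zero => exact .inl (by simpa using M.rfl)
    | succ k ih =>
      rw [zpow_add_one]
      rcases ih with e | e
      · exact .inr (by simpa using e.right (h.cz n t.nD))
      · exact .inl (M_trans h (e.right (h.cz n t.nD)) (M.one.mpr (.inr t.nn)))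
    | pred k ih =>
      rw [zpow_sub_one]
      have c := h.cz _ (inv_mem t.nD)
      rcases ih with e | e
      · exact .inr (M_trans h (e.right c) (.inr (by rw [one_mul, n4])))
      · exact .inl (by simpa using e.right c)
  obtain ⟨d, hd, hn⟩ : ∃ d ∈ D, d * n ≠ n * d := by
    by_contra hc
    push Not at hc
    exact t.nc hc
  have h1 : M z (gam s d) n := (k _ (t.mem d hd)).resolve_left fun e => hn ((t.iff d hd).mp (M.one.mp e))
  have h2 : M z (y * n * y⁻¹) n := by
    have h3 : M z (gam s (y * d * y⁻¹)) (y * n * y⁻¹) := gam_conj ys d ▸ h1.conj yz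
    rcases k _ (t.mem _ (cj_mem h yz hd)) with e | e
    · have h4 := M_sq h (by simp) (M_trans h (M_symm h h3) e)
      rw [show y * n * y⁻¹ * (y * n * y⁻¹) = y * (n * n) * y⁻¹ by group, t.nn, yz] at h4
      exact absurd (by simpa using h4) h.z1
    · exact M_trans h (M_symm h h3) e
  have h5 : s * n * s⁻¹ = n := by
    rw [show s * n * s⁻¹ = y * (y * n * y⁻¹) * y⁻¹ by rw [← yy]; group]
    rcases h2 with e | e
    · rw [e, e]
    · rw [e, show y * (n * z) * y⁻¹ = y * n * y⁻¹ * (y * z * y⁻¹) by group, e, yz, mul_inv_cancel_right, mul_assoc,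
        h.zz, mul_one]
  rw [t.inv, ← n4, mul_eq_left] at h5
  exact h.z1 h5

end

/-- the hypothesis on the three square roots of `s` -/
structure Rt (z : G) (D : Subgroup G) (s y : G) : Prop where
  yy : y * y = s
  yz : y * z = z * y
  tr : ∀ x ∈ D, x * s = s * x → M z (gam y x) 1

theorem Rt.ys {s y : G} (r : Rt z D s y) : y * s = s * y := by rw [← r.yy, mul_assoc]

theorem Rt.sz {s y : G} (r : Rt z D s y) : s * z = z * s := by
  rw [← r.yy, mul_assoc, r.yz, ← mul_assoc, r.yz, mul_assoc]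

theorem Rt.mul (h : SD z D) {s i j : G} (ri : Rt z D s i) (rj : Rt z D s j) (ss : s * s = 1)
    (ij : i * j = j * i * s) : Rt z D s (i * j) := by
  refine ⟨?_, by rw [mul_assoc, rj.yz, ← mul_assoc, ri.yz, mul_assoc], fun x hx e => gam_M.mpr ?_⟩
  · calc _ = j * i * s * (i * j) := by rw [← ij]
      _ = j * (i * i) * s * j := by rw [mul_assoc (j * i), ← mul_assoc s, ← ri.ys]; group
      _ = _ := by rw [ri.yy, mul_assoc j, ss, mul_one, rj.yy]
  · rw [show i * j * x * (i * j)⁻¹ = i * (j * x * j⁻¹) * i⁻¹ by group]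
    exact M_trans h ((gam_M.mp (rj.tr x hx e)).conj ri.yz) (gam_M.mp (ri.tr x hx e))

/-- the case `T2` -/
theorem Rt.t2 (h : SD z D) {s y j n : G} (r : Rt z D s y) (ss : s * s = 1) (t : T2 z D s j n)
    (hn : M z (gam y n) 1) : False := by
  have n4 : n * z = n⁻¹ := eq_inv_of_mul_eq_one_right (by rw [← mul_assoc, t.nn, h.zz])
  have k : ∀ x ∈ D, M z (gam s x) 1 → M z (gam y x) 1 := fun x hx e => by
    rcases gam_M.mp e with e | e
    · exact r.tr x hx (mul_inv_eq_iff_eq_mul.mp e).symm
    have h1 := r.tr _ (mul_mem hx t.nD) (mul_inv_eq_iff_eq_mul.mp (show s * (x * n) * s⁻¹ = x * n by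
      rw [show s * (x * n) * s⁻¹ = s * x * s⁻¹ * (s * n * s⁻¹) by group, e, t.inv, ← n4, h.cz n t.nD, mul_assoc,
        ← mul_assoc z, h.zz, one_mul])).symm
    have h2 := M_trans h (M_symm h (gam_mul h r.yz hx t.nD)) h1
    exact M_trans h (M_symm h (by simpa using hn.left (gam y x))) h2
  obtain ⟨d, hd, e⟩ := t.exj
  have cD := gam_mem h r.yz hd
  have h1 : M z (gam s (gam y d)) 1 := by
    have h2 := gam_mul h r.sz (inv_mem hd) (cj_mem h r.yz hd)
    have h3 := gam_mul h r.sz (inv_mem hd) hd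
    rw [gam_conj r.ys] at h2
    rw [inv_mul_cancel, show gam s 1 = 1 by simp [gam]] at h3
    exact M_trans h h2 (M_trans h ((gam_M.mp (k _ (gam_mem h r.sz hd) (gam_gam h ss r.sz hd))).left _) (M_symm h h3))
  have h2 : M z (s * d * s⁻¹) d := by
    rw [show s * d * s⁻¹ = d * gam y d * (y * gam y d * y⁻¹) by rw [← r.yy]; simp only [gam]; group]
    refine M_trans h ((gam_M.mp (k _ cD h1)).left _) ?_
    rw [mul_assoc]
    simpa using (M.one.mpr (h.sq _ cD)).left d
  rw [← gam_M, e, M.one] at h2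
  exact h2.elim t.j1 t.jz

/-- the case `T0` -/
theorem Rt.t0 (h : SD z D) (ht : Typ z D) {s y d : G} (r : Rt z D s y) (t : T0 z D s) (hd : d ∈ D)
    (e : gam s d = z) (hc : d * gam y d = gam y d * d) : False := by
  have h1 : M z (gam y d) 1 := M.one.mpr (ctr h ht (gam_mem h r.yz hd) ((gam_sq h r.yz hd).mpr hc) fun x hx => by
    rcases t x hx with e' | e'
    · exact comm_gam h r.yz hx hd (r.tr x hx (gam_eq_one.mp e'))
    have h2 := comm_gam h r.yz (mul_mem hx hd) hd (r.tr _ (mul_mem hx hd) (mul_inv_eq_iff_eq_mul.mp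
      (show s * (x * d) * s⁻¹ = x * d by
        rw [show s * (x * d) * s⁻¹ = s * x * s⁻¹ * (s * d * s⁻¹) by group, conj_eq, conj_eq, e, e', h.cz d hd,
          mul_assoc, ← mul_assoc z, h.zz, one_mul])).symm)
    apply mul_right_cancel (b := d)
    rw [mul_assoc, ← hc, ← mul_assoc, h2, mul_assoc])
  have h5 : s * d * s⁻¹ = d := by
    rw [show s * d * s⁻¹ = y * (y * d * y⁻¹) * y⁻¹ by rw [← r.yy]; group]
    rcases gam_M.mp h1 with e | e
    · rw [e, e]
    · rw [e, show y * (d * z) * y⁻¹ = y * d * y⁻¹ * (y * z * y⁻¹) by group, e, r.yz, mul_inv_cancel_right, mul_assoc,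
        h.zz, mul_one]
  rw [conj_eq, e, mul_eq_left] at h5
  exact h.z1 h5

end TK

open TK

theorem tkThm : TKThm.{u} := by
  intro G _ _ z D s hr h ht hs ss sz
  have gm : ∀ {d}, d ∈ D → gam s d ∈ D := gam_mem h sz
  have cg : ∀ {d e}, d ∈ D → e ∈ D → gam s d * gam s e = gam s e * gam s d := fun hd he =>
    comm_gam h sz (gm hd) he (gam_gam h ss sz hd)
  by_cases h0 : T0 z D s
  · exact .inl h0
  refine .inr ?_
  by_cases h1 : ∃ d ∈ D, gam s d * gam s d = 1 ∧ ¬ M z (gam s d) 1
  · obtain ⟨d, hd, jj, j1⟩ := h1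
    have js : s * gam s d = gam s d * s :=
      mul_inv_eq_iff_eq_mul.mp ((gam_inv ss d).trans (inv_eq_of_mul_eq_one_right jj))
    have R := fun x => rank' h hr (x := x) hs ss sz (gm hd) jj j1 js
    obtain ⟨e, he, nn⟩ : ∃ e ∈ D, gam s e * gam s e = z := by
      by_contra hc
      push Not at hc
      refine j1 (M.one.mpr (ctr h ht (gm hd) jj fun x hx => ?_))
      have h2 := (h.sq _ (gm hx)).resolve_right (hc x hx)
      rcases R _ (gm hx) h2 (gam_inv ss x) (cg hx hd) with e | e
      · exact comm_gam h sz hx hd e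
      · exact (M_symm h e).comm (h.cz x hx) ((gam_sq h sz hx).mp h2)
    have m1 : gam s e ∈ closure ({gam s e, gam s d} : Set G) := subset_closure (by simp)
    have m2 : gam s d ∈ closure ({gam s e, gam s d} : Set G) := subset_closure (by simp)
    have m3 : ∀ x, M z x 1 ∨ M z x (gam s d) → x ∈ closure ({gam s e, gam s d} : Set G) := by
      have mz : z ∈ closure ({gam s e, gam s d} : Set G) := nn ▸ mul_mem m1 m1
      rintro x ((rfl | rfl) | (rfl | rfl))
      exacts [one_mem _, mul_mem (one_mem _) mz, m2, mul_mem m2 mz]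
    rw [M.one, not_or] at j1
    refine .inr ⟨_, _, gm hd, gm he, jj, j1.1, j1.2, js, nn, gam_inv ss e, cg hd he, fun x hx => ?_, ⟨d, hd, rfl⟩,
      ⟨e, he, rfl⟩⟩
    rcases h.sq _ (gm hx) with h2 | h2
    · exact m3 _ (R _ (gm hx) h2 (gam_inv ss x) (cg hx hd))
    · obtain ⟨h3, h4⟩ := prod4 h h2 nn (cg hx he) (gam_inv ss x) (gam_inv ss e)
      exact (mul_mem_cancel_right m1).mp (m3 _ (R _ (mul_mem (gm hx) (gm he)) h3 h4
        ((show Commute _ _ from cg hx hd).mul_left (cg he hd))))
  push Not at h1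
  obtain ⟨e, he, n1⟩ : ∃ e ∈ D, ¬ M z (gam s e) 1 := by
    by_contra hc
    push Not at hc
    exact h0 fun d hd => M.one.mp (hc d hd)
  have nn := (h.sq _ (gm he)).resolve_left fun e' => n1 (h1 e he e')
  have k : ∀ x ∈ D, M z (gam s x) 1 ∨ M z (gam s x * gam s e) 1 := fun x hx => by
    rcases h.sq _ (gm hx) with h2 | h2
    · exact .inl (h1 x hx h2)
    · have h3 := gam_mul h sz hx he
      exact .inr (M_trans h (M_symm h h3) (h1 _ (mul_mem hx he) ((M_sq h (h.cz _ (mul_mem (gm hx) (gm he))) h3).trans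
        (prod4 h h2 nn (cg hx he) (gam_inv ss x) (gam_inv ss e)).1)))
  have m3 : ∀ x, M z x 1 → x ∈ zpowers (gam s e) := fun x hx => by
    rcases M.one.mp hx with rfl | rfl
    exacts [one_mem _, nn ▸ mul_mem (mem_zpowers _) (mem_zpowers _)]
  refine .inl ⟨_, gm he, nn, gam_inv ss e, fun hc => h.z1 (nn.symm.trans ((gam_sq h sz he).mpr (hc e he))),
    fun x hx => ?_, fun x hx => ⟨fun e' => comm_gam h sz hx he (M.one.mpr e'), fun e' => M.one.mp ?_⟩⟩
  · exact (k x hx).elim (m3 _) fun e' => (mul_mem_cancel_right (mem_zpowers _)).mp (m3 _ e')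
  · refine (k x hx).elim id fun e'' => h1 x hx ((gam_sq h sz hx).mpr ?_)
    have h2 : Commute x (gam s x * gam s e) := e''.comm (h.cz x hx) (by simp)
    have h3 := h2.mul_right (show Commute x _ from e').inv_right
    rwa [mul_inv_cancel_right] at h3

theorem qThm : QThm.{u} := by
  intro G _ _ z D s i j hr h ht hs ss ii jj ij iz jz hF
  have ri : Rt z D s i := ⟨ii, iz, fun x hx e => M.one.mpr (hF x hx e).1⟩
  have rj : Rt z D s j := ⟨jj, jz, fun x hx e => M.one.mpr (hF x hx e).2⟩
  have rk := ri.mul h rj ss ij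
  rcases tkThm G z D s hr h ht hs ss ri.sz with t | ⟨n, t⟩ | ⟨a, n, t⟩
  · intro d hd
    by_contra hc
    have e := (t d hd).resolve_left fun e => hc (gam_eq_one.mp e)
    have ni := gam_mem h iz hd
    have nj := gam_mem h jz hd
    have h1 := (h.cm _ hd _ ni).resolve_left (ri.t0 h ht t hd e)
    have h2 := (h.cm _ hd _ nj).resolve_left (rj.t0 h ht t hd e)
    have h3 : gam j d * s = s * gam j d := by
      refine (mul_inv_eq_iff_eq_mul.mp ?_).symm
      rw [← gam_conj rj.ys.symm, conj_eq, e]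
      simp only [gam, mul_inv_rev]
      rw [← mul_assoc j, mul_assoc _ z, (show Commute z j from jz.symm).inv_right.eq, ← mul_assoc (j * d),
        ← mul_assoc _ _ z, mul_assoc z⁻¹, mul_assoc z⁻¹, h.cz _ (mul_mem (inv_mem hd) (cj_mem h jz hd)),
        inv_mul_cancel_left]
    refine rk.t0 h ht t hd e (M.comm (b := gam i d * gam j d) (h.cz d hd) ?_ ?_)
    · rw [show gam (i * j) d = gam i d * (i * gam j d * i⁻¹) by simp only [gam]; group]
      exact (gam_M.mp (ri.tr _ nj h3)).left _
    · rw [← mul_assoc, h1, mul_assoc _ z, ← h.cz _ nj, mul_assoc _ d, ← mul_assoc d, h2, mul_assoc _ z, h.zz,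
        mul_one, mul_assoc]
  · exact (nsq h t ii iz).elim
  have a1 : ¬ M z a 1 := fun e => (M.one.mp e).elim t.j1 t.jz
  have k : ∀ y, Rt z D s y → M z (y * n * y⁻¹) n ∨ M z (y * n * y⁻¹) (n * a) := fun y r => by
    obtain ⟨d, hd, e⟩ := t.exn
    have e1 : gam s (y * d * y⁻¹) = y * n * y⁻¹ := by rw [gam_conj r.ys, e]
    have c1 : y * n * y⁻¹ * n = n * (y * n * y⁻¹) := by
      rw [← e1, ← e]
      exact comm_gam h r.sz (gam_mem h r.sz (cj_mem h r.yz hd)) hd (gam_gam h ss r.sz (cj_mem h r.yz hd))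
    have c2 : a * (y * n * y⁻¹) = y * n * y⁻¹ * a := by
      rw [← e1]
      exact comm_gam h r.sz t.jD (cj_mem h r.yz hd) (.of_eq (gam_eq_one.mpr t.js.symm))
    obtain ⟨h3, h4⟩ := prod4 h (s := s) (show y * n * y⁻¹ * (y * n * y⁻¹) = z by
      rw [show y * n * y⁻¹ * (y * n * y⁻¹) = y * (n * n) * y⁻¹ by group, t.nn, r.yz, mul_inv_cancel_right]) t.nn c1
      (e1 ▸ gam_inv ss _) t.inv
    have h5 : M z (y * n * y⁻¹) (y * n * y⁻¹ * n * n) := M_symm h (.inr (by rw [mul_assoc _ n n, t.nn]))
    rcases rank' h hr hs ss r.sz t.jD t.jj a1 t.js (mul_mem (cj_mem h r.yz t.nD) t.nD) h3 h4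
      ((show Commute _ a from c2.symm).mul_left t.jn.symm) with e | e
    · exact .inl (M_trans h h5 (by simpa using e.right (h.cz n t.nD)))
    · exact .inr (M_trans h h5 (t.jn ▸ e.right (h.cz n t.nD)))
  rcases k i ri with e | e
  · exact (ri.t2 h ss t (gam_M.mpr e)).elim
  rcases k j rj with e' | e'
  · exact (rj.t2 h ss t (gam_M.mpr e')).elim
  refine (rk.t2 h ss t (gam_M.mpr ?_)).elim
  rw [show i * j * n * (i * j)⁻¹ = i * (j * n * j⁻¹) * i⁻¹ by group]
  refine M_trans h (e'.conj iz) ?_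
  rw [show i * (n * a) * i⁻¹ = i * n * i⁻¹ * (i * a * i⁻¹) by group]
  refine M_trans h (M_mul h (h.cz _ (cj_mem h iz t.jD)) e (gam_M.mp (ri.tr a t.jD t.js.symm))) (.of_eq ?_)
  rw [mul_assoc, t.jj, mul_one]

end CL.ON3
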