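/-
ON3-TRI: the possible actions of `C(z)` on the six cyclic subgroups of order 4 of `Q = Q₈ ∘ Q₈`.
-/
import Cfsg.Agent.ON3.Defs

set_option autoImplicit false
open Cfsg Subgroup CL.Even

namespace CL.ON3

universe u

namespace Tri

abbrev Pt := Fin 2 × Fin 3
abbrev T := Pt → Pt
/-- the permutations of three points -/
def P6 : Fin 6 → Fin 3 → Fin 3 := ![![0, 1, 2], ![0, 2, 1], ![1, 0, 2], ![1, 2, 0], ![2, 0, 1], ![2, 1, 0]]
/-- the permutations that preserve the blocks -/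
def mk (b : Fin 2) (i j : Fin 6) : T := fun y => (y.1 + b, P6 (if y.1 = 0 then i else j) y.2)
abbrev St (π : T) : Prop := ∀ k, (π (0, k)).2 = (π (1, k)).2
abbrev Bp (π : T) : Prop := ∀ y, (π y).1 = y.1
abbrev Bad (π : T) : Prop := St π ∧ ¬ Bp π
/-- the value of a word -/
def ev (g : Fin 5 → T) (w : List (Fin 5)) : T := w.foldr (fun i a => g i ∘ a) id
/-- the letters -/
def lt (π r e : T) : Fin 5 → T := ![mk 0 3 3, mk 0 1 1, π, r, e]
def wK : List (List (Fin 5)) := [[], [0], [1], [3], [0, 0], [0, 1], [0, 3], [1, 0], [1, 3], [3, 1], [3, 3], [0, 0, 3],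
  [0, 1, 3], [0, 3, 1], [0, 3, 3], [1, 0, 3], [3, 1, 0], [0, 0, 3, 3]]
abbrev K (π : T) : Prop := ∃ w ∈ wK, ev (lt id (mk 0 3 0) id) w = π
def w1 : List (List (Fin 5)) := [[2, 0, 2, 0, 2, 2], [0, 0, 2, 2, 2, 0, 2], [2, 1, 2, 1, 2, 2, 2], [0, 2, 2],
  [0, 2, 0, 2], [0, 1, 2, 2, 1], [0, 0, 2, 0, 0, 2], [1, 2, 1, 2, 2, 2], [1, 2], [0, 1, 2], [0, 2, 1], [1, 0, 2],
  [2, 0, 1]]
def w2 : List (List (Fin 5)) := [[2, 2, 2], [2, 2, 2, 3], [2, 2, 3, 2], [1, 2, 2, 2], [0, 1, 2], [0, 2, 1], [1, 2, 0],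
  [2, 1, 0], [0, 1, 2, 0], [2, 0, 1, 3], [0, 2], [2, 0], [2, 3], [3, 2], [0, 0, 2], [0, 2, 0], [0, 2, 3], [3, 3, 2]]
def w3 : List (List (Fin 5)) := [[2, 2, 2], [2, 4], [2, 0, 4], [2, 3, 4], [2, 3], [3, 2]]
def w4 : List (List (Fin 5)) := [[2], [1, 4, 2, 4], [2, 0, 4], [2, 3, 4]]

theorem d1 : ∀ b i j, St (mk b i j) ∨
    ∃ w ∈ w1, Bad (ev (lt (mk b i j) id id) w) ∨ ev (lt (mk b i j) id id) w = mk 0 3 0 := by decide +kernel
theorem d2 : ∀ b i j, K (mk b i j) ∨ ∃ w ∈ w2, Bad (ev (lt (mk b i j) (mk 0 3 0) id) w) ∨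
    ev (lt (mk b i j) (mk 0 3 0) id) w = mk 0 1 0 ∨ ev (lt (mk b i j) (mk 0 3 0) id) w = mk 1 0 1 := by decide +kernel
theorem d3 : ∀ b i j, (Bp (mk b i j) ∧ (K (mk b i j ∘ mk 0 1 0) ∨ K (mk b i j))) ∨
    ∃ w ∈ w3, Bad (ev (lt (mk b i j) (mk 0 3 0) (mk 0 1 0)) w) := by decide +kernel
theorem d4 : ∀ b i j, mk b i j ∘ mk b i j = id → K (mk b i j) ∨ ∃ w ∈ w4,
    Bad (ev (lt (mk b i j) (mk 0 3 0) (mk 1 0 1)) w) ∨ ev (lt (mk b i j) (mk 0 3 0) (mk 1 0 1)) w = mk 0 1 0 := by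
  decide +kernel

theorem exists_mk (π : Equiv.Perm Pt) (h : ∀ s k k', (π (s, k)).1 = (π (s, k')).1) : ∃ b i j, ⇑π = mk b i j := by
  have p3 : ∀ p : Fin 3 → Fin 3, Function.Injective p → ∃ i, p = P6 i ∧ Function.Surjective p := by decide +kernel
  have inj : ∀ s, Function.Injective fun k => (π (s, k)).2 := fun s k k' e =>
    (Prod.ext_iff.1 (π.injective (Prod.ext (h s k k') e))).2
  obtain ⟨i, hi, si⟩ := p3 _ (inj 0)
  obtain ⟨j, hj, -⟩ := p3 _ (inj 1)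
  have ne : (π (1, 0)).1 ≠ (π (0, 0)).1 := fun e => by
    obtain ⟨k, hk⟩ := si (π (1, 0)).2
    exact absurd (Prod.ext_iff.1 (π.injective (Prod.ext ((h 0 k 0).trans e.symm) hk))).1 zero_ne_one
  have f2 : ∀ a b : Fin 2, a ≠ b → a = 1 + b := by decide
  refine ⟨(π (0, 0)).1, i, j, funext fun ⟨s, k⟩ => ?_⟩
  fin_cases s
  · exact Prod.ext ((h 0 k 0).trans (zero_add _).symm) (congrFun hi k)
  · exact Prod.ext ((h 1 k 0).trans (f2 _ _ ne)) (congrFun hj k)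

variable {G : Type*} [Group G] {V : Subgroup G} {f : Fin 2 → (Q8 →* G)} {x ρ : G}
  {φ : 𝒩(QQ f) →* Equiv.Perm (Fin 2 × Fin 3)}

/-- the permutations induced by `S` -/
def In (φ : 𝒩(QQ f) →* Equiv.Perm (Fin 2 × Fin 3)) (S : Subgroup G) (π : T) : Prop :=
  ∃ g : 𝒩(QQ f), (g : G) ∈ S ∧ ⇑(φ g) = π

theorem In.one (S : Subgroup G) : In φ S id := ⟨1, S.one_mem, by simp⟩
theorem In.ev {S : Subgroup G} {g : Fin 5 → T} (h : ∀ i, In φ S (g i)) (w : List (Fin 5)) : In φ S (ev g w) := by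
  induction w with
  | nil => exact In.one S
  | cons i w ih =>
    obtain ⟨a, ha, e⟩ := h i
    obtain ⟨b, hb, e'⟩ := ih
    exact ⟨a * b, S.mul_mem ha hb, by rw [map_mul, Equiv.Perm.coe_mul, e, e']; rfl⟩
theorem In.lt {S : Subgroup G} {π r e : T} (h0 : In φ S (mk 0 3 3)) (h1 : In φ S (mk 0 1 1)) (h2 : In φ S π)
    (h3 : In φ S r) (h4 : In φ S e) (w : List (Fin 5)) : In φ S (Tri.ev (lt π r e) w) :=
  In.ev (fun i => by fin_cases i <;> assumption) w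
theorem In.mem (hφ : Phi f φ) {S : Subgroup G} (hQ : QQ f ≤ S) {g : 𝒩(QQ f)} (h : In φ S (φ g)) : (g : G) ∈ S := by
  obtain ⟨a, ha, e⟩ := h
  have := hQ ((hφ.ker (a⁻¹ * g)).1 (by rw [map_mul, map_inv, ← DFunLike.coe_injective e, inv_mul_cancel]))
  simpa using S.mul_mem ha this

theorem q8 : ∀ a : Q8, a = 1 ∨ a = qm ∨ ∃ k, a = bas k ∨ a = bas k * qm := by decide +kernel

section
variable (F : Fr V f x ρ)
include F

theorem fz (s : Fin 2) : f s qm = f 0 qm := by fin_cases s; exacts [rfl, F.zz]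
theorem fm (s : Fin 2) (a : Q8) : f s (a * qm) = f s a * f 0 qm := by rw [map_mul, fz F]
theorem zc (s : Fin 2) (a : Q8) : f s a * f 0 qm = f 0 qm * f s a := by
  rw [← fz F s, ← map_mul, ← map_mul, (by decide +kernel : ∀ a : Q8, a * qm = qm * a)]
omit F in
theorem zz : f 0 qm * f 0 qm = 1 := by rw [← map_mul, (by decide : qm * qm = 1), map_one]
theorem Qz : QQ f ≤ cen (f 0 qm) :=
  sup_le (fun _ ⟨a, e⟩ => e ▸ mem_centralizer_singleton_iff.2 (zc F 0 a))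
    fun _ ⟨a, e⟩ => e ▸ mem_centralizer_singleton_iff.2 (zc F 1 a)

theorem uniq {s s' : Fin 2} {k k' : Fin 3} {a b : Q8} (ha : a = bas k ∨ a = bas k * qm)
    (hb : b = bas k' ∨ b = bas k' * qm) (e : f s a = f s' b) : (s, k) = (s', k') := by
  have n : ∀ (k : Fin 3) (a : Q8), a = bas k ∨ a = bas k * qm → ¬ (a = 1 ∨ a = qm) := by decide +kernel
  have m : ∀ (k k' : Fin 3) (a : Q8), a = bas k ∨ a = bas k * qm → a = bas k' ∨ a = bas k' * qm → k = k' := by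
    decide +kernel
  fin_cases s <;> fin_cases s'
  · obtain rfl := F.inj 0 e; rw [m k k' a ha hb]
  · exact absurd (F.meet _ _ e) (n k a ha)
  · exact absurd (F.meet _ _ e.symm) (n k' b hb)
  · obtain rfl := F.inj 1 e; rw [m k k' a ha hb]

/-- the relation between an action on `Q` and a permutation -/
abbrev Ind (σ : Fin 2 → Fin 2) (α : Fin 2 → Q8 → Q8) (π : T) : Prop :=
  ∀ s k, (π (s, k)).1 = σ s ∧ (α s (bas k) = bas (π (s, k)).2 ∨ α s (bas k) = bas (π (s, k)).2 * qm)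

theorem phi_eq (hφ : Phi f φ) {σ : Fin 2 → Fin 2} {α : Fin 2 → Q8 → Q8} {π : T} (hi : Ind σ α π) (g : 𝒩(QQ f))
    (h : ∀ s a, (g : G) * f s a * (g : G)⁻¹ = f (σ s) (α s a)) : ⇑(φ g) = π := by
  funext ⟨s, k⟩
  have e : ∃ b, (b = bas (φ g (s, k)).2 ∨ b = bas (φ g (s, k)).2 * qm) ∧ f (φ g (s, k)).1 b = f (σ s) (α s (bas k)) := by
    rcases hφ.act g s k with e | e
    · exact ⟨_, .inl rfl, e.symm.trans (h s _)⟩
    · exact ⟨_, .inr rfl, (fm F _ _).trans (e.symm.trans (h s _))⟩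
  obtain ⟨b, hb, e⟩ := e
  have := uniq F hb (hi s k).2 e
  rwa [← (hi s k).1] at this

theorem norm (hφ : Phi f φ) {σ : Fin 2 → Fin 2} {α : Fin 2 → Q8 → Q8} {π : T} (hi : Ind σ α π)
    (hα : ∀ s a b, α s (a * b) = α s a * α s b) (h : In φ (cen (f 0 qm)) π) :
    ∃ g ∈ cen (f 0 qm), ∀ s a, g * f s a * g⁻¹ = f (σ s) (α s a) := by
  obtain ⟨g, hg, rfl⟩ := h
  have gz : (g : G) * f 0 qm * (g : G)⁻¹ = f 0 qm := by
    rw [mem_centralizer_singleton_iff.1 hg, mul_inv_cancel_right]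
  have one : ∀ s k, ∃ e, (e = 1 ∨ e = qm) ∧ (g : G) * f s (bas k * e) * (g : G)⁻¹ = f (σ s) (α s (bas k)) := by
    intro s k
    have e2 : (g : G) * f s (bas k * qm) * (g : G)⁻¹ = g * f s (bas k) * (g : G)⁻¹ * f 0 qm := by
      rw [fm F]; conv_rhs => rw [← gz]
      group
    rw [← (hi s k).1]
    rcases hφ.act g s k with e | e <;> rcases (hi s k).2 with e' | e' <;> rw [e']
    · exact ⟨1, .inl rfl, by rwa [mul_one]⟩
    · exact ⟨qm, .inr rfl, by rw [e2, e, fm F]⟩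
    · exact ⟨qm, .inr rfl, by rw [e2, e, mul_assoc, zz, mul_one]⟩
    · exact ⟨1, .inl rfl, by rwa [mul_one, fm F]⟩
  have two : ∀ s, ∃ c : Q8, ∀ a, (g : G) * f s (c * a * c⁻¹) * (g : G)⁻¹ = f (σ s) (α s a) := fun s => by
    obtain ⟨e0, h0, a0⟩ := one s 0
    obtain ⟨e1, h1, a1⟩ := one s 1
    obtain ⟨c, c0, c1⟩ := (by decide +kernel : ∀ e0 e1 : Q8, e0 = 1 ∨ e0 = qm → e1 = 1 ∨ e1 = qm →
      ∃ c : Q8, c * .a 1 * c⁻¹ = bas 0 * e0 ∧ c * .xa 0 * c⁻¹ = bas 1 * e1) e0 e1 h0 h1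
    refine ⟨c, fun a => ?_⟩
    have := CL.Transfer.map_q8Fun (((MulAut.conj (g : G)).toMonoidHom.comp (f s)).comp (MulAut.conj c).toMonoidHom) a
    simp only [MonoidHom.comp_apply, MulEquiv.coe_toMonoidHom, MulAut.conj_apply, c0, c1, a0, a1] at this
    rw [this]
    exact (CL.Transfer.map_q8Fun ((f (σ s)).comp (MonoidHom.mk' (α s) (hα s))) a).symm
  choose c hc using two
  refine ⟨g * (f 0 (c 0) * f 1 (c 1)), mul_mem hg (Qz F (mul_mem_sup ⟨_, rfl⟩ ⟨_, rfl⟩)), fun s a => ?_⟩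
  rw [← hc s a, map_mul, map_mul, map_inv]
  fin_cases s
  · calc _ = g * (f 0 (c 0) * (f 1 (c 1) * f 0 a) * (f 1 (c 1))⁻¹ * (f 0 (c 0))⁻¹) * (g : G)⁻¹ := by simp [mul_assoc]
      _ = _ := by rw [← F.comm]; simp [mul_assoc]
  · rw [F.comm]
    calc _ = g * (f 1 (c 1) * (f 0 (c 0) * f 1 a) * (f 0 (c 0))⁻¹ * (f 1 (c 1))⁻¹) * (g : G)⁻¹ := by simp [mul_assoc]
      _ = _ := by rw [F.comm]; simp [mul_assoc]

omit F in
theorem cen_of {g : G} (h : g * f 0 qm * g⁻¹ = f 0 qm) : g ∈ cen (f 0 qm) :=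
  mem_centralizer_singleton_iff.2 (mul_inv_eq_iff_eq_mul.1 h)

theorem xz : x ∈ cen (f 0 qm) := cen_of ((F.xact 0 qm).trans (by rw [(by decide : xi qm = qm)]))
theorem ρz : ρ ∈ cen (f 0 qm) := cen_of ((F.rho 0 qm).trans (by rw [(by decide : th qm = qm)]))

variable [Finite G] (hφ : Phi f φ)
include hφ

theorem nV {g : 𝒩(QQ f)} (hg : (g : G) ∈ cen (f 0 qm)) (h : St (φ g)) : (g : G) ∈ 𝒩(V) := by
  have gz : (g : G) * f 0 qm * (g : G)⁻¹ = f 0 qm := by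
    rw [mem_centralizer_singleton_iff.1 hg, mul_inv_cancel_right]
  have zV : f 0 qm ∈ V := (F.memV _).2 ⟨1, .inr (by simp)⟩
  have hk : ∀ k, (g : G) * (f 0 (bas k) * f 1 (bas k)) * (g : G)⁻¹ ∈ V := fun k => by
    have e : (g : G) * (f 0 (bas k) * f 1 (bas k)) * (g : G)⁻¹ =
        (g * f 0 (bas k) * (g : G)⁻¹) * (g * f 1 (bas k) * (g : G)⁻¹) := by group
    have ne : (φ g (0, k)).1 ≠ (φ g (1, k)).1 := fun e =>
      absurd (Prod.ext_iff.1 ((φ g).injective (Prod.ext e (h k)))).1 zero_ne_one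
    have b : ∀ (s s' : Fin 2) (a : Q8), s ≠ s' → f s a * f s' a ∈ V := fun s s' a hs => by
      fin_cases s <;> fin_cases s'
      · exact absurd rfl hs
      · exact (F.memV _).2 ⟨a, .inl rfl⟩
      · exact (F.memV _).2 ⟨a, .inl (F.comm a a).symm⟩
      · exact absurd rfl hs
    have b := b _ _ (bas (φ g (0, k)).2) ne
    rw [e]
    rcases hφ.act g 0 k with e0 | e0 <;> rcases hφ.act g 1 k with e1 | e1 <;> rw [e0, e1, ← h k]
    · exact b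
    · rw [← mul_assoc]; exact V.mul_mem b zV
    · rw [mul_assoc, ← zc F, ← mul_assoc]; exact V.mul_mem b zV
    · rw [mul_assoc, ← mul_assoc (f 0 qm), ← zc F, ← mul_assoc, ← mul_assoc]; exact V.mul_mem (V.mul_mem b zV) zV
  have ha : ∀ a, (g : G) * (f 0 a * f 1 a) * (g : G)⁻¹ ∈ V := fun a => by
    rcases q8 a with rfl | rfl | ⟨k, rfl | rfl⟩
    · simp
    · rw [F.zz, zz]; simp
    · exact hk k
    · rw [fm F, fm F, mul_assoc (f 0 _), ← mul_assoc (f 0 qm), ← zc F, mul_assoc (f 1 _), zz, mul_one]; exact hk k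
  refine mem_norm_of_cj_le ?_
  rintro _ ⟨v, hv, rfl⟩
  obtain ⟨a, rfl | rfl⟩ := (F.memV v).1 hv
  · exact ha a
  · rw [map_mul]; exact V.mul_mem (ha a) (gz.symm ▸ zV : (g : G) * f 0 qm * (g : G)⁻¹ ∈ V)

theorem nR {g : 𝒩(QQ f)} (hg : (g : G) ∈ cen (f 0 qm)) (h : Bp (φ g)) (s : Fin 2) : (g : G) ∈ 𝒩((f s).range) := by
  have gz : (g : G) * f s qm * (g : G)⁻¹ = f s qm := by
    rw [fz F, mem_centralizer_singleton_iff.1 hg, mul_inv_cancel_right]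
  have hk : ∀ k, (g : G) * f s (bas k) * (g : G)⁻¹ ∈ (f s).range := fun k => by
    rcases hφ.act g s k with e | e <;> rw [e, h]
    · exact ⟨_, rfl⟩
    · exact ⟨_, fm F _ _⟩
  refine mem_norm_of_cj_le ?_
  rintro _ ⟨_, ⟨a, rfl⟩, rfl⟩
  rcases q8 a with rfl | rfl | ⟨k, rfl | rfl⟩
  · simp
  · exact ⟨qm, gz.symm⟩
  · exact hk k
  · rw [map_mul, map_mul]; exact mul_mem (hk k) ⟨qm, gz.symm⟩

end

end Tri

open Tri in
theorem triThm : TriThm.{u} := by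
  intro G _ _ V f x ρ φ F hφ hN
  have φx := phi_eq F hφ (σ := id) (α := fun _ => xi) (π := mk 0 1 1) (by decide +kernel) ⟨x, hN (xz F)⟩ F.xact
  have φρ := phi_eq F hφ (σ := id) (α := fun _ => th) (π := mk 0 3 3) (by decide +kernel) ⟨ρ, hN (ρz F)⟩ F.rho
  have ix : In φ (cen (f 0 qm)) (mk 0 1 1) := ⟨_, xz F, φx⟩
  have iρ : In φ (cen (f 0 qm)) (mk 0 3 3) := ⟨_, ρz F, φρ⟩
  have sub : ∀ (B : Subgroup (Equiv.Perm Pt)) (A : Set G), (∀ a ∈ A, ∃ h : a ∈ 𝒩(QQ f), φ ⟨a, h⟩ ∈ B) →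
      ∀ g : 𝒩(QQ f), (g : G) ∈ QQ f ⊔ closure A → φ g ∈ B := fun B A hA g hg => by
    have : QQ f ⊔ closure A ≤ (B.comap φ).map (𝒩(QQ f)).subtype := sup_le
      (fun q hq => ⟨⟨q, le_normalizer hq⟩, by rw [SetLike.mem_coe, mem_comap, (hφ.ker _).2 hq]; exact B.one_mem, rfl⟩)
      ((closure_le _).2 fun a ha => by obtain ⟨h, e⟩ := hA a ha; exact ⟨⟨a, h⟩, e, rfl⟩)
    obtain ⟨g', h, e⟩ := this hg
    exact (Subtype.ext e : g' = g) ▸ h
  have bad : ∀ {π}, In φ (cen (f 0 qm)) π → ¬ Bad π := by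
    rintro _ ⟨g, hg, rfl⟩ ⟨h1, h2⟩
    let B : Subgroup (Equiv.Perm Pt) :=
      { carrier := {π | Bp π}
        mul_mem' := fun {a b} ha hb y => (ha _).trans (hb y)
        one_mem' := fun _ => rfl
        inv_mem' := fun {a} ha y => (ha (a⁻¹ y)).symm.trans (by simp) }
    refine h2 (sub B _ ?_ g (F.Y ⟨nV F hφ hg h1, hg⟩))
    rintro _ (rfl | rfl)
    · exact ⟨_, show Bp _ by rw [φx]; decide⟩
    · exact ⟨_, show Bp _ by rw [φρ]; decide⟩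
  have ex : ∀ g (hg : g ∈ cen (f 0 qm)), ∃ b i j, ⇑(φ ⟨g, hN hg⟩) = mk b i j ∧ In φ (cen (f 0 qm)) (mk b i j) :=
    fun g hg => by
    obtain ⟨b, i, j, e⟩ := exists_mk _ (hφ.blk ⟨g, hN hg⟩)
    exact ⟨b, i, j, e, _, hg, e⟩
  by_cases ir : In φ (cen (f 0 qm)) (mk 0 3 0)
  swap
  · refine .inl fun g hg => ?_
    obtain ⟨b, i, j, e, h⟩ := ex g hg
    rcases d1 b i j with s | ⟨w, -, s | s⟩
    · exact nV F hφ (g := ⟨g, hN hg⟩) hg (e ▸ s)
    · exact absurd s (bad (iρ.lt ix h (.one _) (.one _) w))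
    · exact absurd (s ▸ iρ.lt ix h (.one _) (.one _) w) ir
  obtain ⟨r, hr, R⟩ : ∃ r ∈ cen (f 0 qm), R3 f r := by
    obtain ⟨g, hg, a⟩ := norm F hφ (σ := id) (α := ![th, id]) (by decide +kernel) (by decide +kernel) ir
    have c : ∀ s a, f s a * g ^ 3 = g ^ 3 * f s a := fun s b => by
      have : g ^ 3 * f s b * (g ^ 3)⁻¹ = g * (g * (g * f s b * g⁻¹) * g⁻¹) * g⁻¹ := by
        simp [pow_succ, mul_assoc]
      rw [a, a, a, (by decide +kernel : ∀ (s : Fin 2) (b : Q8),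
        ![th, id] (id (id s)) (![th, id] (id s) (![th, id] s b)) = b)] at this
      exact (mul_inv_eq_iff_eq_mul.1 this).symm
    rcases F.cQ (g ^ 3) (by
      rw [cent_sup]; exact ⟨fun _ ⟨b, e⟩ => e ▸ c 0 b, fun _ ⟨b, e⟩ => e ▸ c 1 b⟩) with e | e
    · exact ⟨g, hg, e, a 0, a 1⟩
    · have az : ∀ s b, g * f 0 qm * f s b * (g * f 0 qm)⁻¹ = g * f s b * g⁻¹ := fun s b => by
        rw [mul_assoc g, ← zc F]; group
      refine ⟨g * f 0 qm, mul_mem hg (cen_of (by group)), ?_, fun b => (az 0 b).trans (a 0 b),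
        fun b => (az 1 b).trans (a 1 b)⟩
      rw [Commute.mul_pow (mem_centralizer_singleton_iff.1 hg), e, pow_succ, pow_two, zz, one_mul, zz]
  have φr := phi_eq F hφ (σ := id) (α := ![th, id]) (π := mk 0 3 0) (by decide +kernel) ⟨r, hN hr⟩
    (Fin.forall_fin_two.2 ⟨R.r0, R.r1⟩)
  have hK : ∀ g : 𝒩(QQ f), K (φ g) → (g : G) ∈ Hp f x ρ r := by
    rintro g ⟨w, -, e⟩
    refine In.mem hφ le_sup_left (e ▸ In.lt ⟨_, ?_, φρ⟩ ⟨_, ?_, φx⟩ (.one _) ⟨_, ?_, φr⟩ (.one _) w) <;>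
      exact mem_sup_right (subset_closure (by simp))
  refine .inr ⟨r, R, ?_⟩
  by_cases ih : In φ (cen (f 0 qm)) (mk 0 1 0)
  · obtain ⟨h, hh, a⟩ := norm F hφ (σ := id) (α := ![xi, id]) (by decide +kernel) (by decide +kernel) ih
    have φh := phi_eq F hφ (σ := id) (α := ![xi, id]) (π := mk 0 1 0) (by decide +kernel) ⟨h, hN hh⟩ a
    have nm : h ∉ Hp f x ρ r := fun hm => by
      have o3 : ∀ g : 𝒩(QQ f), (g : G) ^ 3 = 1 → φ g ∈ (Equiv.Perm.sign : _ →* ℤˣ).ker := fun g hg => by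
        have : Equiv.Perm.sign (φ g) ^ 3 = 1 := by
          rw [← map_pow, ← map_pow, (Subtype.ext hg : g ^ 3 = 1), map_one, map_one]
        rwa [pow_succ, Int.units_sq, one_mul] at this
      have := sub (Equiv.Perm.sign : _ →* ℤˣ).ker _ ?_ ⟨h, hN hh⟩ hm
      · rw [MonoidHom.mem_ker, show φ ⟨h, hN hh⟩ = Equiv.swap (0, 1) (0, 2) from
          DFunLike.coe_injective (φh.trans (by decide +kernel)), Equiv.Perm.sign_swap (by decide)] at this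
        exact absurd this (by decide)
      rintro _ (rfl | rfl | rfl)
      · refine ⟨hN (xz F), ?_⟩
        rw [MonoidHom.mem_ker, show φ ⟨_, hN (xz F)⟩ = Equiv.swap (0, 1) (0, 2) * Equiv.swap (1, 1) (1, 2) from
          DFunLike.coe_injective (φx.trans (by decide +kernel)), map_mul, Equiv.Perm.sign_swap (by decide),
          Equiv.Perm.sign_swap (by decide)]
        decide
      · exact ⟨_, o3 ⟨_, hN (ρz F)⟩ F.rho3⟩
      · exact ⟨_, o3 ⟨_, hN hr⟩ R.r3⟩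
    have all : ∀ g (hg : g ∈ cen (f 0 qm)), Bp (φ ⟨g, hN hg⟩) ∧ (K (φ ⟨g, hN hg⟩ ∘ mk 0 1 0) ∨ K (φ ⟨g, hN hg⟩)) :=
      fun g hg => by
      obtain ⟨b, i, j, e, hi⟩ := ex g hg
      rcases d3 b i j with s | ⟨w, -, s⟩
      · rwa [e]
      · exact absurd s (bad (iρ.lt ix hi ir ih w))
    refine .inr (.inl ⟨h, relIndex_eq_two_iff_exists_notMem_and.2 ⟨h, hh, nm, fun g hg => (all g hg).2.imp
      (fun s => hK (⟨g, hN hg⟩ * ⟨h, hN hh⟩) ?_) (hK ⟨g, hN hg⟩)⟩, nm, a 0, a 1, fun s g hg =>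
      nR F hφ (g := ⟨g, hN hg⟩) hg (all g hg).1 s⟩)
    rwa [map_mul, Equiv.Perm.coe_mul, φh]
  by_cases iw : In φ (cen (f 0 qm)) (mk 1 0 1)
  · obtain ⟨w, -, a⟩ := norm F hφ (σ := ![1, 0]) (α := ![id, xi]) (by decide +kernel) (by decide +kernel) iw
    refine .inr (.inr ⟨w, a 0, a 1, fun g hg hq => ?_⟩)
    obtain ⟨b, i, j, e, hi⟩ := ex g hg
    rcases d4 b i j (by
      rw [← e, ← Equiv.Perm.coe_mul, ← map_mul, (hφ.ker _).2 hq]; rfl) with s | ⟨w, -, s | s⟩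
    · exact hK ⟨g, hN hg⟩ (e ▸ s)
    · exact absurd s (bad (iρ.lt ix hi ir iw w))
    · exact absurd (s ▸ iρ.lt ix hi ir iw w) ih
  refine .inl fun g hg => ?_
  obtain ⟨b, i, j, e, hi⟩ := ex g hg
  rcases d2 b i j with s | ⟨w, -, s | s | s⟩
  · exact hK ⟨g, hN hg⟩ (e ▸ s)
  · exact absurd s (bad (iρ.lt ix hi ir (.one _) w))
  · exact absurd (s ▸ iρ.lt ix hi ir (.one _) w) ih
  · exact absurd (s ▸ iρ.lt ix hi ir (.one _) w) iw

end CL.ON3
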