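/-
Project ON3: the case `C(z) ≤ N(V)`, the involutions of `(SL₂(3) ∘ SL₂(3)).2`, and the case `C(z)/Q ≅ S₃ × S₃`.
-/
import Cfsg.Agent.ON3.Defs
import Cfsg.Agent.Grp.SylowIn
import Cfsg.Agent.Grp.MinNormal
import Cfsg.Agent.Transfer.Control

set_option autoImplicit false
set_option linter.unusedSectionVars false
open Cfsg Subgroup CL.Even CL.Grp Equiv
open scoped commutatorElement

namespace CL.ON3

universe u

namespace CA

/-- equality up to sign -/
abbrev pm (a b : Q8) : Prop := a = b ∨ a = b * qm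

/-- the block preserving permutations -/
def blk : (Fin 2 → Perm (Fin 3)) →* Perm (Fin 2 × Fin 3) := MonoidHom.mk' Equiv.prodCongrRight fun _ _ => rfl

variable {G : Type*} [Group G] {V : Subgroup G} {f : Fin 2 → (Q8 →* G)} {x ρ : G}

/-- `g` acts on the two quaternion groups by `α` -/
def Act (f : Fin 2 → (Q8 →* G)) (g : G) (α : Fin 2 → Q8 → Q8) : Prop := ∀ s a, g * f s a * g⁻¹ = f s (α s a)

theorem Act.mul {g g' : G} {α β : Fin 2 → Q8 → Q8} (h : Act f g α) (h' : Act f g' β) :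
    Act f (g * g') fun s a => α s (β s a) := fun s a => by rw [← h, ← h']; group

theorem Act.inv {g : G} {α : Fin 2 → Q8 → Q8} (h : Act f g α) (β : Fin 2 → Q8 → Q8) (e : ∀ s a, α s (β s a) = a) :
    Act f g⁻¹ β := fun s a => by conv_lhs => rw [← e s a, ← h]
                                 group

theorem Act.congr {g : G} {α : Fin 2 → Q8 → Q8} (h : Act f g α) (β : Fin 2 → Q8 → Q8) (e : ∀ s a, α s a = β s a) :
    Act f g β := fun s a => e s a ▸ h s a

theorem Act.comm {g : G} {α : Fin 2 → Q8 → Q8} (h : Act f g α) (s : Fin 2) (a : Q8) (e : α s a = a) :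
    Commute g (f s a) := mul_inv_eq_iff_eq_mul.1 ((h s a).trans (by rw [e]))

theorem Act.nQ [Finite G] {g : G} {α : Fin 2 → Q8 → Q8} (h : Act f g α) : g ∈ 𝒩(QQ f) := by
  refine mem_norm_of_cj_le ?_
  rw [cj_sup]
  refine sup_le_sup ?_ ?_ <;> rintro _ ⟨_, ⟨a, rfl⟩, rfl⟩ <;> exact ⟨_, (h _ a).symm⟩

theorem act_r {r : G} (h : R3 f r) : Act f r ![th, id] := Fin.forall_fin_two.2 ⟨h.r0, h.r1⟩

variable (h : Fr V f x ρ)
include h

/-- the central product -/
def F : Q8 × Q8 →* G := (f 0).noncommCoprod (f 1) h.comm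

theorem F_apply (a b : Q8) : F h (a, b) = f 0 a * f 1 b := rfl

theorem F0 (a : Q8) : f 0 a = F h (a, 1) := by rw [F_apply, map_one, mul_one]
theorem F1 (a : Q8) : f 1 a = F h (1, a) := by rw [F_apply, map_one, one_mul]

theorem memQ {g : G} : g ∈ QQ f ↔ ∃ p, F h p = g := by
  rw [QQ, ← MonoidHom.noncommCoprod_range _ _ h.comm]; rfl

theorem FQ (p : Q8 × Q8) : F h p ∈ QQ f := (memQ h).2 ⟨p, rfl⟩

theorem fz (s : Fin 2) : f s qm = f 0 qm := by fin_cases s; exacts [rfl, h.zz]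

theorem zz : f 0 qm * f 0 qm = 1 := by rw [← map_mul, show qm * qm = 1 by decide, map_one]

theorem z1 : f 0 qm ≠ 1 := fun e => absurd (h.inj 0 (e.trans (map_one _).symm)) (by decide)

theorem F_eq {p q : Q8 × Q8} : F h p = F h q ↔ p = q ∨ p = q * (qm, qm) := by
  constructor
  · obtain ⟨a, b⟩ := p
    obtain ⟨c, d⟩ := q
    intro e
    have e1 : f 0 (c⁻¹ * a) = f 1 (d * b⁻¹) := by
      rw [map_mul, map_mul, map_inv, map_inv, inv_mul_eq_iff_eq_mul, ← mul_assoc, eq_mul_inv_iff_mul_eq]; exact e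
    rcases h.meet _ _ e1 with e2 | e2 <;> rw [e2] at e1
    · rw [map_one, ← map_one (f 1)] at e1
      have e3 := h.inj 1 e1
      left; revert e2 e3; clear e e1; revert a c b d; decide +kernel
    · have e3 := h.inj 1 (h.zz.trans e1)
      right; revert e2 e3; clear e e1; revert a c b d; decide +kernel
  · rintro (rfl | rfl)
    · rfl
    · rw [map_mul, F_apply h qm, h.zz, zz h, mul_one]

theorem cz {g : G} (hg : g ∈ QQ f) : g * f 0 qm = f 0 qm * g := by
  obtain ⟨p, rfl⟩ := (memQ h).1 hg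
  rw [F0 h, ← map_mul, ← map_mul]
  exact congrArg _ (by clear hg; revert p; decide +kernel)

theorem cmQ {g g' : G} (hg : g ∈ QQ f) (hg' : g' ∈ QQ f) : g * g' = g' * g ∨ g * g' = g' * g * f 0 qm := by
  obtain ⟨p, rfl⟩ := (memQ h).1 hg
  obtain ⟨q, rfl⟩ := (memQ h).1 hg'
  simp only [F0 h, ← map_mul, F_eq]
  clear hg hg'; revert p q; decide +kernel

theorem Q2 : IsPGroup 2 (QQ f) := isPGroup_iff_forall.2 fun g hg => by
  obtain ⟨p, rfl⟩ := (memQ h).1 hg
  exact ⟨2, by rw [← map_pow, show p ^ 2 ^ 2 = 1 by clear hg; revert p; decide +kernel, map_one]⟩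

theorem mV {g : G} : g ∈ V ↔ ∃ a b, pm b a ∧ F h (a, b) = g := by
  rw [h.memV]
  have e : ∀ a, f 0 a * f 1 a * f 0 qm = F h (a, a * qm) := fun a => by rw [F_apply, map_mul, h.zz, mul_assoc]
  constructor
  · rintro ⟨a, rfl | rfl⟩
    exacts [⟨a, a, .inl rfl, rfl⟩, ⟨a, _, .inr rfl, (e a).symm⟩]
  · rintro ⟨a, _, rfl | rfl, rfl⟩
    exacts [⟨_, .inl rfl⟩, ⟨a, .inr (e a).symm⟩]

theorem actF {g : G} {α : Fin 2 → Q8 → Q8} (k : Act f g α) (a b : Q8) :
    g * F h (a, b) * g⁻¹ = F h (α 0 a, α 1 b) := by rw [F_apply, F_apply, ← k, ← k, conj_mul]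

theorem act0 (c : Q8) : Act f (f 0 c) ![fun a => c * a * c⁻¹, id] := Fin.forall_fin_two.2
  ⟨fun a => by simp, fun a => by simp [h.comm]⟩

theorem act1 (c : Q8) : Act f (f 1 c) ![id, fun a => c * a * c⁻¹] := Fin.forall_fin_two.2
  ⟨fun a => by simp [← h.comm], fun a => by simp⟩

theorem actEq {g g' : G} {α β : Fin 2 → Q8 → Q8} (k : Act f g α) (k' : Act f g' β) (e : ∀ s a, α s a = β s a) :
    g = g' ∨ g = g' * f 0 qm := by
  have h1 : ∀ s, g'⁻¹ * g ∈ 𝒞((f s).range) := fun s => by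
    rintro _ ⟨a, rfl⟩
    have := (k s a).trans ((congrArg _ (e s a)).trans (k' s a).symm)
    calc _ = g'⁻¹ * (g' * f s a * g'⁻¹) * g := by group
      _ = _ := by rw [← this]; group
  have h2 := h.cQ (g'⁻¹ * g) (by rw [cent_sup]; exact ⟨h1 0, h1 1⟩)
  rwa [inv_mul_eq_one, eq_comm, inv_mul_eq_iff_eq_mul] at h2

theorem nV [Finite G] {g : G} {α : Fin 2 → Q8 → Q8} (k : Act f g α) (e : ∀ a b, pm b a → pm (α 1 b) (α 0 a)) :
    g ∈ 𝒩(V) := by
  refine mem_norm_of_cj_le ?_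
  rintro _ ⟨v, hv, rfl⟩
  obtain ⟨a, b, h1, rfl⟩ := (mV h).1 hv
  exact (mV h).2 ⟨_, _, e a b h1, (actF h k a b).symm⟩

theorem Q_le [Finite G] : QQ f ≤ 𝒩(V) := sup_le
  (by rintro _ ⟨c, rfl⟩; exact nV h (act0 h c) (by revert c; decide +kernel))
  (by rintro _ ⟨c, rfl⟩; exact nV h (act1 h c) (by revert c; decide +kernel))

theorem f_eq {s s' : Fin 2} {a b : Q8} (e : f s a = f s' b) : (s = s' ∧ a = b) ∨ b = 1 ∨ b = qm := by
  fin_cases s <;> fin_cases s'
  · exact .inl ⟨rfl, h.inj _ e⟩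
  · have := (F_eq h).1 ((F0 h a).symm.trans (e.trans (F1 h b)))
    right; revert this; clear e; revert a b; decide +kernel
  · exact .inr (h.meet _ _ e.symm)
  · exact .inl ⟨rfl, h.inj _ e⟩

variable [Finite G] {φ : 𝒩(QQ f) →* Perm (Fin 2 × Fin 3)} (hφ : Phi f φ)
include hφ

omit [Finite G] in
theorem phi_act (g : 𝒩(QQ f)) (s : Fin 2) (k : Fin 3) :
    ∃ c, pm c (bas (φ g (s, k)).2) ∧ (g : G) * f s (bas k) * (g : G)⁻¹ = f (φ g (s, k)).1 c :=
  (hφ.act g s k).elim (fun e => ⟨_, .inl rfl, e⟩) fun e => ⟨_, .inr rfl, by rw [e, map_mul, fz h (φ g (s, k)).1]⟩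

theorem phi_of {g : G} {α : Fin 2 → Q8 → Q8} (k : Act f g α) (π : Fin 2 → Perm (Fin 3))
    (e : ∀ s i, pm (α s (bas i)) (bas (π s i))) : φ ⟨g, k.nQ⟩ = blk π := by
  refine Equiv.ext fun ⟨s, i⟩ => ?_
  obtain ⟨c, h1, h2⟩ := phi_act h hφ ⟨g, k.nQ⟩ s i
  have h3 := f_eq h ((k s _).symm.trans h2)
  have h4 := e s i
  change _ = (s, π s i)
  generalize φ ⟨g, k.nQ⟩ (s, i) = p at h1 h3
  generalize α s (bas i) = a at h3 h4
  generalize π s i = j at h4
  clear h2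
  revert a c p s j
  decide +kernel

omit h hφ in
/-- the preimage of a group of block preserving permutations -/
def W (φ : 𝒩(QQ f) →* Perm (Fin 2 × Fin 3)) (T : Subgroup (Fin 2 → Perm (Fin 3))) : Subgroup G :=
  ((T.map blk).comap φ).map (Subgroup.subtype _)

theorem Q_le_W (T : Subgroup (Fin 2 → Perm (Fin 3))) : QQ f ≤ W φ T := fun g hg =>
  ⟨⟨g, le_normalizer hg⟩, ⟨1, one_mem _, (map_one _).trans ((hφ.ker _).2 hg).symm⟩, rfl⟩

theorem mem_W {g : G} {α : Fin 2 → Q8 → Q8} (k : Act f g α) {T : Subgroup (Fin 2 → Perm (Fin 3))}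
    (π : Fin 2 → Perm (Fin 3)) (hπ : π ∈ T) (e : ∀ s i, pm (α s (bas i)) (bas (π s i))) : g ∈ W φ T :=
  ⟨_, ⟨π, hπ, (phi_of h hφ k π e).symm⟩, rfl⟩

theorem cen_le (hV : cen (f 0 qm) ≤ 𝒩(V)) {a b : Q8} {k k' : Fin 3} (hk : k ≠ k') (ha : pm a (bas k))
    (hb : pm b (bas k')) {y : G} (h1 : y ∈ cen (f 0 qm)) (h2 : y ∈ cen (F h (a, b))) : y ∈ QQ f := by
  have h3 : QQ f ⊔ closure {x, ρ} ≤ W φ ((Pi.evalMonoidHom _ 0).eqLocus (Pi.evalMonoidHom _ 1)) :=
    sup_le (Q_le_W h hφ _) ((closure_le _).2 (by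
      rintro _ (rfl | rfl)
      · exact mem_W h hφ (α := fun _ => xi) h.xact (fun _ => swap 1 2) rfl (by decide +kernel)
      · exact mem_W h hφ (α := fun _ => th) h.rho (fun _ => finRotate 3) rfl (by decide +kernel)))
  obtain ⟨g, ⟨π, hπ, e⟩, rfl⟩ := h3 (h.Y ⟨hV h1, h1⟩)
  have h4 : ∀ s a k, pm a (bas k) → ∃ c, pm c (bas (π s k)) ∧ (g : G) * f s a * (g : G)⁻¹ = f s c := fun s a k ha => by
    obtain ⟨c, c1, c2⟩ := phi_act h hφ g s k
    rw [← e] at c1 c2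
    rcases ha with rfl | rfl
    · exact ⟨c, c1, c2⟩
    · refine ⟨c * qm, c1.symm.imp (fun e => by rw [e, mul_assoc]; exact mul_one _) fun e => by rw [e]; rfl, ?_⟩
      rw [map_mul, map_mul, fz h, ← conj_mul, c2,
        mul_inv_eq_iff_eq_mul.2 (show (g : G) * _ = _ * g from mem_centralizer_singleton_iff.1 h1)]
      rfl
  obtain ⟨c, c1, c2⟩ := h4 0 a k ha
  obtain ⟨d, d1, d2⟩ := h4 1 b k' hb
  have h5 : F h (c, d) = F h (a, b) := by
    rw [F_apply, ← c2, ← d2, conj_mul]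
    exact mul_inv_eq_iff_eq_mul.2 (mem_centralizer_singleton_iff.1 h2)
  rw [F_eq] at h5
  have h6 : π 0 = π 1 := hπ
  have h7 : ∀ (a c : Q8) (k j : Fin 3), pm a (bas k) → pm c (bas j) → pm c a → j = k := by decide +kernel
  have h8 : π 1 = 1 := by
    have k1 := h7 a c k _ ha c1 (h5.imp (congrArg Prod.fst) (congrArg Prod.fst))
    have k2 := h7 b d k' _ hb d1 (h5.imp (congrArg Prod.snd) (congrArg Prod.snd))
    rw [h6] at k1
    revert k1 k2 hk
    generalize π 1 = σ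
    clear * -
    revert σ k k'
    decide +kernel
  refine (hφ.ker g).1 ?_
  rw [← e, show π = 1 from funext (Fin.forall_fin_two.2 ⟨h6.trans h8, h8⟩), map_one]

omit hφ in
theorem inv_Q {r : G} (hr : R3 f r) {t : G} (ht : t ∈ QQ f) (h2 : t * t = 1) (h1 : t ≠ 1) : IsConj t (f 0 qm) := by
  obtain ⟨⟨a, b⟩, rfl⟩ := (memQ h).1 ht
  rw [← map_mul, ← map_one (F h), F_eq] at h2
  have h3 : pm b a ∨ pm b (th a) ∨ pm b (th (th a)) := by revert h2; clear ht h1; revert a b; decide +kernel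
  have h4 : ∀ g : G, g * F h (a, b) * g⁻¹ ∈ V → IsConj (F h (a, b)) (f 0 qm) := fun g hg => by
    obtain ⟨m, -, e⟩ := h.conj _ hg (by rwa [Ne, conj_eq_one_iff])
    exact isConj_iff.2 ⟨m * g, by rw [← e]; group⟩
  rcases h3 with e | e | e
  · exact h4 1 ((mV h).2 ⟨_, _, e, by simp⟩)
  · exact h4 r ((mV h).2 ⟨_, _, e, (actF h (act_r hr) a b).symm⟩)
  · exact h4 (r * r) ((mV h).2 ⟨_, _, e, (actF h ((act_r hr).mul (act_r hr)) a b).symm⟩)

end CA

open CA

theorem caseAThm : CaseAThm.{u} := by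
  intro G _ _ V f x ρ φ h hφ hV g v hv ht
  by_contra hn
  obtain ⟨n, -, hn1⟩ := h.conj v hv fun e => hn (by simp [e])
  obtain ⟨m, hm, hm1⟩ := h.inv _ ht (by rw [conj_mul, h.full.sq v hv]; simp)
  obtain ⟨⟨a, b⟩, e⟩ := (memQ h).1 hm1
  have h1 : F h (a, b) ∉ V := fun k => hn (by rw [e] at k; simpa [mul_assoc] using conj_mem' hm k)
  have h2 : F h (a, b) = m * g * n⁻¹ * f 0 qm * (m * g * n⁻¹)⁻¹ := by rw [e, ← hn1]; group
  generalize m * g * n⁻¹ = c at h2
  have h3 : F h (a, b) * F h (a, b) = 1 := by rw [h2, conj_mul, CA.zz h]; simp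
  rw [← map_mul, ← map_one (F h), F_eq] at h3
  have h4 : ¬ pm b a := fun k => h1 ((mV h).2 ⟨_, _, k, rfl⟩)
  obtain ⟨k, k', hk, ha, hb⟩ : ∃ k k', k ≠ k' ∧ pm a (bas k) ∧ pm b (bas k') := by
    revert h3 h4
    clear * -
    revert a b
    decide +kernel
  obtain ⟨p, p2, p3, p4⟩ : ∃ p : Q8 × Q8, p * (a, b) = (a, b) * p * (qm, qm) ∧ ⁅((a, 1) : Q8 × Q8), p⁆ = (qm, 1) ∧
      (p.1, 1) * (a, b) ≠ (a, b) * (p.1, 1) ∧ (p.1, 1) * (a, b) ≠ (a, b) * (p.1, 1) * (qm, qm) := by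
    revert h3 h4
    clear * -
    revert a b
    decide +kernel
  have p1 : ((a, 1) : Q8 × Q8) * (a, b) = (a, b) * (a, 1) := by simp
  have k1 : ∀ {p : Q8 × Q8}, F h p ∈ QQ f ⊓ cen (F h (a, b)) ↔
      p * (a, b) = (a, b) * p ∨ p * (a, b) = (a, b) * p * (qm, qm) := fun {p} => by
    rw [mem_inf, mem_centralizer_singleton_iff, ← map_mul, ← map_mul, F_eq, and_iff_right (FQ h p)]
  have k2 : 𝒩(QQ f ⊓ cen (F h (a, b))) ≤ cen (f 0 qm) := fun y hy => by
    have e1 : y * f 0 qm * y⁻¹ = ⁅y * F h (a, 1) * y⁻¹, y * F h p * y⁻¹⁆ := by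
      rw [← conjugate_commutatorElement, ← map_commutatorElement, p3, ← F0]
    rcases cmQ h (conj_mem hy (k1.2 (.inl p1))).1 (conj_mem hy (k1.2 (.inr p2))).1 with e2 | e2
    · rw [commutatorElement_eq_one_iff_mul_comm.2 e2, conj_eq_one_iff] at e1
      exact absurd e1 (CA.z1 h)
    · rw [commutatorElement_def, mul_assoc (_ * _) _⁻¹, ← mul_inv_rev, e2,
        cz h (mul_mem (conj_mem hy (k1.2 (.inr p2))).1 (conj_mem hy (k1.2 (.inl p1))).1), mul_inv_cancel_right] at e1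
      exact mem_centralizer_singleton_iff.2 (mul_inv_eq_iff_eq_mul.1 e1)
  obtain ⟨S, hS, hle⟩ := exists_isSylowIn_ge ((Q2 h).to_le (inf_le_left (b := cen (F h (a, b))))) inf_le_right
  have k3 : Nat.card (QQ f) ≤ Nat.card S := by
    rw [← card_cj c]
    refine hS.card_le (isPGroup_cj (Q2 h) c) ?_
    rintro _ ⟨y, hy, rfl⟩
    rw [h2]
    exact mem_centralizer_singleton_iff.2 ((conj_mul.trans (by rw [cz h hy])).trans conj_mul.symm)
  have k4 : QQ f ⊓ cen (F h (a, b)) < S := lt_of_le_of_ne hle fun e =>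
    (card_lt_card_of_lt (lt_of_le_of_ne inf_le_left fun e => (k1.1 (e.ge (FQ h _))).elim p4.1 p4.2)).not_ge (e ▸ k3)
  exact (lt_inf_normalizer_of_isPGroup hS.isPGroup k4).not_ge fun y hy =>
    ⟨cen_le h hφ hV hk ha hb (k2 hy.2) (hS.le hy.1), hS.le hy.1⟩

theorem invThm : InvThm.{u} := by
  intro G _ _ V f x ρ r φ h hφ hr t ht h2 h1
  have ax : Act f x fun _ => xi := h.xact
  have aρ : Act f ρ fun _ => th := h.rho
  have px := phi_of h hφ ax (fun _ => swap 1 2) (by decide +kernel)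
  have pρ := phi_of h hφ aρ (fun _ => finRotate 3) (by decide +kernel)
  have pr := phi_of h hφ (act_r hr) ![finRotate 3, 1] (by decide +kernel)
  have h3 : Hp f x ρ r ≤ W φ ((Perm.sign.comp (Pi.evalMonoidHom (fun _ => Perm (Fin 3)) 0)).eqLocus
      (Perm.sign.comp (Pi.evalMonoidHom (fun _ => Perm (Fin 3)) 1))) := sup_le (Q_le_W h hφ _) ((closure_le _).2 (by
    rintro _ (rfl | rfl | rfl)
    exacts [⟨_, ⟨_, rfl, px.symm⟩, rfl⟩, ⟨_, ⟨_, rfl, pρ.symm⟩, rfl⟩,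
      ⟨_, ⟨_, show Perm.sign (finRotate 3) = Perm.sign (1 : Perm (Fin 3)) by decide +kernel, pr.symm⟩, rfl⟩]))
  obtain ⟨g, ⟨π, hπ, e⟩, rfl⟩ := h3 ht
  have h4 : blk (π * π) = 1 := by rw [map_mul, e, ← map_mul, show g * g = 1 from Subtype.ext h2, map_one]
  have h5 : π = 1 ∨ ∃ i j : Fin 3, (![finRotate 3, 1] ^ i.val * (fun _ => finRotate 3) ^ j.val) * π *
      (![finRotate 3, 1] ^ i.val * (fun _ => finRotate 3) ^ j.val)⁻¹ * (fun _ => swap 1 2)⁻¹ = 1 := by
    have h6 : Perm.sign (π 0) = Perm.sign (π 1) := hπ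
    have h7 : ∀ s k, π s (π s k) = k := fun s k => congrArg Prod.snd (DFunLike.congr_fun h4 (s, k))
    revert h6 h7
    clear * -
    revert π
    decide +kernel
  rcases h5 with rfl | ⟨i, j, h5⟩
  · exact inv_Q h hr ((hφ.ker g).1 (by rw [← e, map_one])) h2 h1
  · have h6 := congrArg blk h5
    simp only [map_mul, map_inv, map_pow, map_one] at h6
    rw [e, ← px, ← pρ, ← pr] at h6
    simp only [← map_mul, ← map_inv, ← map_pow, hφ.ker] at h6
    have h7 : r ^ i.val * ρ ^ j.val * g * (r ^ i.val * ρ ^ j.val)⁻¹ ∈ 𝒩(V) :=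
      (mul_mem_cancel_right (inv_mem (nV h ax (by decide +kernel)))).1 (Q_le h h6)
    generalize r ^ i.val * ρ ^ j.val = u at h7
    change (g : G) * g = 1 at h2
    obtain ⟨m, -, hm⟩ := h.inv _ h7 (by rw [conj_mul, h2]; simp)
    refine (isConj_iff.2 ⟨m * u, ?_⟩).trans (inv_Q h hr hm (by rw [conj_mul, conj_mul, h2]; simp)
      (by rwa [Ne, conj_eq_one_iff, conj_eq_one_iff]))
    change _ * (g : G) * _ = _
    group

theorem CA.pow12 {G : Type*} [Group G] {f : Q8 →* G} (hf : Function.Injective f) {g : G} (hg : g ∈ 𝒩(f.range)) :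
    g ^ 12 ∈ 𝒞(f.range) := by
  have h1 := CL.Transfer.card_mulAut_q8_dvd
    (MulAut.congr (MonoidHom.ofInjective hf).symm (f.range.normalizerMonoidHom ⟨g, hg⟩))
  rw [← map_pow, MulEquiv.map_eq_one_iff, ← map_pow, ← MonoidHom.mem_ker, normalizerMonoidHom_ker] at h1
  exact h1

theorem CA.odd_index {G : Type*} [Group G] [Finite G] {V : Subgroup G} {f : Fin 2 → (Q8 →* G)} {x ρ : G}
    (h : Fr V f x ρ) : Odd (cen (f 0 qm)).index := by
  obtain ⟨S, hS, hle⟩ := exists_isSylowIn_ge (H := cen (f 0 qm)) (Q2 h)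
    fun g hg => mem_centralizer_singleton_iff.2 (cz h hg)
  have h1 : 𝒩(S) ≤ cen (f 0 qm) := fun y hy => by
    have h2 : y * f 0 qm * y⁻¹ ∈ 𝒞(QQ f) := fun q hq => by
      have := mem_centralizer_singleton_iff.1 (hS.le (conj_mem' hy (hle hq)))
      calc _ = y * (y⁻¹ * q * y * f 0 qm) * y⁻¹ := by group
        _ = _ := by rw [this]; group
    exact mem_centralizer_singleton_iff.2 (mul_inv_eq_iff_eq_mul.1 ((h.cQ _ h2).resolve_left
      fun e => CA.z1 h (conj_eq_one_iff.1 e)))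
  have h2 : IsSylowIn 2 S ⊤ := isSylowIn_of_maximal le_top hS.isPGroup fun U hU h3 _ => by
    by_contra h4
    have h5 := lt_inf_normalizer_of_isPGroup hU (lt_of_le_of_ne h3 (Ne.symm h4))
    exact h5.ne' (hS.eq_of_le (hU.to_le inf_le_left) h5.le (inf_le_right.trans h1))
  have h3 := h2.not_dvd_relIndex_of_le hS.le le_top
  rwa [relIndex_top_right, ← even_iff_two_dvd, Nat.not_even_iff_odd] at h3

theorem caseHThm : CaseHThm.{u} := by
  intro G _ _ V f x ρ r h hG k _ hI hH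
  have ah : Act f h ![xi, id] := Fin.forall_fin_two.2 ⟨hH.h0, hH.h1⟩
  have ah' : Act f (x * h⁻¹) ![id, xi] := (Act.mul (α := fun _ => xi) k.xact
    (ah.inv ![fun a => xi (xi (xi a)), id] (by decide +kernel))).congr _ (by decide +kernel)
  generalize x * h⁻¹ = h' at ah'
  have hz : Commute h (f 0 qm) := ah.comm 0 _ (by decide)
  have hz' : Commute h' (f 0 qm) := ah'.comm 0 _ rfl
  have fQ : ∀ s a, f s a ∈ QQ f := Fin.forall_fin_two.2
    ⟨fun a => mem_sup_left ⟨a, rfl⟩, fun a => mem_sup_right ⟨a, rfl⟩⟩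
  -- the involution
  obtain ⟨b, hb, s2⟩ : ∃ b, (b = 1 ∨ b = qi) ∧ h * F k (qj, b) * (h * F k (qj, b)) = 1 := by
    have e : ∀ b, h * F k (qj, b) * (h * F k (qj, b)) = F k (xi qj, b) * (h * h) * F k (qj, b) := fun b => by
      have := actF k ah qj b
      simp only [Matrix.cons_val_zero, Matrix.cons_val_one, id] at this
      rw [← this]; group
    rcases actEq k (ah.mul ah) (act0 k qi) (by decide +kernel) with e1 | e1
    · exact ⟨qi, .inr rfl, by rw [e, e1, F0 k, ← map_mul, ← map_mul, ← map_one (F k), F_eq]; decide +kernel⟩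
    · exact ⟨1, .inl rfl, by
        rw [e, e1, F0 k, F0 k, ← map_mul, ← map_mul, ← map_mul, ← map_one (F k), F_eq]; decide +kernel⟩
  have sH : h * F k (qj, b) ∉ Hp f x ρ r := fun e =>
    hH.nm ((mul_mem_cancel_right (mem_sup_left (FQ k _))).1 e)
  -- the element of order eight
  have y4 : h' ^ 4 = f 0 qm := by
    rw [show h' ^ 4 = h' * h' * (h' * h') by simp only [pow_succ, pow_zero, one_mul, mul_assoc]]
    rcases actEq k (ah'.mul ah') (act1 k qi) (by decide +kernel) with e1 | e1 <;>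
      simp only [e1, F0 k, F1 k, ← map_mul, F_eq] <;> decide +kernel
  obtain ⟨y, y1, y2⟩ : ∃ y, Commute y (h * F k (qj, b)) ∧ y ^ 4 = f 0 qm := by
    have c1 : Commute h' (F k (qj, b)) := (ah'.comm 0 _ rfl).mul_right
      (ah'.comm 1 _ (by rcases hb with rfl | rfl <;> decide))
    rcases actEq k (ah'.mul ah) (ah.mul ah') (by decide +kernel) with e1 | e1
    · exact ⟨h', (show Commute h' h from e1).mul_right c1, y4⟩
    · have c2 : Commute h' (f 0 qi) := ah'.comm 0 _ rfl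
      have c3 : Commute h (f 0 qi) := ah.comm 0 _ (by decide)
      have c4 : f 0 qi * F k (qj, b) = f 0 qm * (F k (qj, b) * f 0 qi) := by
        simp only [F0 k, ← map_mul, F_eq]; clear * -; revert b; decide +kernel
      refine ⟨h' * f 0 qi, ?_, by rw [c2.mul_pow, y4, ← map_pow, show qi ^ 4 = 1 by decide, map_one, mul_one]⟩
      calc h' * f 0 qi * (h * F k (qj, b)) = h' * h * (f 0 qi * F k (qj, b)) := by
            rw [mul_assoc, ← mul_assoc (f 0 qi), ← c3.eq]; group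
        _ = h * h' * (f 0 qm * f 0 qm) * F k (qj, b) * f 0 qi := by rw [e1, c4]; group
        _ = _ := by rw [CA.zz k, mul_one, mul_assoc h, c1.eq]; group
  generalize h * F k (qj, b) = s at s2 sH y1
  obtain ⟨g, hg⟩ : ∃ g : G, g * s * g⁻¹ ∈ Hp f x ρ r := by
    by_contra! hn
    obtain ⟨N, hN, h1, h2⟩ := CL.Transfer.thompson_transfer _ _ (CA.odd_index k) hH.idx s (by rwa [pow_two]) hn
    rcases hG.simple.eq_bot_or_eq_top_of_normal N hN with rfl | rfl
    · rw [index_bot] at h1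
      haveI := isCyclic_of_prime_card (p := 2) h1
      exact hG.nonab inferInstance
    · exact h2 (mem_top s)
  obtain ⟨m, hm⟩ := isConj_iff.1 (hI _ hg (by rw [conj_mul, s2]; simp) fun e =>
    sH (by rw [conj_eq_one_iff.1 e]; exact one_mem _))
  replace hm : m * g * s * (m * g)⁻¹ = f 0 qm := by rw [← hm]; group
  generalize m * g = c at hm
  have h1 : c * y * c⁻¹ ∈ cen (f 0 qm) := mem_centralizer_singleton_iff.2 (by rw [← hm, conj_mul, conj_mul, y1.eq])
  have h2 : (c * y * c⁻¹) ^ 12 = c * f 0 qm * c⁻¹ := by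
    rw [conj_pow, show 12 = 4 * 3 from rfl, pow_mul, y2, pow_succ, pow_two, CA.zz k, one_mul]
  rcases k.cQ (c * f 0 qm * c⁻¹) (by
    rw [cent_sup, ← h2]; exact ⟨CA.pow12 (k.inj 0) (hH.nrm 0 h1), CA.pow12 (k.inj 1) (hH.nrm 1 h1)⟩) with e | e
  · exact CA.z1 k (conj_eq_one_iff.1 e)
  · exact sH (mul_left_cancel (mul_right_cancel (e.trans hm.symm)) ▸ mem_sup_left (fQ 0 qm))

end CL.ON3
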